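import Cfsg.Agent.Lib.Forms.Classify
/-
Standard bases.
* `polar_qfPlus`, `polar_qfOdd`, `polar_qfMinus` : polar forms of the standard forms
* `exists_no_root` : some `ζ` with `t² + t + ζ` without root
* `classify_even`, `classify_odd` : classification in a given dimension, minus part normalised
-/

set_option autoImplicit false

namespace Cfsg.Agent.Forms

variable {F V : Type*} [Field F] [AddCommGroup V] [Module F V]

theorem polar_qfPlus (m : ℕ) (x y : Fin m ⊕ Fin m → F) : QuadraticMap.polar (qfPlus m F) x y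
    = ∑ i, (x (.inl i) * y (.inr i) + x (.inr i) * y (.inl i)) := by
  simp only [QuadraticMap.polar, qfPlus_apply, quadFormPlus, Pi.add_apply, ← Finset.sum_sub_distrib]
  exact Finset.sum_congr rfl fun i _ => by ring

theorem polar_qfOdd (m : ℕ) (x y : Unit ⊕ (Fin m ⊕ Fin m) → F) :
    QuadraticMap.polar (qfOdd m F) x y = 2 * x (.inl ()) * y (.inl ())
      + ∑ i, (x (.inr (.inl i)) * y (.inr (.inr i)) + x (.inr (.inr i)) * y (.inr (.inl i))) := by
  simp only [QuadraticMap.polar, qfOdd_apply, quadFormOdd, Pi.add_apply]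
  rw [show ∑ i, (x (.inr (.inl i)) + y (.inr (.inl i))) * (x (.inr (.inr i)) + y (.inr (.inr i)))
      = ∑ i, x (.inr (.inl i)) * x (.inr (.inr i)) + ∑ i, y (.inr (.inl i)) * y (.inr (.inr i))
        + ∑ i, (x (.inr (.inl i)) * y (.inr (.inr i)) + x (.inr (.inr i)) * y (.inr (.inl i))) from by
    rw [← Finset.sum_add_distrib, ← Finset.sum_add_distrib]
    exact Finset.sum_congr rfl fun i _ => by ring]
  ring

theorem polar_qfMinus (m : ℕ) (a b : F) (x y : (Fin m ⊕ Fin m) ⊕ Fin 2 → F) :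
    QuadraticMap.polar (qfMinus m F a b) x y
      = ∑ i, (x (.inl (.inl i)) * y (.inl (.inr i)) + x (.inl (.inr i)) * y (.inl (.inl i)))
        + (2 * x (.inr 0) * y (.inr 0) + a * (x (.inr 0) * y (.inr 1) + x (.inr 1) * y (.inr 0))
          + 2 * b * x (.inr 1) * y (.inr 1)) := by
  simp only [QuadraticMap.polar, qfMinus_apply, quadFormMinus, Pi.add_apply]
  rw [show ∑ i, (x (.inl (.inl i)) + y (.inl (.inl i))) * (x (.inl (.inr i)) + y (.inl (.inr i)))
      = ∑ i, x (.inl (.inl i)) * x (.inl (.inr i)) + ∑ i, y (.inl (.inl i)) * y (.inl (.inr i))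
        + ∑ i, (x (.inl (.inl i)) * y (.inl (.inr i)) + x (.inl (.inr i)) * y (.inl (.inl i))) from by
    rw [← Finset.sum_add_distrib, ← Finset.sum_add_distrib]
    exact Finset.sum_congr rfl fun i _ => by ring]
  ring

/-- Some `t² + t + ζ` has no root, and then gives an anisotropic binary form. -/
theorem exists_no_root [Finite F] : ∃ ζ : F, (∀ t : F, t ^ 2 + t + ζ ≠ 0) ∧
    ∀ x y : F, x ^ 2 + 1 * x * y + ζ * y ^ 2 = 0 → x = 0 ∧ y = 0 := by
  have hni : ¬ Function.Injective (fun t : F => -(t ^ 2 + t)) := fun h =>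
    absurd (h (a₁ := 0) (a₂ := -1) (by norm_num)) (by norm_num)
  have hns : ¬ Function.Surjective (fun t : F => -(t ^ 2 + t)) := fun h =>
    hni (Finite.injective_iff_surjective.2 h)
  simp only [Function.Surjective] at hns
  push Not at hns
  obtain ⟨ζ, hζ⟩ := hns
  have hroot : ∀ t : F, t ^ 2 + t + ζ ≠ 0 := fun t h => hζ t (by linear_combination -h)
  refine ⟨ζ, hroot, fun x y h => ?_⟩
  by_cases hy : y = 0
  · subst hy
    simpa using h
  · exact absurd (by field_simp; linear_combination h) (hroot (x / y))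

/-- Classification in even dimension. -/
theorem classify_even [Finite F] [FiniteDimensional F V] (Q : QuadraticForm F V)
    (hQ : (QuadraticMap.polarBilin Q).Nondegenerate) {m : ℕ}
    (hV : Module.finrank F V = 2 * m) {a b : F}
    (hab : ∀ x y : F, x ^ 2 + a * x * y + b * y ^ 2 = 0 → x = 0 ∧ y = 0) :
    (∃ e : (Fin m ⊕ Fin m → F) ≃ₗ[F] V, ∀ v, Q (e v) = qfPlus m F v) ∨
      1 ≤ m ∧ ∃ e : ((Fin (m - 1) ⊕ Fin (m - 1)) ⊕ Fin 2 → F) ≃ₗ[F] V,
        ∀ v, Q (e v) = qfMinus (m - 1) F a b v := by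
  rcases classify Q hQ with ⟨k, e, he⟩ | ⟨k, a', b', e, hab', he⟩ | ⟨k, c, e, -, -, -⟩
  · have h := e.finrank_eq
    simp [hV] at h
    obtain rfl : k = m := by omega
    exact Or.inl ⟨e, he⟩
  · have h := e.finrank_eq
    simp [hV] at h
    obtain rfl : m = k + 1 := by omega
    obtain ⟨ψ, hψ⟩ := qfMinus_equiv hab' hab k
    exact Or.inr ⟨by omega, ψ.trans e, fun v => by rw [LinearEquiv.trans_apply, he]; exact hψ v⟩
  · have h := e.finrank_eq
    simp [hV] at h
    omega

/-- Classification in odd dimension. -/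
theorem classify_odd [Finite F] [FiniteDimensional F V] (Q : QuadraticForm F V)
    (hQ : (QuadraticMap.polarBilin Q).Nondegenerate) {m : ℕ}
    (hV : Module.finrank F V = 2 * m + 1) :
    (2 : F) ≠ 0 ∧ ∃ (c : F) (e : (Unit ⊕ (Fin m ⊕ Fin m) → F) ≃ₗ[F] V),
      c ≠ 0 ∧ ∀ v, Q (e v) = c * qfOdd m F v := by
  rcases classify Q hQ with ⟨k, e, -⟩ | ⟨k, a', b', e, -, -⟩ | ⟨k, c, e, hc, h2, he⟩
  · have h := e.finrank_eq
    simp [hV] at h
    omega
  · have h := e.finrank_eq
    simp [hV] at h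
    omega
  · have h := e.finrank_eq
    simp [hV] at h
    obtain rfl : k = m := by omega
    exact ⟨h2, c, e, hc, he⟩

theorem polar_similar {W : Type*} [AddCommGroup W] [Module F W] (Q : V → F) (Q' : W → F)
    (e : W ≃ₗ[F] V) (c : F) (h : ∀ w, Q (e w) = c * Q' w) (x y : W) :
    QuadraticMap.polar Q (e x) (e y) = c * QuadraticMap.polar Q' x y := by
  simp only [QuadraticMap.polar, ← map_add, h]
  ring

end Cfsg.Agent.Forms
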