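import Cfsg.Agent.Lib.Forms.Standard
/-
Counting over finite fields for quadratic forms.
* `card_zeros_hypExt`, `card_preservingFun_hypExt` : recursion along a hyperbolic plane
* `card_zeros_qfPlus/qfOdd/qfMinus`, `card_preservingFun_qfPlus/qfOdd/qfMinus` : closed formulas
* `qfBin_surjective`, `card_qfBin_eq` : anisotropic binary forms
-/

set_option autoImplicit false

namespace Cfsg.Agent.Forms

variable {F V W : Type*} [Field F] [AddCommGroup V] [Module F V] [AddCommGroup W] [Module F W]

/-- Zeros correspond under similitudes. -/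
theorem card_zeros_congr (Q : V → F) (Q' : W → F) (e : V ≃ₗ[F] W) (c : F) (hc : c ≠ 0)
    (h : ∀ v, Q' (e v) = c * Q v) :
    Nat.card {w // Q' w = 0} = Nat.card {v // Q v = 0} :=
  (Nat.card_congr (e.toEquiv.subtypeEquiv fun v => by simp [h, hc])).symm

/-- Non-zero zeros. -/
theorem card_ne_zero_zeros [Finite V] (Q : QuadraticForm F V) :
    Nat.card {v // v ≠ 0 ∧ Q v = 0} + 1 = Nat.card {v // Q v = 0} := by
  classical
  have e : {v // Q v = 0} ≃ Option {v // v ≠ 0 ∧ Q v = 0} :=
    { toFun := fun v => if h : v.1 = 0 then none else some ⟨v.1, h, v.2⟩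
      invFun := fun o => o.elim ⟨0, QuadraticMap.map_zero Q⟩ fun v => ⟨v.1, v.2.2⟩
      left_inv := fun v => by
        by_cases h : v.1 = 0
        · simp only [h, dif_pos, Option.elim_none]; exact Subtype.ext h.symm
        · simp [h]
      right_inv := fun o => by
        rcases o with _ | v
        · simp
        · simp [v.2.1] }
  rw [Nat.card_congr e, Finite.card_option]

/-- Number of zeros of a hyperbolic extension. -/
theorem card_zeros_hypExt [Finite F] [Finite V] (Q : QuadraticForm F V) :
    Nat.card {p // hypExt Q p = 0}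
      = (Nat.card F - 1) * Nat.card V + Nat.card F * Nat.card {v // Q v = 0} := by
  classical
  haveI := Fintype.ofFinite F
  haveI := Fintype.ofFinite V
  have hne : Nat.card {a : F // a ≠ 0} = Nat.card F - 1 := by
    simp [Nat.card_eq_fintype_card, Fintype.card_subtype_compl]
  let e : {p // hypExt Q p = 0} ≃ ({a : F // a ≠ 0} × V) ⊕ (F × {v // Q v = 0}) :=
    { toFun := fun p =>
        if h : p.1.1.1 = 0 then
          .inr (p.1.1.2, ⟨p.1.2, by have := p.2; simpa [h] using this⟩)
        else .inl (⟨p.1.1.1, h⟩, p.1.2)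
      invFun := fun s => s.elim
        (fun x => ⟨((x.1.1, - Q x.2 / x.1.1), x.2), by simp [mul_div_cancel₀ _ x.1.2]⟩)
        (fun x => ⟨((0, x.1), x.2.1), by simp [x.2.2]⟩)
      left_inv := fun p => by
        rcases p with ⟨⟨⟨a, b⟩, v⟩, hp⟩
        simp only [hypExt_apply] at hp
        by_cases h : a = 0
        · subst h; simp
        · simp [h]
          field_simp
          linear_combination -hp
      right_inv := fun s => by
        rcases s with ⟨⟨a, ha⟩, v⟩ | ⟨b, v, hv⟩ <;> simp [*] }
  rw [Nat.card_congr e, Nat.card_sum, Nat.card_prod, Nat.card_prod, hne]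

/-- For a non-zero singular vector `e`, the partners `f` forming a hyperbolic pair with it. -/
theorem card_partners [Finite F] [FiniteDimensional F V] (Q : QuadraticForm F V)
    (hQ : (QuadraticMap.polarBilin Q).Nondegenerate) {e : V} (he : e ≠ 0) (hQe : Q e = 0) :
    Nat.card F ^ 2 * Nat.card {f // Q f = 0 ∧ QuadraticMap.polar Q e f = 1} = Nat.card V := by
  haveI : Finite V := Module.finite_of_finite F
  obtain ⟨f₁, -, hf₁⟩ := exists_dual_vector (QuadraticMap.polarBilin Q) hQ.2 ⊥ e (by simpa using he) 1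
  have hef₁ : QuadraticMap.polar Q e f₁ = 1 := by rw [QuadraticMap.polar_comm]; exact hf₁
  have hee : QuadraticMap.polar Q e e = 0 := by rw [QuadraticMap.polar_self, hQe, smul_zero]
  let A : V → V := fun v => v - (QuadraticMap.polar Q e v - 1) • f₁
  have hA : ∀ v, QuadraticMap.polar Q e (A v) = 1 := fun v => by
    simp [A, QuadraticMap.polar_sub_right, QuadraticMap.polar_smul_right, hef₁]
  let e' : V ≃ F × F × {f // Q f = 0 ∧ QuadraticMap.polar Q e f = 1} :=
    { toFun := fun v => (QuadraticMap.polar Q e v, Q (A v), ⟨A v - Q (A v) • e, by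
          rw [sub_eq_add_neg, ← neg_smul, QuadraticMap.map_add (⇑Q), QuadraticMap.map_smul, hQe,
            QuadraticMap.polar_smul_right, QuadraticMap.polar_comm, hA, smul_eq_mul]
          simp, by
          rw [QuadraticMap.polar_sub_right, QuadraticMap.polar_smul_right, hA, hee, smul_zero,
            sub_zero]⟩)
      invFun := fun x => x.2.2.1 + x.2.1 • e + (x.1 - 1) • f₁
      left_inv := fun v => by simp [A]
      right_inv := fun x => by
        rcases x with ⟨s, t, f, hf, hf'⟩
        have h1 : QuadraticMap.polar Q e (f + t • e + (s - 1) • f₁) = s := by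
          rw [QuadraticMap.polar_add_right, QuadraticMap.polar_add_right,
            QuadraticMap.polar_smul_right, QuadraticMap.polar_smul_right, hee, hf', hef₁,
            smul_eq_mul, smul_eq_mul]
          ring
        have h2 : A (f + t • e + (s - 1) • f₁) = f + t • e := by
          simp [A, h1]
        have h3 : Q (f + t • e) = t := by
          rw [QuadraticMap.map_add (⇑Q), QuadraticMap.map_smul, hQe, hf,
            QuadraticMap.polar_smul_right, QuadraticMap.polar_comm, hf', smul_eq_mul]
          simp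
        simp only [Prod.mk.injEq, h1, h2, h3, Subtype.mk.injEq, true_and]
        exact add_sub_cancel_right f (t • e) }
  rw [Nat.card_congr e', Nat.card_prod, Nat.card_prod, pow_two, mul_assoc]

section HypExt

variable (Q : QuadraticForm F V)

/-- Hyperbolic pairs. -/
abbrev HypPairs : Type _ :=
  {p : ((F × F) × V) × ((F × F) × V) //
    hypExt Q p.1 = 0 ∧ hypExt Q p.2 = 0 ∧ QuadraticMap.polar (hypExt Q) p.1 p.2 = 1}

/-- The standard hyperbolic pair `(e₀, f₀)` is carried to any other by an isometry. -/
theorem exists_isometry_hypPair [FiniteDimensional F V]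
    (hQ : (QuadraticMap.polarBilin Q).Nondegenerate) (p : HypPairs Q) :
    ∃ g : preservingFun (F := F) (⇑(hypExt Q)),
      g.1 ((1, 0), 0) = p.1.1 ∧ g.1 ((0, 1), 0) = p.1.2 := by
  obtain ⟨⟨e, f⟩, he, hf, hef⟩ := p
  simp only at he hf hef
  let φ : ((F × F) × V) →ₗ[F] ((F × F) × V) :=
    (((LinearMap.fst F F F).smulRight e) + ((LinearMap.snd F F F).smulRight f)).comp
      (LinearMap.fst F (F × F) V)
  let X : Submodule F ((F × F) × V) := LinearMap.ker (LinearMap.snd F (F × F) V)
  have hX : ∀ x, x ∈ X ↔ x.2 = 0 := fun x => Iff.rfl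
  have hφ : ∀ x, φ x = x.1.1 • e + x.1.2 • f := fun x => rfl
  have hφe : ∀ a b : F, QuadraticMap.polar (hypExt Q) e (a • e + b • f) = b := fun a b => by
    simp [QuadraticMap.polar_add_right, QuadraticMap.polar_smul_right, QuadraticMap.polar_self,
      he, hef, smul_eq_mul]
  have hφf : ∀ a b : F, QuadraticMap.polar (hypExt Q) f (a • e + b • f) = a := fun a b => by
    simp [QuadraticMap.polar_add_right, QuadraticMap.polar_smul_right, QuadraticMap.polar_self,
      QuadraticMap.polar_comm (hypExt Q) f e, hf, hef, smul_eq_mul]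
  obtain ⟨g, hg, hgX⟩ := witt_quadratic_map (hypExt Q) (hypExt_nondegenerate Q hQ) X φ
    (fun x hx h0 => by
      rw [hX] at hx
      rw [hφ] at h0
      have h1 := hφe x.1.1 x.1.2
      have h2 := hφf x.1.1 x.1.2
      rw [h0, QuadraticMap.polar_zero_right] at h1 h2
      ext <;> simp [← h1, ← h2, hx])
    (fun x hx => by
      rw [hX] at hx
      rw [hφ, QuadraticMap.map_add (⇑(hypExt Q)), QuadraticMap.map_smul, QuadraticMap.map_smul, he,
        hf, QuadraticMap.polar_smul_left, QuadraticMap.polar_smul_right, hef]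
      simp [hx])
  refine ⟨⟨g, hg⟩, ?_, ?_⟩
  · exact (hgX _ rfl).trans (by simp [hφ])
  · exact (hgX _ rfl).trans (by simp [hφ])

/-- The stabiliser of the standard hyperbolic pair is the isometry group of `Q`. -/
noncomputable def stabHypPairEquiv :
    {g : preservingFun (F := F) (⇑(hypExt Q)) //
      g.1 ((1, 0), 0) = ((1, 0), 0) ∧ g.1 ((0, 1), 0) = ((0, 1), 0)} ≃
      preservingFun (F := F) (⇑Q) := by
  classical
  have key : ∀ g : {g : preservingFun (F := F) (⇑(hypExt Q)) //
      g.1 ((1, 0), 0) = ((1, 0), 0) ∧ g.1 ((0, 1), 0) = ((0, 1), 0)},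
      ∀ v : V, g.1.1 ((0, 0), v) = ((0, 0), (g.1.1 ((0, 0), v)).2) := by
    intro g v
    have h1 := polar_map_of_preserving (g := g.1.1) g.1.2 ((1, 0), 0) ((0, 0), v)
    have h2 := polar_map_of_preserving (g := g.1.1) g.1.2 ((0, 1), 0) ((0, 0), v)
    rw [g.2.1] at h1
    rw [g.2.2] at h2
    simp [polar_hypExt] at h1 h2
    ext <;> simp [h1, h2]
  exact
    { toFun := fun g =>
        ⟨{ toFun := fun v => (g.1.1 ((0, 0), v)).2
           invFun := fun v => (g.1.1.symm ((0, 0), v)).2
           map_add' := fun v w => by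
            rw [← Prod.snd_add, ← map_add]; simp
           map_smul' := fun c v => by
            rw [RingHom.id_apply, ← Prod.smul_snd, ← map_smul]; simp
           left_inv := fun v => by
            show (g.1.1.symm ((0, 0), (g.1.1 ((0, 0), v)).2)).2 = v
            rw [← key g v, LinearEquiv.symm_apply_apply]
           right_inv := fun v => by
            have h' : g.1.1.symm ((0, 0), v) = ((0, 0), (g.1.1.symm ((0, 0), v)).2) := by
              have h1 := polar_map_of_preserving (g := g.1.1) g.1.2 ((1, 0), 0)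
                (g.1.1.symm ((0, 0), v))
              have h2 := polar_map_of_preserving (g := g.1.1) g.1.2 ((0, 1), 0)
                (g.1.1.symm ((0, 0), v))
              rw [g.2.1, LinearEquiv.apply_symm_apply] at h1
              rw [g.2.2, LinearEquiv.apply_symm_apply] at h2
              simp [polar_hypExt] at h1 h2
              ext <;> simp [← h1, ← h2]
            show (g.1.1 ((0, 0), (g.1.1.symm ((0, 0), v)).2)).2 = v
            rw [← h', LinearEquiv.apply_symm_apply] },
          fun v => by
            have h1 := g.1.2 ((0, 0), v)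
            rw [key g v] at h1
            simpa using h1⟩
      invFun := fun h =>
        ⟨⟨(LinearEquiv.refl F (F × F)).prodCongr h.1, fun p => by simp [h.2 p.2]⟩, by simp, by simp⟩
      left_inv := fun g => by
        apply Subtype.ext
        apply Subtype.ext
        apply LinearEquiv.ext
        rintro ⟨⟨a, b⟩, v⟩
        have hp : (((a, b), v) : (F × F) × V)
            = a • ((1, 0), 0) + b • ((0, 1), 0) + ((0, 0), v) := by simp
        conv_rhs => rw [hp, map_add, map_add, map_smul, map_smul, g.2.1, g.2.2, key g v]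
        simp
      right_inv := fun h => by
        apply Subtype.ext
        apply LinearEquiv.ext
        intro v
        simp }

/-- The recursion for orders of orthogonal groups. -/
theorem card_preservingFun_hypExt [Finite F] [FiniteDimensional F V]
    (hQ : (QuadraticMap.polarBilin Q).Nondegenerate) :
    Nat.card (preservingFun (F := F) (⇑(hypExt Q)))
      = (Nat.card {p // hypExt Q p = 0} - 1) * Nat.card V
        * Nat.card (preservingFun (F := F) (⇑Q)) := by
  classical
  haveI : Finite V := Module.finite_of_finite F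
  haveI : Finite (((F × F) × V) ≃ₗ[F] ((F × F) × V)) :=
    Finite.of_injective (fun g => (g : ((F × F) × V) → ((F × F) × V))) DFunLike.coe_injective
  haveI := Fintype.ofFinite (HypPairs Q)
  let π : preservingFun (F := F) (⇑(hypExt Q)) → HypPairs Q := fun g =>
    ⟨(g.1 ((1, 0), 0), g.1 ((0, 1), 0)), (g.2 _).trans (by simp), (g.2 _).trans (by simp),
      (polar_map_of_preserving g.2 _ _).trans (by simp [polar_hypExt])⟩
  have hfib : ∀ p, Nat.card {g // π g = p} = Nat.card (preservingFun (F := F) (⇑Q)) := by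
    intro p
    obtain ⟨g₀, he, hf⟩ := exists_isometry_hypPair Q hQ p
    refine (Nat.card_congr ((Equiv.mulLeft g₀).subtypeEquiv fun g => ?_)).symm.trans
      (Nat.card_congr (stabHypPairEquiv Q))
    constructor
    · rintro ⟨h1, h2⟩
      refine Subtype.ext (Prod.ext ?_ ?_)
      · show g₀.1 (g.1 ((1, 0), 0)) = p.1.1
        rw [h1, he]
      · show g₀.1 (g.1 ((0, 1), 0)) = p.1.2
        rw [h2, hf]
    · intro h
      have h1 : g₀.1 (g.1 ((1, 0), 0)) = p.1.1 := congrArg (fun r : HypPairs Q => r.1.1) h
      have h2 : g₀.1 (g.1 ((0, 1), 0)) = p.1.2 := congrArg (fun r : HypPairs Q => r.1.2) h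
      exact ⟨g₀.1.injective (h1.trans he.symm), g₀.1.injective (h2.trans hf.symm)⟩
  have hpairs : Nat.card (HypPairs Q)
      = (Nat.card {p // hypExt Q p = 0} - 1) * Nat.card V := by
    let e : HypPairs Q ≃ Σ e : {e // e ≠ 0 ∧ hypExt Q e = 0},
        {f // hypExt Q f = 0 ∧ QuadraticMap.polar (hypExt Q) e.1 f = 1} :=
      { toFun := fun p => ⟨⟨p.1.1, fun h => by
            simpa [h, QuadraticMap.polar_zero_left] using p.2.2.2, p.2.1⟩, ⟨p.1.2, p.2.2⟩⟩
        invFun := fun x => ⟨(x.1.1, x.2.1), x.1.2.2, x.2.2⟩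
        left_inv := fun p => rfl
        right_inv := fun x => rfl }
    have hpart : ∀ x : {e // e ≠ 0 ∧ hypExt Q e = 0},
        Nat.card {f // hypExt Q f = 0 ∧ QuadraticMap.polar (hypExt Q) x.1 f = 1} = Nat.card V :=
      fun x => by
      have h := card_partners (hypExt Q) (hypExt_nondegenerate Q hQ) x.2.1 x.2.2
      rw [Nat.card_prod, Nat.card_prod, pow_two] at h
      exact Nat.eq_of_mul_eq_mul_left (Nat.mul_pos Nat.card_pos Nat.card_pos) h
    haveI := Fintype.ofFinite {e : (F × F) × V // e ≠ 0 ∧ hypExt Q e = 0}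
    rw [Nat.card_congr e, Nat.card_sigma, Finset.sum_congr rfl fun x _ => hpart x]
    rw [Finset.sum_const, Finset.card_univ, ← Nat.card_eq_fintype_card, smul_eq_mul,
      Nat.eq_sub_of_add_eq (card_ne_zero_zeros (hypExt Q))]
  rw [← Nat.card_congr (Equiv.sigmaFiberEquiv π), Nat.card_sigma,
    Finset.sum_congr rfl fun p _ => hfib p, Finset.sum_const, Finset.card_univ,
    ← Nat.card_eq_fintype_card, smul_eq_mul, hpairs]

end HypExt

/-! ### Anisotropic binary forms -/

/-- An anisotropic binary form is surjective. -/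
theorem qfBin_surjective [Finite F] {a b : F} (hd : 4 * b - a ^ 2 ≠ 0) (c : F) :
    ∃ z, qfBin a b z = c := by
  haveI := Fintype.ofFinite F
  rcases eq_or_ne (ringChar F) 2 with h2 | h2
  · obtain ⟨r, hr⟩ := FiniteField.isSquare_of_char_two h2 c
    exact ⟨(r, 0), by simp [hr, pow_two]⟩
  · have h20 : (2 : F) ≠ 0 := Ring.two_ne_zero h2
    obtain ⟨s, t, hst⟩ := FiniteField.exists_root_sum_quadratic
      (f := (Polynomial.X : Polynomial F) ^ 2)
      (g := Polynomial.C (b - a ^ 2 / 4) * Polynomial.X ^ 2 - Polynomial.C c)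
      (Polynomial.degree_X_pow 2) (by
        have hd' : b - a ^ 2 / 4 ≠ 0 := by
          intro h
          apply hd
          have h4 : (4 : F) ≠ 0 := by
            rw [show (4 : F) = 2 * 2 by norm_num]; exact mul_ne_zero h20 h20
          field_simp at h
          linear_combination h
        rw [sub_eq_add_neg, ← map_neg]
        rw [Polynomial.degree_add_C (by rw [Polynomial.degree_C_mul_X_pow 2 hd']; decide),
          Polynomial.degree_C_mul_X_pow 2 hd']
        rfl) (FiniteField.odd_card_of_char_ne_two h2)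
    refine ⟨(s - a / 2 * t, t), ?_⟩
    simp at hst
    simp
    field_simp
    have h4 : (4 : F) ≠ 0 := by
      rw [show (4 : F) = 2 * 2 by norm_num]; exact mul_ne_zero h20 h20
    field_simp at hst
    linear_combination hst

/-- An anisotropic binary form takes every non-zero value `q + 1` times. -/
theorem card_qfBin_eq [Finite F] {a b : F}
    (hab : ∀ x y : F, x ^ 2 + a * x * y + b * y ^ 2 = 0 → x = 0 ∧ y = 0) {c : F} (hc : c ≠ 0) :
    Nat.card {z // qfBin a b z = c} = Nat.card F + 1 := by
  classical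
  haveI := Fintype.ofFinite F
  let m : F × F → F × F → F × F := fun z w =>
    (z.1 * w.1 - b * z.2 * w.2, z.1 * w.2 + z.2 * w.1 + a * z.2 * w.2)
  have hm : ∀ z w, qfBin a b (m z w) = qfBin a b z * qfBin a b w := fun z w => by
    simp [m]; ring
  have hanis : ∀ z, qfBin a b z = 0 → z = 0 := fun z hz => by
    obtain ⟨h1, h2⟩ := hab z.1 z.2 (by simpa using hz)
    exact Prod.ext h1 h2
  have hbij : ∀ z, z ≠ 0 → Function.Bijective (m z) := by
    intro z hz
    refine Finite.injective_iff_bijective.1 fun w w' h => ?_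
    have h0 : m z (w - w') = 0 := by
      have : m z (w - w') = m z w - m z w' := by ext <;> simp [m] <;> ring
      rw [this, h, sub_self]
    have := hm z (w - w')
    rw [h0, QuadraticMap.map_zero] at this
    rcases mul_eq_zero.1 this.symm with h1 | h1
    · exact absurd (hanis z h1) hz
    · exact sub_eq_zero.1 (hanis _ h1)
  let π : {z : F × F // z ≠ 0} → {t : F // t ≠ 0} := fun z =>
    ⟨qfBin a b z.1, fun h => z.2 (hanis _ h)⟩
  have h1 : ∀ t : F, t ≠ 0 →
      Nat.card {z // qfBin a b z = t} = Nat.card {z // qfBin a b z = 1} := by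
    intro t ht
    obtain ⟨z, hz⟩ := qfBin_surjective (disc_ne_zero_of_anisotropic hab) t
    have hz0 : z ≠ 0 := fun h => ht (by rw [← hz, h, QuadraticMap.map_zero])
    refine (Nat.card_congr ((Equiv.ofBijective _ (hbij z hz0)).subtypeEquiv fun w => ?_)).symm
    rw [Equiv.ofBijective_apply, hm, hz]
    exact ⟨fun h => by rw [h, mul_one], fun h => mul_left_cancel₀ ht (h.trans (mul_one t).symm)⟩
  have hfib : ∀ t : {t : F // t ≠ 0},
      Nat.card {z // π z = t} = Nat.card {z // qfBin a b z = 1} := by
    intro t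
    rw [← h1 t.1 t.2]
    exact Nat.card_congr
      { toFun := fun z => ⟨z.1.1, congrArg Subtype.val z.2⟩
        invFun := fun z => ⟨⟨z.1, fun h => t.2 (by rw [← z.2, h, QuadraticMap.map_zero])⟩,
          Subtype.ext z.2⟩
        left_inv := fun z => rfl
        right_inv := fun z => rfl }
  have htot := Nat.card_congr (Equiv.sigmaFiberEquiv π)
  rw [Nat.card_sigma, Finset.sum_congr rfl fun t _ => hfib t, Finset.sum_const, Finset.card_univ,
    smul_eq_mul] at htot
  simp only [Nat.card_eq_fintype_card, Fintype.card_subtype_compl, Fintype.card_subtype_eq,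
    Fintype.card_prod] at htot
  have hq := Fintype.one_lt_card (α := F)
  rw [h1 c hc, Nat.card_eq_fintype_card, Nat.card_eq_fintype_card]
  refine Nat.eq_of_mul_eq_mul_left (Nat.sub_pos_of_lt hq) ?_
  rw [htot, mul_comm (Fintype.card F - 1), ← Nat.sq_sub_sq]
  simp [pow_two]

/-- The isometry group of an anisotropic binary form has order `2 (q + 1)`. -/
theorem card_preservingFun_qfBin [Finite F] {a b : F}
    (hab : ∀ x y : F, x ^ 2 + a * x * y + b * y ^ 2 = 0 → x = 0 ∧ y = 0) :
    Nat.card (preservingFun (F := F) (⇑(qfBin a b))) = 2 * (Nat.card F + 1) := by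
  classical
  haveI : Finite ((F × F) ≃ₗ[F] (F × F)) := Finite.of_injective _ DFunLike.coe_injective
  haveI := Fintype.ofFinite F
  have hd := disc_ne_zero_of_anisotropic hab
  have hne : ((0 : F), (1 : F)) ≠ (a, -1) := by
    intro h
    obtain ⟨ha, h1⟩ := Prod.ext_iff.1 h
    simp only at ha h1
    exact hd (by rw [← ha]; linear_combination 2 * b * h1)
  let π : preservingFun (F := F) (⇑(qfBin a b)) → {z // qfBin a b z = 1} :=
    fun g => ⟨g.1 (1, 0), by rw [g.2]; simp⟩
  let S := {g : preservingFun (F := F) (⇑(qfBin a b)) // g.1 (1, 0) = ((1 : F), (0 : F))}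
  have hdecomp : ∀ (g : (F × F) ≃ₗ[F] (F × F)) (z : F × F),
      g z = z.1 • g (1, 0) + z.2 • g (0, 1) := fun g z => by
    rw [← map_smul, ← map_smul, ← map_add]
    simp
  have hT : ∀ f : F × F, (qfBin a b f = b ∧ QuadraticMap.polar (qfBin a b) (1, 0) f = a) →
      f = (0, 1) ∨ f = (a, -1) := by
    rintro ⟨x, y⟩ ⟨h1, h2⟩
    simp [polar_qfBin] at h1 h2
    have hy : (4 * b - a ^ 2) * ((y - 1) * (y + 1)) = 0 := by
      linear_combination 4 * h1 - (2 * x + a * y + a) * h2
    simp only [mul_eq_zero, hd, false_or, sub_eq_zero] at hy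
    rcases hy with hy | hy
    · subst hy
      have hx : x * (x + a) = 0 := by linear_combination h1
      rcases mul_eq_zero.1 hx with hx | hx
      · exact Or.inl (by rw [hx])
      · by_cases hx0 : x = 0
        · exact Or.inl (by rw [hx0])
        · right
          have h2x : 2 * x = 0 := by linear_combination h2
          have h20 : (2 : F) = 0 := (mul_eq_zero.1 h2x).resolve_right hx0
          exact Prod.ext (by linear_combination hx - a * h20) (by linear_combination h20)
    · have hy' : y = -1 := eq_neg_of_add_eq_zero_left hy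
      subst hy'
      have hx : x * (x - a) = 0 := by linear_combination h1
      rcases mul_eq_zero.1 hx with hx | hx
      · subst hx
        by_cases ha : a = 0
        · exact Or.inr (by rw [ha])
        · left
          have h2a : 2 * a = 0 := by linear_combination -h2
          have h20 : (2 : F) = 0 := (mul_eq_zero.1 h2a).resolve_right ha
          exact Prod.ext rfl (by linear_combination -h20)
      · exact Or.inr (by rw [sub_eq_zero.1 hx])
  let T := {f : F × F // qfBin a b f = b ∧ QuadraticMap.polar (qfBin a b) (1, 0) f = a}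
  let θ : S → T := fun g => ⟨g.1.1 (0, 1), by rw [g.1.2]; simp, by
    calc _ = QuadraticMap.polar (qfBin a b) (g.1.1 (1, 0)) (g.1.1 (0, 1)) := by rw [g.2]
      _ = a := by rw [polar_map_of_preserving g.1.2]; simp [polar_qfBin]⟩
  have hθ : Function.Bijective θ := by
    constructor
    · intro g g' h
      apply Subtype.ext
      apply Subtype.ext
      apply LinearEquiv.ext
      intro z
      rw [hdecomp g.1.1 z, hdecomp g'.1.1 z, g.2, g'.2, show g.1.1 (0, 1) = g'.1.1 (0, 1) from congrArg Subtype.val h]
    · rintro ⟨f, hf1, hf2⟩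
      obtain ⟨g, hg, hgf⟩ := exists_equiv_of_preserves (qfBin a b) (qfBin_nondegenerate hd)
        ((LinearMap.fst F F F).smulRight ((1 : F), (0 : F)) + (LinearMap.snd F F F).smulRight f)
        (fun z => by
          rw [LinearMap.add_apply, LinearMap.smulRight_apply, LinearMap.smulRight_apply,
            LinearMap.fst_apply, LinearMap.snd_apply, QuadraticMap.map_add (⇑(qfBin a b)),
            QuadraticMap.map_smul, QuadraticMap.map_smul, hf1, QuadraticMap.polar_smul_left,
            QuadraticMap.polar_smul_right, hf2]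
          simp
          ring)
      exact ⟨⟨⟨g, hg⟩, by simp [hgf]⟩, Subtype.ext (by simp [θ, hgf])⟩
  have hS : Nat.card S = 2 := by
    rw [Nat.card_congr (Equiv.ofBijective θ hθ), Nat.card_eq_two_iff]
    refine ⟨⟨(0, 1), by simp, by simp [polar_qfBin]⟩,
      ⟨(a, -1), by simp; ring, by simp [polar_qfBin]; ring⟩, fun h => hne (congrArg Subtype.val h),
      Set.eq_univ_of_forall fun f => ?_⟩
    rcases hT f.1 f.2 with h | h
    · exact Or.inl (Subtype.ext h)
    · exact Or.inr (Subtype.ext h)
  have hfib : ∀ z, Nat.card {g // π g = z} = 2 := by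
    intro z
    obtain ⟨g₀, hg₀, hg₀e⟩ := witt_quadratic_map (qfBin a b) (qfBin_nondegenerate hd)
      (LinearMap.ker (LinearMap.snd F F F)) ((LinearMap.fst F F F).smulRight z.1)
      (fun x hx h0 => by
        have hz : z.1 ≠ 0 := fun h => by simpa [h] using z.2
        simp [hz] at h0
        exact Prod.ext h0 hx)
      (fun x hx => by
        have hx' : x.2 = 0 := hx
        rw [LinearMap.smulRight_apply, QuadraticMap.map_smul, z.2]
        simp [hx', pow_two])
    have he : g₀ (1, 0) = z.1 := by simpa using hg₀e (1, 0) rfl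
    refine (Nat.card_congr ((Equiv.mulLeft (⟨g₀, hg₀⟩ : preservingFun (F := F) (⇑(qfBin a b)))
      ).subtypeEquiv fun g => ?_)).symm.trans hS
    simp only [Equiv.coe_mulLeft, π, Subtype.ext_iff, Subgroup.coe_mul, LinearEquiv.mul_apply,
      ← he]
    exact ⟨fun h => by rw [h], fun h => g₀.injective h⟩
  haveI := Fintype.ofFinite {z // qfBin a b z = 1}
  rw [← Nat.card_congr (Equiv.sigmaFiberEquiv π), Nat.card_sigma,
    Finset.sum_congr rfl fun z _ => hfib z, Finset.sum_const, Finset.card_univ, smul_eq_mul,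
    ← Nat.card_eq_fintype_card, card_qfBin_eq hab one_ne_zero, mul_comm]

/-! ### Closed formulas -/

section Formulas

variable [Finite F]

theorem card_zeros_qfPlus (m : ℕ) :
    (Nat.card {v // qfPlus (m + 1) F v = 0} : ℤ)
      = (Nat.card F : ℤ) ^ (2 * m + 1) + (Nat.card F : ℤ) ^ (m + 1) - (Nat.card F : ℤ) ^ m := by
  have h1 : 1 ≤ Nat.card F := Nat.card_pos
  have hstep : ∀ k, Nat.card {v // qfPlus (k + 1) F v = 0}
      = (Nat.card F - 1) * Nat.card F ^ (2 * k) + Nat.card F * Nat.card {v // qfPlus k F v = 0} :=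
    fun k => by
    rw [← card_zeros_congr (qfPlus (k + 1) F) (hypExt (qfPlus k F)) (plusSucc k) 1 one_ne_zero
      (fun v => by rw [hypExt_plusSucc, one_mul]), card_zeros_hypExt]
    simp [Nat.card_fun, two_mul]
  induction m with
  | zero =>
    have h0 : Nat.card {v // qfPlus 0 F v = 0} = 1 := by
      rw [Nat.card_eq_one_iff_unique]
      exact ⟨⟨fun x y => Subtype.ext (Subsingleton.elim _ _)⟩, ⟨0, QuadraticMap.map_zero _⟩⟩
    rw [hstep, h0]
    push_cast [h1]
    ring
  | succ m ih =>
    rw [hstep]
    push_cast [h1]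
    rw [ih]
    ring

theorem card_zeros_qfOdd (m : ℕ) :
    Nat.card {v // qfOdd m F v = 0} = Nat.card F ^ (2 * m) := by
  have h1 : 1 ≤ Nat.card F := Nat.card_pos
  induction m with
  | zero =>
    rw [Nat.mul_zero, pow_zero, Nat.card_eq_one_iff_unique]
    refine ⟨⟨fun x y => Subtype.ext ?_⟩, ⟨0, QuadraticMap.map_zero _⟩⟩
    have hx := x.2
    have hy := y.2
    simp [qfOdd_apply, quadFormOdd] at hx hy
    funext i
    rcases i with i | i | i
    · rw [hx, hy]
    · exact i.elim0
    · exact i.elim0
  | succ m ih =>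
    rw [← card_zeros_congr (qfOdd (m + 1) F) (hypExt (qfOdd m F)) (oddSucc m) 1 one_ne_zero
      (fun v => by rw [hypExt_oddSucc, one_mul]), card_zeros_hypExt, ih]
    simp [Nat.card_fun]
    zify [h1]
    ring

theorem card_zeros_qfMinus {a b : F}
    (hab : ∀ x y : F, x ^ 2 + a * x * y + b * y ^ 2 = 0 → x = 0 ∧ y = 0) (m : ℕ) :
    (Nat.card {v // qfMinus m F a b v = 0} : ℤ)
      = (Nat.card F : ℤ) ^ (2 * m + 1) + (Nat.card F : ℤ) ^ m - (Nat.card F : ℤ) ^ (m + 1) := by
  have h1 : 1 ≤ Nat.card F := Nat.card_pos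
  induction m with
  | zero =>
    have h0 : Nat.card {v // qfMinus 0 F a b v = 0} = 1 := by
      rw [Nat.card_eq_one_iff_unique]
      refine ⟨⟨fun x y => Subtype.ext ?_⟩, ⟨0, QuadraticMap.map_zero _⟩⟩
      have key : ∀ v, qfMinus 0 F a b v = 0 → minusZero v = 0 := fun v hv => by
        rw [← qfBin_minusZero, qfBin_apply] at hv
        exact Prod.ext (hab _ _ hv).1 (hab _ _ hv).2
      exact minusZero.injective ((key _ x.2).trans (key _ y.2).symm)
    rw [h0]
    simp
  | succ m ih =>
    rw [← card_zeros_congr (qfMinus (m + 1) F a b) (hypExt (qfMinus m F a b)) (minusSucc m) 1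
      one_ne_zero (fun v => by rw [hypExt_minusSucc, one_mul]), card_zeros_hypExt]
    push_cast [h1]
    rw [ih]
    simp [Nat.card_fun]
    ring

theorem card_preservingFun_qfPlus (m : ℕ) :
    Nat.card (preservingFun (F := F) (⇑(qfPlus (m + 1) F)))
      = 2 * Nat.card F ^ ((m + 1) * m) * (Nat.card F ^ (m + 1) - 1)
        * ∏ i ∈ Finset.range m, (Nat.card F ^ (2 * (i + 1)) - 1) := by
  have h1 : 1 ≤ Nat.card F := Nat.card_pos
  have hstep : ∀ k, Nat.card (preservingFun (F := F) (⇑(qfPlus (k + 1) F)))
      = (Nat.card {v // qfPlus (k + 1) F v = 0} - 1) * Nat.card F ^ (2 * k)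
        * Nat.card (preservingFun (F := F) (⇑(qfPlus k F))) := fun k => by
    rw [Nat.card_congr (preservingFunCongr (⇑(qfPlus (k + 1) F)) (⇑(hypExt (qfPlus k F)))
      (plusSucc k) 1 one_ne_zero (fun v => by rw [hypExt_plusSucc, one_mul])).toEquiv,
      card_preservingFun_hypExt _ (qfPlus_nondegenerate k),
      card_zeros_congr (qfPlus (k + 1) F) (hypExt (qfPlus k F)) (plusSucc k) 1 one_ne_zero
      (fun v => by rw [hypExt_plusSucc, one_mul])]
    simp [Nat.card_fun, two_mul]
  have hpos : ∀ k, 1 ≤ Nat.card {v // qfPlus k F v = 0} := fun k =>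
    Nat.one_le_iff_ne_zero.2 (Nat.card_ne_zero.2 ⟨⟨0, QuadraticMap.map_zero _⟩, inferInstance⟩)
  induction m with
  | zero =>
    have h0 : Nat.card (preservingFun (F := F) (⇑(qfPlus 0 F))) = 1 := by
      rw [Nat.card_eq_one_iff_unique]
      exact ⟨⟨fun g g' => Subtype.ext (LinearEquiv.ext fun v => Subsingleton.elim _ _)⟩,
        One.instNonempty⟩
    rw [hstep, h0]
    zify [hpos 1, h1]
    rw [card_zeros_qfPlus]
    simp
    ring
  | succ m ih =>
    rw [hstep, ih, Finset.prod_range_succ]
    zify [hpos (m + 1 + 1), Nat.one_le_pow _ _ h1]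
    rw [card_zeros_qfPlus]
    ring

theorem card_preservingFun_qfOdd (h2 : (2 : F) ≠ 0) (m : ℕ) :
    Nat.card (preservingFun (F := F) (⇑(qfOdd m F)))
      = 2 * Nat.card F ^ (m ^ 2) * ∏ i ∈ Finset.range m, (Nat.card F ^ (2 * (i + 1)) - 1) := by
  induction m with
  | zero =>
    haveI : Finite ((Unit ⊕ (Fin 0 ⊕ Fin 0) → F) ≃ₗ[F] (Unit ⊕ (Fin 0 ⊕ Fin 0) → F)) :=
      Finite.of_injective _ DFunLike.coe_injective
    simp only [Finset.range_zero, Finset.prod_empty, mul_one, zero_pow two_ne_zero, pow_zero]
    let o : Unit ⊕ (Fin 0 ⊕ Fin 0) → F := Pi.single (.inl ()) 1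
    have ho : ∀ v : Unit ⊕ (Fin 0 ⊕ Fin 0) → F, v = v (.inl ()) • o := fun v => by
      funext i
      rcases i with i | i | i
      · simp [o]
      · exact i.elim0
      · exact i.elim0
    have hg : ∀ g : preservingFun (F := F) (⇑(qfOdd 0 F)),
        g.1 o (.inl ()) = 1 ∨ g.1 o (.inl ()) = -1 := fun g => by
      have h := g.2 o
      simp [qfOdd_apply, quadFormOdd] at h
      rwa [show o (.inl ()) = 1 by simp [o], one_pow, sq_eq_one_iff] at h
    rw [Nat.card_eq_two_iff]
    refine ⟨1, ⟨LinearEquiv.neg F, fun v => QuadraticMap.map_neg _ v⟩, ?_, ?_⟩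
    · intro h
      have := congrArg (fun g : preservingFun (F := F) (⇑(qfOdd 0 F)) => g.1 o (.inl ())) h
      simp [o] at this
      exact h2 (by linear_combination this)
    · refine Set.eq_univ_of_forall fun g => ?_
      have hgo : ∀ v, g.1 v = (v (.inl ()) * g.1 o (.inl ())) • o := fun v => by
        conv_lhs => rw [ho v, map_smul, ho (g.1 o)]
        rw [smul_smul]
      rcases hg g with h | h
      · left
        refine Subtype.ext (LinearEquiv.ext fun v => ?_)
        rw [hgo, h, mul_one]
        exact (ho v).symm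
      · right
        refine Subtype.ext (LinearEquiv.ext fun v => ?_)
        rw [hgo, h, mul_neg_one, neg_smul]
        exact congrArg Neg.neg (ho v).symm
  | succ m ih =>
    have h1 : 1 ≤ Nat.card F := Nat.card_pos
    rw [Nat.card_congr (preservingFunCongr (⇑(qfOdd (m + 1) F)) (⇑(hypExt (qfOdd m F)))
      (oddSucc m) 1 one_ne_zero (fun v => by rw [hypExt_oddSucc, one_mul])).toEquiv,
      card_preservingFun_hypExt _ (qfOdd_nondegenerate h2 m),
      card_zeros_congr (qfOdd (m + 1) F) (hypExt (qfOdd m F)) (oddSucc m) 1 one_ne_zero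
      (fun v => by rw [hypExt_oddSucc, one_mul]), card_zeros_qfOdd, ih, Finset.prod_range_succ]
    simp [Nat.card_fun]
    zify [Nat.one_le_pow _ _ h1]
    ring

theorem card_preservingFun_qfMinus {a b : F}
    (hab : ∀ x y : F, x ^ 2 + a * x * y + b * y ^ 2 = 0 → x = 0 ∧ y = 0) (m : ℕ) :
    Nat.card (preservingFun (F := F) (⇑(qfMinus m F a b)))
      = 2 * Nat.card F ^ ((m + 1) * m) * (Nat.card F ^ (m + 1) + 1)
        * ∏ i ∈ Finset.range m, (Nat.card F ^ (2 * (i + 1)) - 1) := by
  have h1 : 1 ≤ Nat.card F := Nat.card_pos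
  induction m with
  | zero =>
    rw [Nat.card_congr (preservingFunCongr (⇑(qfMinus 0 F a b)) (⇑(qfBin a b)) minusZero 1
      one_ne_zero (fun v => by rw [qfBin_minusZero, one_mul])).toEquiv,
      card_preservingFun_qfBin hab]
    simp
  | succ m ih =>
    have hpos : 1 ≤ Nat.card {v // qfMinus (m + 1) F a b v = 0} :=
      Nat.one_le_iff_ne_zero.2 (Nat.card_ne_zero.2 ⟨⟨0, QuadraticMap.map_zero _⟩, inferInstance⟩)
    rw [Nat.card_congr (preservingFunCongr (⇑(qfMinus (m + 1) F a b)) (⇑(hypExt (qfMinus m F a b)))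
      (minusSucc m) 1 one_ne_zero (fun v => by rw [hypExt_minusSucc, one_mul])).toEquiv,
      card_preservingFun_hypExt _ (qfMinus_nondegenerate (disc_ne_zero_of_anisotropic hab) m),
      card_zeros_congr (qfMinus (m + 1) F a b) (hypExt (qfMinus m F a b)) (minusSucc m) 1
      one_ne_zero (fun v => by rw [hypExt_minusSucc, one_mul]), ih, Finset.prod_range_succ]
    simp [Nat.card_fun]
    zify [hpos, Nat.one_le_pow _ _ h1]
    rw [card_zeros_qfMinus hab]
    ring

end Formulas

end Cfsg.Agent.Forms
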