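import Cfsg.Agent.Lib.Forms.Standard
import Cfsg.Agent.Lib.Forms.Count
/-
Classification of non-degenerate quadratic forms over finite fields, Witt index.
* `exists_singular_of_three_le` : a form in dimension ≥ 3 over a finite field has a singular vector
* `exists_hypExt_equiv` : splitting off a hyperbolic plane through a singular vector
* `classify` : plus type, minus type, or a multiple of `qfOdd`
* `qfBin_equiv_of_anisotropic`, `qfMinus_similar` : uniqueness of the minus type
* `maximal_singular_finrank_eq`, `two_mul_finrank_singular_le`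
-/

set_option autoImplicit false

namespace Cfsg.Agent.Forms

variable {F V : Type*} [Field F] [AddCommGroup V] [Module F V]

/-- Two (or fewer) linear conditions in dimension at least three leave a non-zero vector. -/
theorem exists_ne_zero_ker [FiniteDimensional F V] (f g : V →ₗ[F] F)
    (h3 : 3 ≤ Module.finrank F V) : ∃ v, v ≠ 0 ∧ f v = 0 ∧ g v = 0 := by
  have hr := LinearMap.finrank_range_add_finrank_ker (f.prod g)
  have hle : Module.finrank F (LinearMap.range (f.prod g)) ≤ 2 :=
    (Submodule.finrank_le _).trans (by simp)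
  have hne : LinearMap.ker (f.prod g) ≠ ⊥ := fun h => by rw [h, finrank_bot] at hr; omega
  obtain ⟨v, hv, hv0⟩ := Submodule.exists_mem_ne_zero_of_ne_bot hne
  rw [LinearMap.mem_ker, LinearMap.prod_apply, Function.prod_apply, Prod.mk_eq_zero] at hv
  exact ⟨v, hv0, hv.1, hv.2⟩

/-- Over a finite field a quadratic form in dimension at least three has a non-zero zero. -/
theorem exists_singular_of_three_le [Finite F] [FiniteDimensional F V] (Q : QuadraticForm F V)
    (h3 : 3 ≤ Module.finrank F V) : ∃ v, v ≠ 0 ∧ Q v = 0 := by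
  haveI := Fintype.ofFinite F
  haveI : Nontrivial V := Module.nontrivial_of_finrank_pos (R := F) (by omega)
  obtain ⟨v₁, hv₁⟩ := exists_ne (0 : V)
  by_cases ha : Q v₁ = 0
  · exact ⟨v₁, hv₁, ha⟩
  have qadd : ∀ (z : V) (r : F) (t : V),
      Q (z + r • t) = Q z + r * r * Q t + r * QuadraticMap.polar Q z t := by
    intro z r t
    rw [QuadraticMap.map_add (⇑Q), QuadraticMap.map_smul, QuadraticMap.polar_smul_right]
    simp only [smul_eq_mul]
  let B := QuadraticMap.polarBilin Q
  rcases eq_or_ne (ringChar F) 2 with h2 | h2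
  · -- a second vector orthogonal to `v₁`, outside its span
    have hchar : CharP F 2 := ringChar.of_eq h2
    have h20 : (2 : F) = 0 := CharTwo.two_eq_zero
    obtain ⟨l, hl⟩ : ∃ l : V →ₗ[F] F, l v₁ ≠ 0 := by
      obtain ⟨l, hl, -⟩ := Submodule.exists_le_ker_of_notMem (p := (⊥ : Submodule F V))
        (v := v₁) (by simpa using hv₁)
      exact ⟨l, hl⟩
    obtain ⟨v₂, hv₂, hB, hlv⟩ := exists_ne_zero_ker (B v₁) l h3
    obtain ⟨r, hr⟩ := FiniteField.isSquare_of_char_two h2 (Q v₂ / Q v₁)
    refine ⟨v₂ + r • v₁, fun h => ?_, ?_⟩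
    · have h' := congrArg l h
      rw [map_add, map_smul, hlv, zero_add, map_zero, smul_eq_mul, mul_eq_zero] at h'
      have hr0 : r = 0 := h'.resolve_right hl
      rw [hr0, zero_smul, add_zero] at h
      exact hv₂ h
    · rw [qadd, QuadraticMap.polar_comm]
      change Q v₂ + r * r * Q v₁ + r * B v₁ v₂ = 0
      rw [hB, ← hr, div_mul_cancel₀ _ ha]
      linear_combination Q v₂ * h20
  · have h20 : (2 : F) ≠ 0 := Ring.two_ne_zero h2
    obtain ⟨v₂, hv₂, h12, -⟩ := exists_ne_zero_ker (B v₁) 0 h3
    by_cases hb : Q v₂ = 0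
    · exact ⟨v₂, hv₂, hb⟩
    obtain ⟨v₃, hv₃, h13, h23⟩ := exists_ne_zero_ker (B v₁) (B v₂) h3
    by_cases hc : Q v₃ = 0
    · exact ⟨v₃, hv₃, hc⟩
    obtain ⟨r, s, hrs⟩ := FiniteField.exists_root_sum_quadratic
      (f := Polynomial.C (Q v₁) * Polynomial.X ^ 2 + Polynomial.C (Q v₃))
      (g := Polynomial.C (Q v₂) * Polynomial.X ^ 2)
      (by rw [Polynomial.degree_add_C (by rw [Polynomial.degree_C_mul_X_pow 2 ha]; decide),
            Polynomial.degree_C_mul_X_pow 2 ha]; rfl)
      (by rw [Polynomial.degree_C_mul_X_pow 2 hb]; rfl)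
      (FiniteField.odd_card_of_char_ne_two h2)
    simp at hrs
    refine ⟨v₃ + r • v₁ + s • v₂, fun h => ?_, ?_⟩
    · have h' := congrArg (fun z => B v₃ z) h
      simp only [map_add, map_smul, map_zero, B, QuadraticMap.polarBilin_apply_apply,
        QuadraticMap.polar_comm (⇑Q) v₃] at h'
      simp only [B, QuadraticMap.polarBilin_apply_apply] at h13 h23
      rw [h13, h23, smul_zero, smul_zero, add_zero, add_zero, QuadraticMap.polar_self,
        nsmul_eq_mul, mul_eq_zero] at h'
      simp [h20, hc] at h'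
    · have e1 : QuadraticMap.polar Q v₃ v₁ = 0 := (QuadraticMap.polar_comm _ _ _).trans h13
      have e2 : QuadraticMap.polar Q v₃ v₂ = 0 := (QuadraticMap.polar_comm _ _ _).trans h23
      have e3 : QuadraticMap.polar Q v₁ v₂ = 0 := h12
      rw [qadd, qadd, QuadraticMap.polar_add_left, QuadraticMap.polar_smul_left, e1, e2, e3,
        smul_zero]
      linear_combination hrs

/-- The restriction of a quadratic form to a subspace. -/
theorem restrict_apply (Q : QuadraticForm F V) (K : Submodule F V) (v : K) :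
    Q.comp K.subtype v = Q v := rfl

/-- A singular vector has a singular partner. -/
theorem exists_singular_partner [FiniteDimensional F V] (Q : QuadraticForm F V)
    (hQ : (QuadraticMap.polarBilin Q).Nondegenerate) {e : V} (he : e ≠ 0) (hQe : Q e = 0) :
    ∃ f, Q f = 0 ∧ QuadraticMap.polar Q e f = 1 := by
  obtain ⟨f₁, -, hf₁⟩ :=
    exists_dual_vector (QuadraticMap.polarBilin Q) hQ.2 ⊥ e (by simpa using he) 1
  rw [QuadraticMap.polarBilin_apply_apply, QuadraticMap.polar_comm] at hf₁
  refine ⟨f₁ + (-Q f₁) • e, ?_, ?_⟩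
  · rw [QuadraticMap.map_add (⇑Q), QuadraticMap.map_smul, hQe, QuadraticMap.polar_smul_right,
      QuadraticMap.polar_comm, hf₁]
    simp
  · rw [QuadraticMap.polar_add_right, QuadraticMap.polar_smul_right, hf₁,
      QuadraticMap.polar_self, hQe, smul_zero, smul_zero, add_zero]

/-- A singular vector splits off a hyperbolic plane. -/
theorem exists_hypExt_equiv [FiniteDimensional F V] (Q : QuadraticForm F V)
    (hQ : (QuadraticMap.polarBilin Q).Nondegenerate) {e : V} (he : e ≠ 0) (hQe : Q e = 0) :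
    ∃ (K : Submodule F V) (φ : ((F × F) × K) ≃ₗ[F] V),
      (QuadraticMap.polarBilin (Q.comp K.subtype)).Nondegenerate ∧
      (∀ p, Q (φ p) = hypExt (Q.comp K.subtype) p) ∧ φ ((1, 0), 0) = e ∧
      Module.finrank F K + 2 = Module.finrank F V := by
  obtain ⟨f, hQf, hef⟩ := exists_singular_partner Q hQ he hQe
  set B := QuadraticMap.polarBilin Q with hB
  let K : Submodule F V := LinearMap.ker (B e) ⊓ LinearMap.ker (B f)
  have hK : ∀ v : V, v ∈ K ↔ QuadraticMap.polar Q e v = 0 ∧ QuadraticMap.polar Q f v = 0 :=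
    fun v => Iff.rfl
  have hfe : QuadraticMap.polar Q f e = 1 := (QuadraticMap.polar_comm _ _ _).trans hef
  have hee : QuadraticMap.polar Q e e = 0 := by rw [QuadraticMap.polar_self, hQe, smul_zero]
  have hff : QuadraticMap.polar Q f f = 0 := by rw [QuadraticMap.polar_self, hQf, smul_zero]
  have hk : ∀ v, v - QuadraticMap.polar Q f v • e - QuadraticMap.polar Q e v • f ∈ K := fun v => by
    rw [hK]
    simp [QuadraticMap.polar_sub_right, QuadraticMap.polar_smul_right, hee, hff, hef, hfe]
  let φ : ((F × F) × K) ≃ₗ[F] V :=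
    { toFun := fun p => p.1.1 • e + p.1.2 • f + (p.2 : V)
      invFun := fun v => ((QuadraticMap.polar Q f v, QuadraticMap.polar Q e v), ⟨_, hk v⟩)
      map_add' := fun p r => by simp [add_smul]; abel
      map_smul' := fun c p => by simp [smul_add, smul_smul]
      left_inv := fun p => by
        obtain ⟨⟨a, b⟩, k, hkk⟩ := p
        obtain ⟨h1, h2⟩ := (hK k).1 hkk
        simp [QuadraticMap.polar_add_right, QuadraticMap.polar_smul_right, hee, hff, hef, hfe,
          h1, h2]
        abel
      right_inv := fun v => by simp }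
  have hφ : ∀ p, φ p = p.1.1 • e + p.1.2 • f + (p.2 : V) := fun p => rfl
  have hval : ∀ p, Q (φ p) = hypExt (Q.comp K.subtype) p := by
    rintro ⟨⟨a, b⟩, k, hkk⟩
    obtain ⟨h1, h2⟩ := (hK k).1 hkk
    rw [hφ, QuadraticMap.map_add (⇑Q), QuadraticMap.map_add (⇑Q) (a • e), QuadraticMap.map_smul,
      QuadraticMap.map_smul, QuadraticMap.polar_add_left, QuadraticMap.polar_smul_left,
      QuadraticMap.polar_smul_left, QuadraticMap.polar_smul_left, QuadraticMap.polar_smul_right,
      hQe, hQf, hef, h1, h2]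
    simp
  refine ⟨K, φ, ?_, hval, by simp [hφ], ?_⟩
  · rw [nondegenerate_polarBilin_iff]
    intro x hx
    refine Subtype.ext (hQ.1 _ fun v => ?_)
    obtain ⟨h1, h2⟩ := (hK x).1 x.2
    have h := hx ⟨_, hk v⟩
    simp [QuadraticMap.polar] at h
    change QuadraticMap.polar Q x v = 0
    have h' : QuadraticMap.polar Q x
        (v - QuadraticMap.polar Q f v • e - QuadraticMap.polar Q e v • f) = 0 := h
    rwa [QuadraticMap.polar_sub_right, QuadraticMap.polar_sub_right,
      QuadraticMap.polar_smul_right, QuadraticMap.polar_smul_right,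
      QuadraticMap.polar_comm (⇑Q) (x : V) e, QuadraticMap.polar_comm (⇑Q) (x : V) f, h1, h2,
      smul_zero, smul_zero, sub_zero, sub_zero] at h'
  · rw [← φ.finrank_eq, Module.finrank_prod, Module.finrank_prod, Module.finrank_self]
    ring

/-- A non-degenerate anisotropic plane is an anisotropic `qfBin`. -/
theorem anisotropic_plane [Finite F] [FiniteDimensional F V] (Q : QuadraticForm F V)
    (hs : ∀ v, Q v = 0 → v = 0) (h2 : Module.finrank F V = 2) :
    ∃ a b : F, (∀ x y : F, x ^ 2 + a * x * y + b * y ^ 2 = 0 → x = 0 ∧ y = 0) ∧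
      ∃ e : (F × F) ≃ₗ[F] V, ∀ z, Q (e z) = qfBin a b z := by
  let Bas := Module.finBasisOfFinrankEq F V h2
  let e₀ : (F × F) ≃ₗ[F] V :=
    (LinearEquiv.finTwoArrow F F).symm.trans Bas.equivFun.symm
  have he₀ : ∀ z, e₀ z = z.1 • Bas 0 + z.2 • Bas 1 := fun z => by
    simp [e₀, Module.Basis.equivFun_symm_apply, Fin.sum_univ_two]
  have hQ0 : ∀ z : F × F, Q (e₀ z) = Q (Bas 0) * z.1 ^ 2
      + QuadraticMap.polar Q (Bas 0) (Bas 1) * z.1 * z.2 + Q (Bas 1) * z.2 ^ 2 := fun z => by
    rw [he₀, QuadraticMap.map_add (⇑Q), QuadraticMap.map_smul, QuadraticMap.map_smul,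
      QuadraticMap.polar_smul_left, QuadraticMap.polar_smul_right]
    simp only [smul_eq_mul]
    ring
  have hc : Q (Bas 0) ≠ 0 := fun h => Bas.ne_zero 0 (hs _ h)
  set c := Q (Bas 0) with hcdef
  set a := QuadraticMap.polar Q (Bas 0) (Bas 1) / c with ha
  set b := Q (Bas 1) / c with hb
  have hQ1 : ∀ z, Q (e₀ z) = c * qfBin a b z := fun z => by
    rw [hQ0, qfBin_apply, ha, hb]
    field_simp
  have hanis : ∀ x y : F, x ^ 2 + a * x * y + b * y ^ 2 = 0 → x = 0 ∧ y = 0 := fun x y h => by
    have h0 : Q (e₀ (x, y)) = 0 := by rw [hQ1, qfBin_apply, h, mul_zero]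
    have := e₀.map_eq_zero_iff.1 (hs _ h0)
    exact Prod.mk_eq_zero.1 this
  obtain ⟨z₁, hz₁⟩ := qfBin_surjective (disc_ne_zero_of_anisotropic hanis) c⁻¹
  let m : (F × F) →ₗ[F] (F × F) :=
    { toFun := fun w => (z₁.1 * w.1 - b * z₁.2 * w.2, z₁.1 * w.2 + z₁.2 * w.1 + a * z₁.2 * w.2)
      map_add' := fun w w' => by ext <;> simp <;> ring
      map_smul' := fun r w => by ext <;> simp <;> ring }
  have hm : ∀ w, Q (e₀ (m w)) = qfBin a b w := fun w => by
    have : qfBin a b (m w) = qfBin a b z₁ * qfBin a b w := by simp [m]; ring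
    rw [hQ1, this, hz₁, ← mul_assoc, mul_inv_cancel₀ hc, one_mul]
  have hinj : Function.Injective m := by
    rw [injective_iff_map_eq_zero]
    intro w hw
    have := hm w
    rw [hw, map_zero, QuadraticMap.map_zero, qfBin_apply] at this
    exact Prod.ext (hanis _ _ this.symm).1 (hanis _ _ this.symm).2
  exact ⟨a, b, hanis, (LinearEquiv.ofInjectiveEndo m hinj).trans e₀, hm⟩

/-- Classification of non-degenerate quadratic forms over a finite field. -/
theorem classify.{u, v} {F : Type u} [Field F] [Finite F] {V : Type v} [AddCommGroup V]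
    [Module F V] [FiniteDimensional F V] (Q : QuadraticForm F V)
    (hQ : (QuadraticMap.polarBilin Q).Nondegenerate) :
    (∃ (m : ℕ) (e : (Fin m ⊕ Fin m → F) ≃ₗ[F] V), ∀ v, Q (e v) = qfPlus m F v) ∨
    (∃ (m : ℕ) (a b : F) (e : ((Fin m ⊕ Fin m) ⊕ Fin 2 → F) ≃ₗ[F] V),
      (∀ x y : F, x ^ 2 + a * x * y + b * y ^ 2 = 0 → x = 0 ∧ y = 0) ∧
      ∀ v, Q (e v) = qfMinus m F a b v) ∨
    (∃ (m : ℕ) (c : F) (e : (Unit ⊕ (Fin m ⊕ Fin m) → F) ≃ₗ[F] V),
      c ≠ 0 ∧ (2 : F) ≠ 0 ∧ ∀ v, Q (e v) = c * qfOdd m F v) := by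
  obtain ⟨n, hn⟩ : ∃ n, Module.finrank F V = n := ⟨_, rfl⟩
  induction n using Nat.strong_induction_on generalizing V with
  | _ n ih =>
    by_cases hs : ∃ v, v ≠ 0 ∧ Q v = 0
    · obtain ⟨e₁, he₁, hQe₁⟩ := hs
      obtain ⟨K, φ, hK, hφ, -, hrank⟩ := exists_hypExt_equiv Q hQ he₁ hQe₁
      rcases ih _ (by omega) (Q.comp K.subtype) hK rfl with
        ⟨m, e, he⟩ | ⟨m, a, b, e, hab, he⟩ | ⟨m, c, e, hc, h2, he⟩
      · refine Or.inl ⟨m + 1,
          (plusSucc m).trans (((LinearEquiv.refl F (F × F)).prodCongr e).trans φ), fun v => ?_⟩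
        rw [LinearEquiv.trans_apply, LinearEquiv.trans_apply, hφ, ← hypExt_plusSucc, hypExt_apply,
          hypExt_apply, LinearEquiv.prodCongr_apply, he]
        rfl
      · refine Or.inr (Or.inl ⟨m + 1, a, b,
          (minusSucc m).trans (((LinearEquiv.refl F (F × F)).prodCongr e).trans φ), hab,
          fun v => ?_⟩)
        rw [LinearEquiv.trans_apply, LinearEquiv.trans_apply, hφ, ← hypExt_minusSucc, hypExt_apply,
          hypExt_apply, LinearEquiv.prodCongr_apply, he]
        rfl
      · let s : (F × F) ≃ₗ[F] (F × F) :=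
          { toFun := fun p => (c * p.1, p.2)
            invFun := fun p => (c⁻¹ * p.1, p.2)
            map_add' := fun p r => by simp [mul_add]
            map_smul' := fun r p => by simp [mul_left_comm]
            left_inv := fun p => by simp [hc]
            right_inv := fun p => by simp [hc] }
        refine Or.inr (Or.inr ⟨m + 1, c,
          (oddSucc m).trans ((s.prodCongr e).trans φ), hc, h2, fun v => ?_⟩)
        rw [LinearEquiv.trans_apply, LinearEquiv.trans_apply, hφ, ← hypExt_oddSucc, hypExt_apply,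
          hypExt_apply, LinearEquiv.prodCongr_apply, he]
        simp [s]
        ring
    · push Not at hs
      have hs' : ∀ v, Q v = 0 → v = 0 := fun v hv => by
        by_contra h
        exact hs v h hv
      have hn2 : n ≤ 2 := by
        by_contra h
        obtain ⟨v, hv, hQv⟩ := exists_singular_of_three_le Q (by omega)
        exact hs v hv hQv
      interval_cases n
      · haveI := Module.finrank_zero_iff.1 hn
        exact Or.inl ⟨0, LinearEquiv.ofSubsingleton _ _, fun v => by
          rw [Subsingleton.elim v 0, LinearEquiv.map_zero, QuadraticMap.map_zero,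
            QuadraticMap.map_zero]⟩
      · let Bas := Module.finBasisOfFinrankEq F V hn
        have h2 : (2 : F) ≠ 0 := fun h2 => Bas.ne_zero 0 (hQ.1 _ fun y => by
          rw [show y = Bas.repr y 0 • Bas 0 from by
              conv_lhs => rw [← Bas.sum_repr y]
              simp,
            QuadraticMap.polarBilin_apply_apply, QuadraticMap.polar_smul_right,
            QuadraticMap.polar_self, nsmul_eq_mul]
          simp [h2])
        refine Or.inr (Or.inr ⟨0, Q (Bas 0),
          (LinearEquiv.funCongrLeft F F ((Equiv.ofUnique (Fin 1) Unit).trans (Equiv.sumEmpty Unit (Fin 0 ⊕ Fin 0)).symm)).trans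
            Bas.equivFun.symm, fun h => Bas.ne_zero 0 (hs' _ h), h2, fun v => ?_⟩)
        simp [Module.Basis.equivFun_symm_apply, qfOdd_apply, quadFormOdd, QuadraticMap.map_smul,
          LinearEquiv.funCongrLeft_apply, LinearMap.funLeft_apply]
        ring
      · obtain ⟨a, b, hab, e, he⟩ := anisotropic_plane Q hs' hn
        exact Or.inr (Or.inl ⟨0, a, b, minusZero.trans e, hab, fun v => by
          rw [LinearEquiv.trans_apply, he, qfBin_minusZero]⟩)

/-- Any two anisotropic binary forms with leading coefficient one are isometric. -/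
theorem qfBin_equiv_of_anisotropic [Finite F] {a b a' b' : F}
    (hab : ∀ x y : F, x ^ 2 + a * x * y + b * y ^ 2 = 0 → x = 0 ∧ y = 0)
    (hab' : ∀ x y : F, x ^ 2 + a' * x * y + b' * y ^ 2 = 0 → x = 0 ∧ y = 0) :
    ∃ e : (F × F) ≃ₗ[F] (F × F), ∀ z, qfBin a b (e z) = qfBin a' b' z := by
  classical
  haveI := Fintype.ofFinite F
  have hd' := disc_ne_zero_of_anisotropic hab'
  suffices h : ∃ x y : F, 2 * x + a * y = a' ∧ x ^ 2 + a * x * y + b * y ^ 2 = b' by
    obtain ⟨x, y, h1, h2⟩ := h
    let f : (F × F) →ₗ[F] (F × F) :=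
      { toFun := fun z => (z.1 + x * z.2, y * z.2)
        map_add' := fun z w => by ext <;> simp <;> ring
        map_smul' := fun r z => by ext <;> simp <;> ring }
    have hf : ∀ z, qfBin a b (f z) = qfBin a' b' z := fun z => by
      simp [f]
      linear_combination z.1 * z.2 * h1 + z.2 ^ 2 * h2
    have hinj : Function.Injective f := by
      rw [injective_iff_map_eq_zero]
      intro z hz
      have := hf z
      rw [hz, QuadraticMap.map_zero, qfBin_apply] at this
      exact Prod.ext (hab' _ _ this.symm).1 (hab' _ _ this.symm).2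
    exact ⟨LinearEquiv.ofInjectiveEndo f hinj, hf⟩
  rcases eq_or_ne (ringChar F) 2 with h2 | h2
  · haveI : CharP F 2 := ringChar.of_eq h2
    have h20 : (2 : F) = 0 := CharTwo.two_eq_zero
    have ha : a ≠ 0 := fun h => disc_ne_zero_of_anisotropic hab (by
      rw [h]; linear_combination 2 * b * h20)
    have ha' : a' ≠ 0 := fun h => hd' (by rw [h]; linear_combination 2 * b' * h20)
    -- the additive map `t ↦ t² + t` has image of index two
    let A : F →+ F :=
      { toFun := fun t => t ^ 2 + t
        map_zero' := by ring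
        map_add' := fun s t => by linear_combination s * t * h20 }
    have hker : Nat.card A.ker = 2 := by
      rw [Nat.card_eq_two_iff]
      refine ⟨0, ⟨1, show (1 : F) ^ 2 + 1 = 0 by linear_combination h20⟩, fun h => ?_, ?_⟩
      · exact zero_ne_one (congrArg Subtype.val h)
      · refine Set.eq_univ_of_forall fun t => ?_
        have ht : (t : F) ^ 2 + t = 0 := t.2
        have ht' : (t : F) * (t + 1) = 0 := by linear_combination ht
        rcases mul_eq_zero.1 ht' with h | h
        · exact Or.inl (Subtype.ext h)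
        · exact Or.inr (Subtype.ext (show (t : F) = 1 by linear_combination h - h20))
    have hidx : A.range.index = 2 := by
      have h1 := AddSubgroup.index_mul_card A.range
      have h3 := AddSubgroup.index_mul_card A.ker
      rw [AddSubgroup.index_ker, hker] at h3
      rw [← h3] at h1
      have hpos : 0 < Nat.card A.range := Nat.card_pos
      exact Nat.eq_of_mul_eq_mul_right hpos (h1.trans (mul_comm _ _))
    have hmu : ∀ a b : F, a ≠ 0 →
        (∀ x y : F, x ^ 2 + a * x * y + b * y ^ 2 = 0 → x = 0 ∧ y = 0) → b / a ^ 2 ∉ A.range := by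
      intro a b ha hab
      rintro ⟨t, ht⟩
      have ht' : t ^ 2 + t = b / a ^ 2 := ht
      have := (hab (a * t) 1 (by
        field_simp at ht'
        linear_combination ht' + b * h20)).2
      exact one_ne_zero this
    have hsum : b' / a' ^ 2 + b / a ^ 2 ∈ A.range := by
      rw [AddSubgroup.add_mem_iff_of_index_two hidx]
      exact iff_of_false (hmu a' b' ha' hab') (hmu a b ha hab)
    obtain ⟨t, ht⟩ := hsum
    have ht' : t ^ 2 + t = b' / a' ^ 2 + b / a ^ 2 := ht
    refine ⟨a' * t, a' / a, ?_, ?_⟩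
    · field_simp
      linear_combination t * h20
    · field_simp at ht' ⊢
      linear_combination ht' + a' ^ 2 * b * h20
  · have h20 : (2 : F) ≠ 0 := Ring.two_ne_zero h2
    have h40 : (4 : F) ≠ 0 := by
      rw [show (4 : F) = 2 * 2 by norm_num]; exact mul_ne_zero h20 h20
    have hns : ∀ a b : F, (∀ x y : F, x ^ 2 + a * x * y + b * y ^ 2 = 0 → x = 0 ∧ y = 0) →
        ¬ IsSquare (a ^ 2 - 4 * b) := by
      intro a b hab
      rintro ⟨r, hr⟩
      have := (hab (r - a) 2 (by linear_combination -hr)).2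
      exact h20 this
    obtain ⟨y, hy⟩ : IsSquare ((a' ^ 2 - 4 * b') * (a ^ 2 - 4 * b)⁻¹) := by
      have hne : a ^ 2 - 4 * b ≠ 0 := fun h =>
        disc_ne_zero_of_anisotropic hab (by linear_combination -h)
      have hne' : a' ^ 2 - 4 * b' ≠ 0 := fun h => hd' (by linear_combination -h)
      have h1 := (quadraticChar_neg_one_iff_not_isSquare (F := F)).2 (hns a b hab)
      have h1' := (quadraticChar_neg_one_iff_not_isSquare (F := F)).2 (hns a' b' hab')
      rw [← quadraticChar_one_iff_isSquare (mul_ne_zero hne' (inv_ne_zero hne)), map_mul, h1']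
      have h3 : quadraticChar F (a ^ 2 - 4 * b) * quadraticChar F (a ^ 2 - 4 * b)⁻¹ = 1 := by
        rw [← map_mul, mul_inv_cancel₀ hne, map_one]
      rw [h1] at h3
      exact h3
    have hne : a ^ 2 - 4 * b ≠ 0 := fun h =>
      disc_ne_zero_of_anisotropic hab (by linear_combination -h)
    refine ⟨(a' - a * y) / 2, y, by field_simp; ring, ?_⟩
    rw [← mul_right_inj' hne] at hy
    field_simp at hy ⊢
    linear_combination hy

/-- Minus-type forms of equal dimension are isometric. -/
theorem qfMinus_equiv [Finite F] {a b a' b' : F}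
    (hab : ∀ x y : F, x ^ 2 + a * x * y + b * y ^ 2 = 0 → x = 0 ∧ y = 0)
    (hab' : ∀ x y : F, x ^ 2 + a' * x * y + b' * y ^ 2 = 0 → x = 0 ∧ y = 0) (m : ℕ) :
    ∃ e : ((Fin m ⊕ Fin m) ⊕ Fin 2 → F) ≃ₗ[F] ((Fin m ⊕ Fin m) ⊕ Fin 2 → F),
      ∀ v, qfMinus m F a b (e v) = qfMinus m F a' b' v := by
  induction m with
  | zero =>
    obtain ⟨e, he⟩ := qfBin_equiv_of_anisotropic hab hab'
    refine ⟨minusZero.trans (e.trans minusZero.symm), fun v => ?_⟩
    rw [← qfBin_minusZero, LinearEquiv.trans_apply, LinearEquiv.trans_apply,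
      LinearEquiv.apply_symm_apply, he, qfBin_minusZero]
  | succ m ih =>
    obtain ⟨e, he⟩ := ih
    refine ⟨(minusSucc m).trans (((LinearEquiv.refl F (F × F)).prodCongr e).trans
      (minusSucc m).symm), fun v => ?_⟩
    rw [← hypExt_minusSucc, LinearEquiv.trans_apply, LinearEquiv.trans_apply,
      LinearEquiv.apply_symm_apply, ← hypExt_minusSucc, hypExt_apply, hypExt_apply,
      LinearEquiv.prodCongr_apply, he]
    rfl

/-! ### Witt index -/

/-- A totally singular subspace has dimension at most half. -/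
theorem two_mul_finrank_singular_le [FiniteDimensional F V] (Q : QuadraticForm F V)
    (hQ : (QuadraticMap.polarBilin Q).Nondegenerate) (W : Submodule F V)
    (hW : ∀ w ∈ W, Q w = 0) : 2 * Module.finrank F W ≤ Module.finrank F V := by
  let B : LinearMap.BilinForm F V := QuadraticMap.polarBilin Q
  have hle : W ≤ B.orthogonal W := fun x hx => by
    intro y hy
    show QuadraticMap.polar Q y x = 0
    rw [QuadraticMap.polar, hW _ (W.add_mem hy hx), hW y hy, hW x hx]
    simp
  have h1 := LinearMap.BilinForm.finrank_orthogonal (B := B) hQ W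
  have h2 := Submodule.finrank_mono hle
  have h3 := Submodule.finrank_le W
  omega

/-- Maximal totally singular subspaces have the same dimension (any field). -/
theorem maximal_singular_finrank_eq [FiniteDimensional F V] (Q : QuadraticForm F V)
    (hQ : (QuadraticMap.polarBilin Q).Nondegenerate) (W₁ W₂ : Submodule F V)
    (h₁ : ∀ w ∈ W₁, Q w = 0) (h₂ : ∀ w ∈ W₂, Q w = 0)
    (hmax₁ : ∀ W : Submodule F V, W₁ ≤ W → (∀ w ∈ W, Q w = 0) → W = W₁)
    (hmax₂ : ∀ W : Submodule F V, W₂ ≤ W → (∀ w ∈ W, Q w = 0) → W = W₂) :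
    Module.finrank F W₁ = Module.finrank F W₂ := by
  suffices h : ∀ A B : Submodule F V, (∀ w ∈ A, Q w = 0) → (∀ w ∈ B, Q w = 0) →
      (∀ W : Submodule F V, A ≤ W → (∀ w ∈ W, Q w = 0) → W = A) →
      Module.finrank F B ≤ Module.finrank F A by
    exact le_antisymm (h W₂ W₁ h₂ h₁ hmax₂) (h W₁ W₂ h₁ h₂ hmax₁)
  intro A B hA hB hmax
  by_contra hlt
  push Not at hlt
  obtain ⟨u, hu⟩ : ∃ u : A →ₗ[F] B, Function.Injective u := by
    let bA := Module.finBasis F A
    let bB := Module.finBasis F B
    refine ⟨bA.constr F fun i => bB (Fin.castLE hlt.le i), ?_⟩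
    have h := bB.linearIndependent.comp _ (Fin.castLE_injective hlt.le)
    rw [← LinearMap.ker_eq_bot, Submodule.eq_bot_iff]
    intro x hx
    rw [LinearMap.mem_ker, Module.Basis.constr_apply_fintype] at hx
    exact bA.equivFun.map_eq_zero_iff.1 (funext (Fintype.linearIndependent_iff.1 h _ hx))
  obtain ⟨φ, hφ⟩ := LinearMap.exists_extend (B.subtype.comp u)
  have hφ' : ∀ x : A, φ x = (u x : V) := fun x => LinearMap.congr_fun hφ x
  obtain ⟨g, hg, hgA⟩ := witt_quadratic_map Q hQ A φ (fun x hx h0 => by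
      rw [hφ' ⟨x, hx⟩] at h0
      simpa using (congrArg Subtype.val (hu ((Submodule.coe_eq_zero.1 h0).trans u.map_zero.symm))))
    (fun x hx => by rw [hφ' ⟨x, hx⟩, hB _ (u ⟨x, hx⟩).2, hA x hx])
  have hle : A ≤ B.map g.symm.toLinearMap := fun x hx =>
    ⟨g x, by rw [hgA x hx, hφ' ⟨x, hx⟩]; exact (u ⟨x, hx⟩).2, g.symm_apply_apply x⟩
  have heq := hmax _ hle (by
    rintro w ⟨y, hy, rfl⟩
    rw [LinearEquiv.coe_coe, ← hg, LinearEquiv.apply_symm_apply]
    exact hB y hy)
  have := congrArg (fun S : Submodule F V => Module.finrank F S) heq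
  rw [show Module.finrank F (B.map g.symm.toLinearMap) = Module.finrank F B from
    LinearEquiv.finrank_map_eq g.symm B] at this
  omega

end Cfsg.Agent.Forms
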