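import Cfsg.Agent.EqLemmas
/-
Witt's extension theorem, over an arbitrary field, finite-dimensional spaces.
* `exists_dual_vector`       : a non-degenerate (semi)linear form realises functionals
* `witt_quadratic`           : quadratic forms with non-degenerate polar form (any characteristic)
* `witt_alternating`         : non-degenerate alternating forms
* `witt_hermitian`           : non-degenerate hermitian forms (σ an involution, σ ≠ id)
* `witt_quadratic_map`, `witt_alternating_map`, `witt_hermitian_map` : the same for an injective linear map X → V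
-/

set_option autoImplicit false

namespace Cfsg.Agent.Forms

variable {F V : Type*} [Field F] [AddCommGroup V] [Module F V]

/-- For a right-separating form, any functional is `B v` for some `v`. -/
theorem exists_form_eq_functional [FiniteDimensional F V] {σ : F →+* F} [RingHomSurjective σ]
    (B : V →ₛₗ[σ] V →ₗ[F] F) (hB : B.SeparatingRight) (f : V →ₗ[F] F) : ∃ v, B v = f := by
  have h0 : B.range.dualCoannihilator = ⊥ := by
    rw [eq_bot_iff]
    intro x hx
    rw [Submodule.mem_dualCoannihilator] at hx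
    exact (Submodule.mem_bot F).2 (hB x fun v => hx _ ⟨v, rfl⟩)
  have h1 := Subspace.finrank_add_finrank_dualCoannihilator_eq B.range
  rw [h0, finrank_bot, add_zero] at h1
  have h2 : B.range = ⊤ := Submodule.eq_top_of_finrank_eq (h1.trans Subspace.dual_finrank_eq.symm)
  exact LinearMap.mem_range.1 (h2 ▸ Submodule.mem_top)

/-- If `x ∉ W` there is `v` with `B v` vanishing on `W` and `B v x = c`. -/
theorem exists_dual_vector [FiniteDimensional F V] {σ : F →+* F} [RingHomSurjective σ]
    (B : V →ₛₗ[σ] V →ₗ[F] F) (hB : B.SeparatingRight) (W : Submodule F V) (x : V) (hx : x ∉ W)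
    (c : F) : ∃ v, (∀ w ∈ W, B v w = 0) ∧ B v x = c := by
  obtain ⟨f, hfx, hfW⟩ := Submodule.exists_le_ker_of_notMem (p := W) hx
  obtain ⟨v, hv⟩ := exists_form_eq_functional B hB ((c / f x) • f)
  refine ⟨v, fun w hw => ?_, ?_⟩
  · have : f w = 0 := hfW hw
    simp [hv, this]
  · simp [hv, hfx]

/-- The generic induction in Witt's theorem: it is enough to be able to move one vector. -/
theorem extend_of_step [FiniteDimensional F V] (G : Subgroup (V ≃ₗ[F] V)) (q : V → F)
    (r : V → V → F) (hG : ∀ g ∈ G, (∀ v, q (g v) = q v) ∧ ∀ u v, r (g u) (g v) = r u v)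
    (step : ∀ (W : Submodule F V) (x y : V), x ∉ W → y ∉ W → q x = q y →
      (∀ w ∈ W, r w x = r w y) → ∃ g ∈ G, (∀ w ∈ W, g w = w) ∧ g x = y)
    (X : Submodule F V) (φ : V →ₗ[F] V) (hinj : ∀ x ∈ X, φ x = 0 → x = 0)
    (hq : ∀ x ∈ X, q (φ x) = q x) (hr : ∀ x ∈ X, ∀ x' ∈ X, r (φ x) (φ x') = r x x') :
    ∃ g ∈ G, ∀ x ∈ X, g x = φ x := by
  obtain ⟨n, hn⟩ : ∃ n, Module.finrank F X = n := ⟨_, rfl⟩
  induction n generalizing X with
  | zero =>
    refine ⟨1, G.one_mem, fun x hx => ?_⟩
    rw [Submodule.finrank_eq_zero] at hn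
    subst hn
    rw [Submodule.mem_bot] at hx
    subst hx
    simp
  | succ n ih =>
    have hne : X ≠ ⊥ := fun h => by rw [h, finrank_bot] at hn; omega
    obtain ⟨x₀, hx₀, hx₀ne⟩ := Submodule.exists_mem_ne_zero_of_ne_bot hne
    obtain ⟨W', hW'⟩ := Submodule.exists_isCompl (F ∙ x₀)
    have hsup : X ⊓ W' ⊔ (F ∙ x₀) = X := by
      have hle : (F ∙ x₀) ≤ X := (Submodule.span_singleton_le_iff_mem _ _).2 hx₀
      refine le_antisymm (sup_le inf_le_left hle) fun z hz => ?_
      have : z ∈ (F ∙ x₀) ⊔ W' := hW'.sup_eq_top ▸ Submodule.mem_top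
      obtain ⟨a, ha, b, hb, rfl⟩ := Submodule.mem_sup.1 this
      rw [add_comm]
      exact Submodule.add_mem_sup ⟨by simpa using X.sub_mem hz (hle ha), hb⟩ ha
    have hdisj : Disjoint (X ⊓ W') (F ∙ x₀) := (hW'.disjoint.mono_right inf_le_right).symm
    have hxW : x₀ ∉ X ⊓ W' := fun h =>
      hx₀ne ((Submodule.disjoint_def.1 hdisj) x₀ h (Submodule.mem_span_singleton_self x₀))
    have hrank : Module.finrank F (X ⊓ W' : Submodule F V) = n := by
      have h := Submodule.finrank_sup_add_finrank_inf_eq (X ⊓ W') (F ∙ x₀)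
      rw [hsup, hdisj.eq_bot, finrank_bot, finrank_span_singleton hx₀ne, hn] at h
      omega
    obtain ⟨g, hg, hgW⟩ := ih (X ⊓ W') (fun x hx => hinj x hx.1) (fun x hx => hq x hx.1)
      (fun x hx x' hx' => hr x hx.1 x' hx'.1) hrank
    have hy : g.symm (φ x₀) ∉ X ⊓ W' := by
      intro hmem
      have h1 := hgW _ hmem
      rw [LinearEquiv.apply_symm_apply] at h1
      have h2 : φ (x₀ - g.symm (φ x₀)) = 0 := by rw [map_sub, ← h1, sub_self]
      have h3 := hinj _ (X.sub_mem hx₀ hmem.1) h2
      rw [sub_eq_zero] at h3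
      exact hxW (h3 ▸ hmem)
    have hqy : q x₀ = q (g.symm (φ x₀)) := by
      rw [← (hG g hg).1 (g.symm (φ x₀)), LinearEquiv.apply_symm_apply, hq x₀ hx₀]
    have hry : ∀ w ∈ X ⊓ W', r w x₀ = r w (g.symm (φ x₀)) := by
      intro w hw
      rw [← (hG g hg).2 w (g.symm (φ x₀)), LinearEquiv.apply_symm_apply, hgW w hw,
        hr w hw.1 x₀ hx₀]
    obtain ⟨h, hh, hhW, hhx⟩ := step _ x₀ _ hxW hy hqy hry
    refine ⟨g * h, G.mul_mem hg hh, fun x hx => ?_⟩
    rw [← hsup] at hx
    obtain ⟨w, hw, z, hz, rfl⟩ := Submodule.mem_sup.1 hx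
    obtain ⟨c, rfl⟩ := Submodule.mem_span_singleton.1 hz
    simp [LinearEquiv.mul_apply, hhW w hw, hhx, hgW w hw]

/-- Turn a linear equivalence between subspaces into a linear map on the whole space. -/
theorem exists_map_of_subspace_equiv {X Y : Submodule F V} (φ : X ≃ₗ[F] Y) :
    ∃ ψ : V →ₗ[F] V, ∀ x : X, ψ x = (φ x : V) := by
  obtain ⟨ψ, hψ⟩ := LinearMap.exists_extend (Y.subtype.comp φ.toLinearMap)
  exact ⟨ψ, fun x => LinearMap.congr_fun hψ x⟩

/-- In the degenerate step of Witt's theorem: `x - w` is a multiple of `y - x`. -/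
theorem step_degenerate_aux {W : Submodule F V} {x y : V} (hx : x ∉ W) (hy : y ∉ W)
    (hxW' : x ∈ W ⊔ (F ∙ (y - x))) :
    ∃ (w : V) (c l : F), w ∈ W ∧ c ≠ 0 ∧ l ≠ 0 ∧ y - x ∉ W ∧ x = w + c • (y - x) ∧
      y = w + (l * c) • (y - x) := by
  obtain ⟨w, hw, z, hz, hxwz⟩ := Submodule.mem_sup.1 hxW'
  obtain ⟨c, rfl⟩ := Submodule.mem_span_singleton.1 hz
  have hc : c ≠ 0 := by
    rintro rfl
    simp at hxwz
    exact hx (hxwz ▸ hw)
  have hy' : y = w + (c + 1) • (y - x) := by
    rw [add_smul, one_smul, ← add_assoc, hxwz, add_sub_cancel]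
  refine ⟨w, c, (c + 1) / c, hw, hc, div_ne_zero ?_ hc, ?_, hxwz.symm, ?_⟩
  · intro h
    rw [h, zero_smul, add_zero] at hy'
    exact hy (hy' ▸ hw)
  · intro h
    exact hx (hxwz ▸ W.add_mem hw (W.smul_mem c h))
  · rw [div_mul_cancel₀ _ hc]
    exact hy'

section Quadratic

/-- The subgroup of linear automorphisms preserving a function `Q`. -/
def preservingFun (Q : V → F) : Subgroup (V ≃ₗ[F] V) where
  carrier := {g | ∀ v, Q (g v) = Q v}
  mul_mem' {a b} ha hb v := by rw [LinearEquiv.mul_apply, ha, hb]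
  one_mem' v := rfl
  inv_mem' {a} ha v := by
    have h := ha (a⁻¹ v)
    rw [← LinearEquiv.mul_apply, mul_inv_cancel] at h
    exact h.symm

theorem mem_preservingFun {Q : V → F} {g : V ≃ₗ[F] V} :
    g ∈ preservingFun Q ↔ ∀ v, Q (g v) = Q v := Iff.rfl

theorem polar_map_of_preserving {Q : V → F} {g : V ≃ₗ[F] V} (hg : ∀ v, Q (g v) = Q v) (u v : V) :
    QuadraticMap.polar Q (g u) (g v) = QuadraticMap.polar Q u v := by
  simp only [QuadraticMap.polar, ← map_add, hg]

/-- A linear map preserving a quadratic form with non-degenerate polar form is an automorphism. -/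
theorem exists_equiv_of_preserves [FiniteDimensional F V] (Q : QuadraticForm F V)
    (hQ : (QuadraticMap.polarBilin Q).Nondegenerate) (f : V →ₗ[F] V) (hf : ∀ v, Q (f v) = Q v) :
    ∃ g ∈ preservingFun (⇑Q), ∀ v, g v = f v := by
  have hinj : Function.Injective f := by
    rw [injective_iff_map_eq_zero]
    intro v hv
    refine hQ.1 v fun y => ?_
    rw [QuadraticMap.polarBilin_apply_apply, QuadraticMap.polar, ← hf (v + y), ← hf v, ← hf y,
      map_add, hv, zero_add, QuadraticMap.map_zero, sub_zero, sub_self]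
  exact ⟨LinearEquiv.ofInjectiveEndo f hinj, hf, fun v => rfl⟩

/-- One step of Witt's theorem for quadratic forms. -/
theorem quadratic_step [FiniteDimensional F V] (Q : QuadraticForm F V)
    (hQ : (QuadraticMap.polarBilin Q).Nondegenerate) (W : Submodule F V) (x y : V)
    (hx : x ∉ W) (hy : y ∉ W) (hq : Q x = Q y)
    (hr : ∀ w ∈ W, QuadraticMap.polar Q w x = QuadraticMap.polar Q w y) :
    ∃ g ∈ preservingFun (⇑Q), (∀ w ∈ W, g w = w) ∧ g x = y := by
  set B : V →ₗ[F] V →ₗ[F] F := QuadraticMap.polarBilin Q with hB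
  have hBa : ∀ a b, B a b = QuadraticMap.polar Q a b := fun a b => rfl
  have hsymm : ∀ a b, B a b = B b a := fun a b => QuadraticMap.polar_comm _ a b
  set u := y - x with hu
  have huW : ∀ w ∈ W, B w u = 0 := fun w hw => by
    rw [hu, map_sub, hBa, hBa, hr w hw, sub_self]
  have hxu : x + u = y := by rw [hu]; abel
  have hQu : Q u = - B x u := by
    have h := QuadraticMap.map_add (⇑Q) x u
    rw [hxu, ← hq, ← hBa] at h
    linear_combination -h
  have qadd : ∀ (z : V) (a : F) (t : V), Q (z + a • t) = Q z + a * a * Q t + a * B z t := by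
    intro z a t
    rw [QuadraticMap.map_add (⇑Q), QuadraticMap.map_smul, QuadraticMap.polar_smul_right, hBa]
    simp only [smul_eq_mul]
  by_cases h0 : Q u = 0
  · have hxu0 : B x u = 0 := by rw [h0] at hQu; simpa using hQu.symm
    by_cases hxW' : x ∈ W ⊔ (F ∙ u)
    · obtain ⟨w, c, l, hw, hc, hl, huW', hxeq, hyeq⟩ := step_degenerate_aux hx hy hxW'
      obtain ⟨v, hvW, hvu⟩ := exists_dual_vector B hQ.2 W u huW' 1
      obtain ⟨v', hv'⟩ : ∃ v', v' = v + (-Q v) • u := ⟨_, rfl⟩
      have hBuu : B u u = 0 := by rw [hBa, QuadraticMap.polar_self, h0, smul_zero]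
      have hv'Q : Q v' = 0 := by rw [hv', qadd, hvu, h0]; ring
      have hv'u : B u v' = 1 := by
        rw [hv', map_add, map_smul, hBuu, smul_zero, add_zero, hsymm, hvu]
      have hv'W : ∀ w ∈ W, B w v' = 0 := fun w hw => by
        rw [hv', map_add, map_smul, huW w hw, smul_zero, add_zero, hsymm]
        exact hvW w hw
      obtain ⟨g, hg, hgf⟩ := exists_equiv_of_preserves Q hQ (LinearMap.id
          + ((l - 1) • B.flip v').smulRight u + ((l⁻¹ - 1) • B.flip u).smulRight v') (fun z => by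
        simp only [LinearMap.add_apply, LinearMap.id_apply, LinearMap.smulRight_apply,
          LinearMap.smul_apply, LinearMap.flip_apply, smul_eq_mul]
        rw [qadd, qadd, h0, hv'Q, LinearMap.map_add₂, LinearMap.map_smul₂, smul_eq_mul, hv'u]
        field_simp
        ring)
      have key : ∀ z, B z v' = 0 → B z u = 0 → g z = z := fun z h1 h2 => by
        simp [hgf, h1, h2]
      refine ⟨g, hg, fun z hz => key z (hv'W z hz) (huW z hz), ?_⟩
      have hgu : g u = l • u := by
        rw [hgf]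
        simp [hv'u, hBuu, sub_smul]
      calc g x = g (w + c • u) := congrArg g hxeq
        _ = w + (l * c) • u := by
          rw [map_add, map_smul, hgu, key w (hv'W w hw) (huW w hw), smul_smul, mul_comm]
        _ = y := hyeq.symm
    · obtain ⟨v, hvW, hvx⟩ := exists_dual_vector B hQ.2 _ x hxW' (-1)
      have hvu : B u v = 0 := by
        rw [hsymm]
        exact hvW u (Submodule.mem_sup_right (Submodule.mem_span_singleton_self u))
      have hBuu : B u u = 0 := by rw [hBa, QuadraticMap.polar_self, h0, smul_zero]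
      obtain ⟨g, hg, hgf⟩ := exists_equiv_of_preserves Q hQ (LinearMap.id
          + (B.flip u).smulRight v + (-(B.flip v) - Q v • B.flip u).smulRight u) (fun z => by
        simp only [LinearMap.add_apply, LinearMap.id_apply, LinearMap.smulRight_apply,
          LinearMap.smul_apply, LinearMap.sub_apply, LinearMap.neg_apply, LinearMap.flip_apply,
          smul_eq_mul]
        rw [qadd, qadd, h0, LinearMap.map_add₂, LinearMap.map_smul₂, smul_eq_mul, hsymm v u, hvu]
        ring)
      refine ⟨g, hg, fun w hw => ?_, ?_⟩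
      · have h2 : B w v = 0 := by rw [hsymm]; exact hvW w (Submodule.mem_sup_left hw)
        simp [hgf, huW w hw, h2]
      · have h2 : B x v = -1 := by rw [hsymm]; exact hvx
        rw [hgf]
        simp [hxu0, h2, hxu]
  · obtain ⟨g, hg, hgf⟩ := exists_equiv_of_preserves Q hQ (LinearMap.id
        + ((-(Q u)⁻¹) • B.flip u).smulRight u) (fun z => by
      simp only [LinearMap.add_apply, LinearMap.id_apply, LinearMap.smulRight_apply,
        LinearMap.smul_apply, LinearMap.flip_apply, smul_eq_mul]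
      rw [qadd]
      field_simp
      ring)
    refine ⟨g, hg, fun w hw => ?_, ?_⟩
    · simp [hgf, huW w hw]
    · have h2 : B x u = - Q u := by rw [hQu, neg_neg]
      rw [hgf]
      simp [h2, h0, hxu]

/-- Witt's theorem for quadratic forms with non-degenerate polar form, any field. -/
theorem witt_quadratic_map [FiniteDimensional F V] (Q : QuadraticForm F V)
    (hQ : (QuadraticMap.polarBilin Q).Nondegenerate) (X : Submodule F V) (φ : V →ₗ[F] V)
    (hinj : ∀ x ∈ X, φ x = 0 → x = 0) (hφ : ∀ x ∈ X, Q (φ x) = Q x) :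
    ∃ g : V ≃ₗ[F] V, (∀ v, Q (g v) = Q v) ∧ ∀ x ∈ X, g x = φ x := by
  obtain ⟨g, hg, h⟩ := extend_of_step (preservingFun (⇑Q)) (⇑Q) (QuadraticMap.polar (⇑Q))
    (fun g hg => ⟨hg, polar_map_of_preserving hg⟩) (quadratic_step Q hQ) X φ hinj hφ
    (fun x hx x' hx' => by
      simp only [QuadraticMap.polar, ← map_add, hφ x hx, hφ x' hx', hφ _ (X.add_mem hx hx')])
  exact ⟨g, hg, h⟩

/-- Witt's theorem for quadratic forms, for an equivalence between subspaces. -/
theorem witt_quadratic [FiniteDimensional F V] (Q : QuadraticForm F V)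
    (hQ : (QuadraticMap.polarBilin Q).Nondegenerate) (X Y : Submodule F V) (φ : X ≃ₗ[F] Y)
    (hφ : ∀ x : X, Q (φ x : V) = Q (x : V)) :
    ∃ g : V ≃ₗ[F] V, (∀ v : V, Q (g v) = Q v) ∧ ∀ x : X, g (x : V) = (φ x : V) := by
  obtain ⟨ψ, hψ⟩ := exists_map_of_subspace_equiv φ
  obtain ⟨g, hg, h⟩ := witt_quadratic_map Q hQ X ψ (fun x hx h0 => by
      rw [hψ ⟨x, hx⟩] at h0
      simpa using h0) (fun x hx => by rw [hψ ⟨x, hx⟩]; exact hφ ⟨x, hx⟩)
  exact ⟨g, hg, fun x => (h x x.2).trans (hψ x)⟩

end Quadratic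

section Alternating

/-- The subgroup of linear automorphisms preserving a two-argument function. -/
def preservingPair (r : V → V → F) : Subgroup (V ≃ₗ[F] V) where
  carrier := {g | ∀ u v, r (g u) (g v) = r u v}
  mul_mem' {a b} ha hb u v := by rw [LinearEquiv.mul_apply, LinearEquiv.mul_apply, ha, hb]
  one_mem' u v := rfl
  inv_mem' {a} ha u v := by
    have h := ha (a⁻¹ u) (a⁻¹ v)
    rw [← LinearEquiv.mul_apply, ← LinearEquiv.mul_apply, mul_inv_cancel] at h
    exact h.symm

theorem mem_preservingPair {r : V → V → F} {g : V ≃ₗ[F] V} :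
    g ∈ preservingPair r ↔ ∀ u v, r (g u) (g v) = r u v := Iff.rfl

/-- A linear map preserving a left-separating form is an automorphism. -/
theorem exists_equiv_of_preserves_form [FiniteDimensional F V] {σ : F →+* F}
    (B : V →ₛₗ[σ] V →ₗ[F] F) (hB : B.SeparatingLeft) (f : V →ₗ[F] V)
    (hf : ∀ u v, B (f u) (f v) = B u v) :
    ∃ g ∈ preservingPair (fun u v => B u v), ∀ v, g v = f v := by
  have hinj : Function.Injective f := by
    rw [injective_iff_map_eq_zero]
    intro v hv
    refine hB v fun y => ?_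
    rw [← hf, hv, map_zero, LinearMap.zero_apply]
  exact ⟨LinearEquiv.ofInjectiveEndo f hinj, hf, fun v => rfl⟩

/-- One step of Witt's theorem for alternating forms. -/
theorem alternating_step [FiniteDimensional F V] (B : LinearMap.BilinForm F V)
    (hB : B.Nondegenerate) (hA : B.IsAlt) (W : Submodule F V) (x y : V) (hx : x ∉ W) (hy : y ∉ W)
    (hr : ∀ w ∈ W, B w x = B w y) :
    ∃ g ∈ preservingPair (fun u v => B u v), (∀ w ∈ W, g w = w) ∧ g x = y := by
  have hanti : ∀ a b, B a b = - B b a := fun a b => (LinearMap.IsAlt.neg hA b a).symm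
  set u := y - x with hu
  have hxu : x + u = y := by rw [hu]; abel
  have huW : ∀ w ∈ W, B w u = 0 := fun w hw => by rw [hu, map_sub, hr w hw, sub_self]
  by_cases h0 : B x u = 0
  · by_cases hxW' : x ∈ W ⊔ (F ∙ u)
    · obtain ⟨w, c, l, hw, hc, hl, huW', hxeq, hyeq⟩ := step_degenerate_aux hx hy hxW'
      obtain ⟨v, hvW, hvu⟩ := exists_dual_vector B hB.2 W u huW' (-1)
      have huv : B u v = 1 := by rw [hanti, hvu, neg_neg]
      obtain ⟨g, hg, hgf⟩ := exists_equiv_of_preserves_form B hB.1 (LinearMap.id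
          + ((l - 1) • (LinearMap.flip B) v).smulRight u + ((l⁻¹ - 1) • B u).smulRight v) (fun a b => by
        simp only [LinearMap.add_apply, LinearMap.id_apply, LinearMap.smulRight_apply,
          LinearMap.smul_apply, LinearMap.flip_apply, smul_eq_mul, map_add, map_smul, hA u, hA v,
          huv, hvu]
        rw [hanti a u, hanti v b]
        field_simp
        ring)
      have key : ∀ z, B z v = 0 → B u z = 0 → g z = z := fun z h1 h2 => by
        simp [hgf, h1, h2]
      have hw1 : ∀ z ∈ W, g z = z := fun z hz => key z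
        (by rw [hanti, hvW z hz, neg_zero]) (by rw [hanti, huW z hz, neg_zero])
      refine ⟨g, hg, hw1, ?_⟩
      have hgu : g u = l • u := by
        rw [hgf]
        simp [huv, hA u, sub_smul]
      calc g x = g (w + c • u) := congrArg g hxeq
        _ = w + (l * c) • u := by rw [map_add, map_smul, hgu, hw1 w hw, smul_smul, mul_comm]
        _ = y := hyeq.symm
    · obtain ⟨v, hvW, hvx⟩ := exists_dual_vector B hB.2 _ x hxW' (-1)
      have hvu : B v u = 0 := hvW u (Submodule.mem_sup_right (Submodule.mem_span_singleton_self u))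
      have huv : B u v = 0 := by rw [hanti, hvu, neg_zero]
      obtain ⟨g, hg, hgf⟩ := exists_equiv_of_preserves_form B hB.1 (LinearMap.id
          + ((LinearMap.flip B) u).smulRight v + ((LinearMap.flip B) v).smulRight u) (fun a b => by
        simp only [LinearMap.add_apply, LinearMap.id_apply, LinearMap.smulRight_apply,
          LinearMap.smul_apply, LinearMap.flip_apply, smul_eq_mul, map_add, map_smul, hA u, hA v,
          huv, hvu]
        rw [hanti b u, hanti b v]
        ring)
      refine ⟨g, hg, fun w hw => ?_, ?_⟩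
      · have h2 : B w v = 0 := by rw [hanti, hvW w (Submodule.mem_sup_left hw), neg_zero]
        simp [hgf, huW w hw, h2]
      · have h2 : B x v = 1 := by rw [hanti, hvx, neg_neg]
        rw [hgf]
        simp [h0, h2, hxu]
  · obtain ⟨g, hg, hgf⟩ := exists_equiv_of_preserves_form B hB.1 (LinearMap.id
        + ((B x u)⁻¹ • (LinearMap.flip B) u).smulRight u) (fun a b => by
      simp only [LinearMap.add_apply, LinearMap.id_apply, LinearMap.smulRight_apply,
        LinearMap.smul_apply, LinearMap.flip_apply, smul_eq_mul, map_add, map_smul, hA u]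
      rw [hanti b u]
      ring)
    refine ⟨g, hg, fun w hw => ?_, ?_⟩
    · simp [hgf, huW w hw]
    · rw [hgf]
      simp [h0, hxu]

/-- Witt's theorem for alternating forms. -/
theorem witt_alternating_map [FiniteDimensional F V] (B : LinearMap.BilinForm F V)
    (hB : B.Nondegenerate) (hA : B.IsAlt) (X : Submodule F V) (φ : V →ₗ[F] V)
    (hinj : ∀ x ∈ X, φ x = 0 → x = 0) (hφ : ∀ x ∈ X, ∀ x' ∈ X, B (φ x) (φ x') = B x x') :
    ∃ g : V ≃ₗ[F] V, (∀ u v, B (g u) (g v) = B u v) ∧ ∀ x ∈ X, g x = φ x := by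
  obtain ⟨g, hg, h⟩ := extend_of_step (preservingPair fun u v => B u v) (fun _ => (0 : F))
    (fun u v => B u v) (fun g hg => ⟨fun _ => rfl, hg⟩)
    (fun W x y hx hy _ hr => alternating_step B hB hA W x y hx hy hr) X φ hinj (fun _ _ => rfl) hφ
  exact ⟨g, hg, h⟩

/-- Witt's theorem for alternating forms, for an equivalence between subspaces. -/
theorem witt_alternating [FiniteDimensional F V] (B : LinearMap.BilinForm F V)
    (hB : B.Nondegenerate) (hA : B.IsAlt) (X Y : Submodule F V) (φ : X ≃ₗ[F] Y)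
    (hφ : ∀ x x' : X, B (φ x : V) (φ x' : V) = B (x : V) (x' : V)) :
    ∃ g : V ≃ₗ[F] V, (∀ u v : V, B (g u) (g v) = B u v) ∧ ∀ x : X, g (x : V) = (φ x : V) := by
  obtain ⟨ψ, hψ⟩ := exists_map_of_subspace_equiv φ
  obtain ⟨g, hg, h⟩ := witt_alternating_map B hB hA X ψ (fun x hx h0 => by
      rw [hψ ⟨x, hx⟩] at h0
      simpa using h0) (fun x hx x' hx' => by
      rw [hψ ⟨x, hx⟩, hψ ⟨x', hx'⟩]; exact hφ ⟨x, hx⟩ ⟨x', hx'⟩)
  exact ⟨g, hg, fun x => (h x x.2).trans (hψ x)⟩

end Alternating

section Hermitian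

/-- The trace `t ↦ t + σ t` of a non-identity involution takes a non-zero value. -/
theorem exists_add_conj_ne_zero {σ : F →+* F} (hσ : σ ≠ RingHom.id F) :
    ∃ t : F, t + σ t ≠ 0 := by
  by_contra hcon
  push Not at hcon
  have h1 : (1 : F) + 1 = 0 := by simpa using hcon 1
  refine hσ (RingHom.ext fun a => ?_)
  have h2 := hcon a
  simp only [RingHom.id_apply]
  linear_combination h2 - a * h1

theorem exists_add_conj_eq {σ : F →+* F} (hσ : σ ≠ RingHom.id F) (hσ2 : ∀ a, σ (σ a) = a)
    {c : F} (hc : σ c = c) : ∃ t : F, t + σ t = c := by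
  obtain ⟨s, hs⟩ := exists_add_conj_ne_zero hσ
  refine ⟨c * s / (s + σ s), ?_⟩
  have h1 : σ (s + σ s) = s + σ s := by rw [map_add, hσ2, add_comm]
  rw [map_div₀, map_mul, hc, h1]
  field_simp

/-- One step of Witt's theorem for hermitian forms. -/
theorem hermitian_step [FiniteDimensional F V] (σ : F →+* F) (hσ : σ ≠ RingHom.id F)
    (hσ2 : ∀ a : F, σ (σ a) = a) (B : V →ₛₗ[σ] V →ₗ[F] F) (hS : B.IsSymm) (hB : B.Nondegenerate)
    (W : Submodule F V) (x y : V) (hx : x ∉ W) (hy : y ∉ W) (hq : B x x = B y y)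
    (hr : ∀ w ∈ W, B w x = B w y) :
    ∃ g ∈ preservingPair (fun u v => B u v), (∀ w ∈ W, g w = w) ∧ g x = y := by
  have : RingHomSurjective σ := ⟨fun a => ⟨σ a, hσ2 a⟩⟩
  set u := y - x with hu
  have hxu : x + u = y := by rw [hu]; abel
  have huW : ∀ w ∈ W, B w u = 0 := fun w hw => by rw [hu, map_sub, hr w hw, sub_self]
  have huW2 : ∀ w ∈ W, B u w = 0 := fun w hw => by rw [← hS.eq, huW w hw, map_zero]
  have hsum : B x u + B u x + B u u = 0 := by
    have h : B (x + u) (x + u) = B x x := by rw [hxu, hq]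
    simp only [map_add, LinearMap.add_apply] at h
    linear_combination h
  by_cases h0 : B u x = 0
  · have hxu0 : B x u = 0 := by rw [← hS.eq, h0, map_zero]
    have huu : B u u = 0 := by rw [h0, hxu0] at hsum; simpa using hsum
    by_cases hxW' : x ∈ W ⊔ (F ∙ u)
    · obtain ⟨w, c, l, hw, hc, hl, huW', hxeq, hyeq⟩ := step_degenerate_aux hx hy hxW'
      obtain ⟨v₀, hvW₀, hvu₀⟩ := exists_dual_vector B hB.2 W u huW' 1
      obtain ⟨t, ht⟩ := exists_add_conj_eq hσ hσ2 (c := -(B v₀ v₀))
        (by rw [map_neg, hS.eq])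
      obtain ⟨v, hv⟩ : ∃ v, v = v₀ + t • u := ⟨_, rfl⟩
      have hvW : ∀ w ∈ W, B v w = 0 := fun w hw => by
        simp [hv, hvW₀ w hw, huW2 w hw, LinearMap.map_smulₛₗ]
      have hvu : B v u = 1 := by simp [hv, hvu₀, huu, LinearMap.map_smulₛₗ]
      have huv : B u v = 1 := by rw [← hS.eq, hvu, map_one]
      have hvv : B v v = 0 := by
        have h1 : B u v₀ = 1 := by rw [← hS.eq, hvu₀, map_one]
        simp only [hv, map_add, LinearMap.map_smulₛₗ, RingHom.id_apply, LinearMap.add_apply,
          LinearMap.smul_apply, smul_eq_mul, hvu₀, h1, huu]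
        linear_combination ht
      obtain ⟨g, hg, hgf⟩ := exists_equiv_of_preserves_form B hB.1 (LinearMap.id
          + ((l - 1) • B v).smulRight u + ((σ l⁻¹ - 1) • B u).smulRight v) (fun a b => by
        simp only [LinearMap.add_apply, LinearMap.id_apply, LinearMap.smulRight_apply,
          LinearMap.smul_apply, LinearMap.map_smulₛₗ, RingHom.id_apply, smul_eq_mul, map_add,
          map_mul, map_sub, map_one, hS.eq, hσ2, huu, huv, hvu, hvv]
        have e1 : σ l * σ l⁻¹ = 1 := by rw [← map_mul, mul_inv_cancel₀ hl, map_one]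
        have e2 : l * l⁻¹ = 1 := mul_inv_cancel₀ hl
        linear_combination B a v * B u b * e1 + B a u * B v b * e2)
      have key : ∀ z ∈ W, g z = z := fun z hz => by
        simp [hgf, hvW z hz, huW2 z hz]
      refine ⟨g, hg, key, ?_⟩
      have hgu : g u = l • u := by
        rw [hgf]
        simp [hvu, huu, sub_smul]
      calc g x = g (w + c • u) := congrArg g hxeq
        _ = w + (l * c) • u := by rw [map_add, map_smul, hgu, key w hw, smul_smul, mul_comm]
        _ = y := hyeq.symm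
    · obtain ⟨v, hvW, hvx⟩ := exists_dual_vector B hB.2 _ x hxW' (-1)
      have hvu : B v u = 0 := hvW u (Submodule.mem_sup_right (Submodule.mem_span_singleton_self u))
      have huv : B u v = 0 := by rw [← hS.eq, hvu, map_zero]
      obtain ⟨t, ht⟩ := exists_add_conj_eq hσ hσ2 (c := -(B v v)) (by rw [map_neg, hS.eq])
      obtain ⟨g, hg, hgf⟩ := exists_equiv_of_preserves_form B hB.1 (LinearMap.id
          + (B u).smulRight v + (t • B u - B v).smulRight u) (fun a b => by
        simp only [LinearMap.add_apply, LinearMap.id_apply, LinearMap.smulRight_apply,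
          LinearMap.smul_apply, LinearMap.sub_apply, LinearMap.map_smulₛₗ, RingHom.id_apply,
          smul_eq_mul, map_add, map_mul, map_sub, hS.eq, huu, huv, hvu]
        linear_combination B a u * B u b * ht)
      refine ⟨g, hg, fun w hw => ?_, ?_⟩
      · simp [hgf, huW2 w hw, hvW w (Submodule.mem_sup_left hw)]
      · rw [hgf]
        simp [h0, hvx, hxu]
  · obtain ⟨g, hg, hgf⟩ := exists_equiv_of_preserves_form B hB.1 (LinearMap.id
        + ((B u x)⁻¹ • B u).smulRight u) (fun a b => by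
      have h1 : B x u ≠ 0 := fun h => h0 (by rw [← hS.eq, h, map_zero])
      simp only [LinearMap.add_apply, LinearMap.id_apply, LinearMap.smulRight_apply,
        LinearMap.smul_apply, LinearMap.map_smulₛₗ, RingHom.id_apply, smul_eq_mul, map_add,
        map_mul, map_inv₀, hS.eq]
      field_simp
      linear_combination B a u * B u b * hsum)
    refine ⟨g, hg, fun w hw => ?_, ?_⟩
    · simp [hgf, huW2 w hw]
    · rw [hgf]
      simp [h0, hxu]

/-- Witt's theorem for hermitian forms. -/
theorem witt_hermitian_map [FiniteDimensional F V] (σ : F →+* F) (hσ : σ ≠ RingHom.id F)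
    (hσ2 : ∀ a : F, σ (σ a) = a) (B : V →ₛₗ[σ] V →ₗ[F] F) (hS : B.IsSymm) (hB : B.Nondegenerate)
    (X : Submodule F V) (φ : V →ₗ[F] V) (hinj : ∀ x ∈ X, φ x = 0 → x = 0)
    (hφ : ∀ x ∈ X, ∀ x' ∈ X, B (φ x) (φ x') = B x x') :
    ∃ g : V ≃ₗ[F] V, (∀ u v, B (g u) (g v) = B u v) ∧ ∀ x ∈ X, g x = φ x := by
  obtain ⟨g, hg, h⟩ := extend_of_step (preservingPair fun u v => B u v) (fun v => B v v)
    (fun u v => B u v) (fun g hg => ⟨fun v => hg v v, hg⟩)
    (fun W x y hx hy hq hr => hermitian_step σ hσ hσ2 B hS hB W x y hx hy hq hr) X φ hinj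
    (fun x hx => hφ x hx x hx) hφ
  exact ⟨g, hg, h⟩

/-- Witt's theorem for hermitian forms, for an equivalence between subspaces. -/
theorem witt_hermitian [FiniteDimensional F V] (σ : F →+* F) (hσ : σ ≠ RingHom.id F)
    (hσ2 : ∀ a : F, σ (σ a) = a) (B : V →ₛₗ[σ] V →ₗ[F] F) (hS : B.IsSymm) (hB : B.Nondegenerate)
    (X Y : Submodule F V) (φ : X ≃ₗ[F] Y)
    (hφ : ∀ x x' : X, B (φ x : V) (φ x' : V) = B (x : V) (x' : V)) :
    ∃ g : V ≃ₗ[F] V, (∀ u v : V, B (g u) (g v) = B u v) ∧ ∀ x : X, g (x : V) = (φ x : V) := by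
  obtain ⟨ψ, hψ⟩ := exists_map_of_subspace_equiv φ
  obtain ⟨g, hg, h⟩ := witt_hermitian_map σ hσ hσ2 B hS hB X ψ (fun x hx h0 => by
      rw [hψ ⟨x, hx⟩] at h0
      simpa using h0) (fun x hx x' hx' => by
      rw [hψ ⟨x, hx⟩, hψ ⟨x', hx'⟩]; exact hφ ⟨x, hx⟩ ⟨x', hx'⟩)
  exact ⟨g, hg, fun x => (h x x.2).trans (hψ x)⟩

end Hermitian

end Cfsg.Agent.Forms
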