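import Cfsg.Agent.Lib.Forms.Standard
/-
Alternating forms.
* `altStd` : the standard alternating form on `(Fin m ⊕ Fin m) ⊕ ι → F` (radical the `ι`-part)
* `exists_alt_split` : splitting off a hyperbolic plane
* `exists_symplectic_equiv` : normal form of an alternating form over any field
* `even_finrank_sub_ker` : the rank of an alternating form is even
-/

set_option autoImplicit false

namespace Cfsg.Agent.Forms

variable {F V : Type*} [Field F] [AddCommGroup V] [Module F V]

/-- The standard alternating form with radical. -/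
def altStd (m k : ℕ) (x y : (Fin m ⊕ Fin m) ⊕ Fin k → F) : F :=
  ∑ i : Fin m, (x (.inl (.inl i)) * y (.inl (.inr i)) - x (.inl (.inr i)) * y (.inl (.inl i)))

/-- Splitting off the first pair of coordinates. -/
def altSucc (m k : ℕ) : ((Fin (m + 1) ⊕ Fin (m + 1)) ⊕ Fin k → F) ≃ₗ[F]
    (F × F) × ((Fin m ⊕ Fin m) ⊕ Fin k → F) where
  toFun v := ((v (.inl (.inl 0)), v (.inl (.inr 0))),
    v ∘ Sum.map (Sum.map Fin.succ Fin.succ) id)
  invFun p := Sum.elim
    (Sum.elim (Fin.cons p.1.1 (p.2 ∘ Sum.inl ∘ Sum.inl)) (Fin.cons p.1.2 (p.2 ∘ Sum.inl ∘ Sum.inr)))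
    (p.2 ∘ Sum.inr)
  map_add' _ _ := rfl
  map_smul' _ _ := rfl
  left_inv v := by
    funext i
    rcases i with (i | i) | i
    rotate_right
    · simp
    all_goals refine Fin.cases ?_ (fun j => ?_) i <;> simp
  right_inv p := by
    ext i <;> try simp
    rcases i with (i | i) | i <;> simp

theorem altStd_succ (m k : ℕ) (x y : (Fin (m + 1) ⊕ Fin (m + 1)) ⊕ Fin k → F) :
    altStd (m + 1) k x y = ((altSucc m k x).1.1 * (altSucc m k y).1.2
        - (altSucc m k x).1.2 * (altSucc m k y).1.1)
      + altStd m k (altSucc m k x).2 (altSucc m k y).2 := by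
  simp [altStd, altSucc, Fin.sum_univ_succ]
  ring

/-- An alternating form with `B e f = 1` splits off the plane `⟨e, f⟩`. -/
theorem exists_alt_split [FiniteDimensional F V] (B : LinearMap.BilinForm F V) (hA : B.IsAlt)
    {e f : V} (hef : B e f = 1) :
    ∃ (K : Submodule F V) (φ : ((F × F) × K) ≃ₗ[F] V),
      (∀ p r, B (φ p) (φ r) = (p.1.1 * r.1.2 - p.1.2 * r.1.1) + B p.2 r.2) ∧
      φ ((1, 0), 0) = e ∧ φ ((0, 1), 0) = f ∧ Module.finrank F K + 2 = Module.finrank F V := by
  have hfe : B f e = -1 := by rw [← LinearMap.IsAlt.neg hA e f, hef]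
  let K : Submodule F V := LinearMap.ker (B e) ⊓ LinearMap.ker (B f)
  have hK : ∀ v : V, v ∈ K ↔ B e v = 0 ∧ B f v = 0 := fun v => Iff.rfl
  have hk : ∀ v, v + B f v • e - B e v • f ∈ K := fun v => by
    rw [hK]
    simp [hA e, hA f, hef, hfe]
  let φ : ((F × F) × K) ≃ₗ[F] V :=
    { toFun := fun p => p.1.1 • e + p.1.2 • f + (p.2 : V)
      invFun := fun v => ((-B f v, B e v), ⟨_, hk v⟩)
      map_add' := fun p r => by simp [add_smul]; abel
      map_smul' := fun c p => by simp [smul_add, smul_smul]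
      left_inv := fun p => by
        obtain ⟨⟨a, b⟩, k, hkk⟩ := p
        obtain ⟨h1, h2⟩ := (hK k).1 hkk
        simp [hA e, hA f, hef, hfe, h1, h2]
        abel
      right_inv := fun v => by simp }
  refine ⟨K, φ, ?_, by simp [φ], by simp [φ], ?_⟩
  · rintro ⟨⟨a, b⟩, x, hx⟩ ⟨⟨c, d⟩, y, hy⟩
    obtain ⟨h1, h2⟩ := (hK x).1 hx
    obtain ⟨h3, h4⟩ := (hK y).1 hy
    have h5 : B x e = 0 := by rw [← LinearMap.IsAlt.neg hA e x, h1, neg_zero]
    have h6 : B x f = 0 := by rw [← LinearMap.IsAlt.neg hA f x, h2, neg_zero]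
    simp [φ, hA e, hA f, hef, hfe, h3, h4, h5, h6]
    ring
  · rw [← φ.finrank_eq, Module.finrank_prod, Module.finrank_prod, Module.finrank_self]
    ring

/-- Normal form of an alternating form. -/
theorem exists_symplectic_equiv.{u, v} {F : Type u} [Field F] {V : Type v} [AddCommGroup V]
    [Module F V] [FiniteDimensional F V] (B : LinearMap.BilinForm F V) (hA : B.IsAlt) :
    ∃ (m k : ℕ) (e : ((Fin m ⊕ Fin m) ⊕ Fin k → F) ≃ₗ[F] V),
      ∀ x y, B (e x) (e y) = altStd m k x y := by
  obtain ⟨n, hn⟩ : ∃ n, Module.finrank F V = n := ⟨_, rfl⟩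
  induction n using Nat.strong_induction_on generalizing V with
  | _ n ih =>
    by_cases h0 : B = 0
    · refine ⟨0, n, (LinearEquiv.funCongrLeft F F (Equiv.emptySum (Fin 0 ⊕ Fin 0) (Fin n)).symm).trans
        (Module.finBasisOfFinrankEq F V hn).equivFun.symm, fun x y => ?_⟩
      simp [h0, altStd]
    · obtain ⟨e, f₀, hne⟩ : ∃ e f₀, B e f₀ ≠ 0 := by
        by_contra hcon
        push Not at hcon
        exact h0 (LinearMap.ext₂ fun x y => hcon x y)
      obtain ⟨K, φ, hφ, -, -, hrank⟩ := exists_alt_split B hA (e := e) (f := (B e f₀)⁻¹ • f₀)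
        (by simp [hne])
      obtain ⟨m, k, ψ, hψ⟩ := ih _ (by omega) (B.restrict K) (fun x => hA x) rfl
      refine ⟨m + 1, k, (altSucc m k).trans (((LinearEquiv.refl F (F × F)).prodCongr ψ).trans φ),
        fun x y => ?_⟩
      rw [LinearEquiv.trans_apply, LinearEquiv.trans_apply, LinearEquiv.trans_apply,
        LinearEquiv.trans_apply, hφ, altStd_succ, ← hψ]
      rfl

/-- The rank of an alternating form is even. -/
theorem even_finrank_sub_ker [FiniteDimensional F V] (B : LinearMap.BilinForm F V) (hA : B.IsAlt) :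
    Even (Module.finrank F V - Module.finrank F (LinearMap.ker B)) := by
  obtain ⟨m, k, e, he⟩ := exists_symplectic_equiv B hA
  have hmem : ∀ x, x ∈ (LinearMap.ker B).comap e.toLinearMap ↔ ∀ i, x (Sum.inl i) = 0 := fun x => by
    rw [Submodule.mem_comap, LinearMap.mem_ker]
    constructor
    · intro h i
      rcases i with i | i
      · have := he x (Pi.single (.inl (.inr i)) 1)
        rw [LinearEquiv.coe_coe] at h
        rw [h] at this
        simpa [altStd, Pi.single_apply] using this.symm
      · have := he x (Pi.single (.inl (.inl i)) 1)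
        rw [LinearEquiv.coe_coe] at h
        rw [h] at this
        simpa [altStd, Pi.single_apply] using this.symm
    · intro h
      ext v
      obtain ⟨y, rfl⟩ := e.surjective v
      rw [LinearEquiv.coe_coe, he]
      simp [altStd, h]
  let ψ : ((LinearMap.ker B).comap e.toLinearMap : Submodule F _) ≃ₗ[F] (Fin k → F) :=
    { toFun := fun x j => x.1 (Sum.inr j)
      invFun := fun z => ⟨Sum.elim 0 z, (hmem _).2 fun i => rfl⟩
      map_add' := fun x y => rfl
      map_smul' := fun c x => rfl
      left_inv := fun x => by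
        apply Subtype.ext
        funext i
        rcases i with i | j
        · exact ((hmem _).1 x.2 i).symm
        · rfl
      right_inv := fun z => rfl }
  rw [← e.finrank_eq, ← LinearEquiv.finrank_map_eq e.symm (LinearMap.ker B),
    Submodule.map_equiv_eq_comap_symm, LinearEquiv.symm_symm]
  rw [ψ.finrank_eq]
  simp

end Cfsg.Agent.Forms
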