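import Cfsg.Agent.Lib.Forms.Classify
import Cfsg.Agent.Lib.Forms.Symplectic
/-
Involutive isometries in characteristic two (the types a, b, c of Aschbacher and Seitz).
An involution is given by `N = t + 1`.
* `IsInvN B N`, `IsInvQ B Q N` : `N * N = 0`, `B (N x) y = B x (N y)`, `Q (N x) = B x (N x)`
* `Frame B N β u` : the form `(x, y) ↦ B x (N y)` has matrix `β` on `u`, and `N` is spanned by `N u`
* `exists_frame` : `β` is `1` or (if `B x (N x) = 0` for all `x`) hyperbolic
* `exists_intertwiner_sp`, `exists_intertwiner_orth` : equal invariants give conjugate involutions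
-/

set_option autoImplicit false

namespace Cfsg.Agent.Forms.Invol

open Module

variable {F V : Type*} [Field F] [CharP F 2] [AddCommGroup V] [Module F V]

omit [AddCommGroup V] [Module F V] in
theorem exists_mul_self [Finite F] (x : F) : ∃ y : F, y * y = x := by
  obtain ⟨y, hy⟩ := FiniteField.isSquare_of_char_two (ringChar.eq F 2) x
  exact ⟨y, hy.symm⟩

theorem vec_add_self (F : Type*) [Field F] [CharP F 2] [Module F V] (x : V) : x + x = 0 := by
  rw [← two_smul F, CharTwo.two_eq_zero, zero_smul]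

/-- `B` is symplectic and `N` is `t + 1` for an involutive isometry `t`. -/
structure IsInvN (B : LinearMap.BilinForm F V) (N : V →ₗ[F] V) : Prop where
  nd : B.Nondegenerate
  alt : B.IsAlt
  sq : ∀ x, N (N x) = 0
  adj : ∀ x y, B (N x) y = B x (N y)

/-- In addition `t` preserves the quadratic form `Q` with polar form `B`. -/
structure IsInvQ (B : LinearMap.BilinForm F V) (Q : QuadraticForm F V) (N : V →ₗ[F] V) : Prop
    extends IsInvN B N where
  pol : ∀ x y, QuadraticMap.polar Q x y = B x y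
  quad : ∀ x, Q (N x) = B x (N x)

variable {B : LinearMap.BilinForm F V} {N : V →ₗ[F] V}

theorem IsInvN.comm (h : IsInvN B N) (x y : V) : B x y = B y x := by
  rw [← LinearMap.IsAlt.neg h.alt y x, CharTwo.neg_eq]

theorem IsInvN.symm' (h : IsInvN B N) (x y : V) : B x (N y) = B y (N x) := by
  rw [← h.adj, h.comm]

theorem IsInvN.orth_range (h : IsInvN B N) (x y : V) : B (N x) (N y) = 0 := by
  rw [h.adj, h.sq, map_zero]

theorem isInvN_of (hnd : B.Nondegenerate) (halt : B.IsAlt) (t : V →ₗ[F] V)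
    (ht : ∀ x, t (t x) = x) (hB : ∀ x y, B (t x) (t y) = B x y) : IsInvN B (t + 1) := by
  refine ⟨hnd, halt, fun x => ?_, fun x y => ?_⟩
  · show t (t x + x) + (t x + x) = 0
    rw [map_add, ht, add_comm (t x) x, vec_add_self F]
  · show B (t x + x) y = B x (t y + y)
    rw [map_add, map_add, LinearMap.add_apply]
    conv_lhs => rw [← hB (t x) y, ht]

theorem isInvQ_of (Q : QuadraticForm F V) (hnd : (QuadraticMap.polarBilin Q).Nondegenerate)
    (t : V →ₗ[F] V) (ht : ∀ x, t (t x) = x) (hQ : ∀ x, Q (t x) = Q x) :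
    IsInvQ (QuadraticMap.polarBilin Q) Q (t + 1) := by
  have halt : LinearMap.BilinForm.IsAlt (QuadraticMap.polarBilin Q) := fun x => by
    rw [QuadraticMap.polarBilin_apply_apply, QuadraticMap.polar_self, two_nsmul,
      CharTwo.add_self_eq_zero]
  refine ⟨isInvN_of hnd halt t ht fun x y => ?_, fun x y => rfl, fun x => ?_⟩
  · simp only [QuadraticMap.polarBilin_apply_apply, QuadraticMap.polar, ← map_add, hQ]
  · show Q (t x + x) = QuadraticMap.polar Q x (t x + x)
    rw [QuadraticMap.polar_add_right, QuadraticMap.polar_self, QuadraticMap.map_add (⇑Q), hQ,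
      QuadraticMap.polar_comm _ x (t x)]
    simp [CharTwo.add_self_eq_zero, CharTwo.two_eq_zero]

/-! ### Orthonormal bases of non-alternating symmetric forms -/

theorem exists_orthonormal.{u, v} {F : Type u} [Field F] [CharP F 2] [Finite F] {V : Type v}
    [AddCommGroup V] [Module F V] [FiniteDimensional F V] (S : LinearMap.BilinForm F V)
    (hS : ∀ x y, S x y = S y x) (hnd : ∀ x, (∀ y, S x y = 0) → x = 0)
    (hna : ∃ v, S v v ≠ 0) {n : ℕ} (hn : finrank F V = n) :
    ∃ e : Basis (Fin n) F V, ∀ i j, S (e i) (e j) = (1 : Matrix (Fin n) (Fin n) F) i j := by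
  classical
  suffices h : ∃ e : Fin n → V, ∀ i j, S (e i) (e j) = (1 : Matrix (Fin n) (Fin n) F) i j by
    obtain ⟨e, he⟩ := h
    have hli : LinearIndependent F e := by
      rw [Fintype.linearIndependent_iff]
      intro g hg i
      have := congrArg (S (e i)) hg
      simpa [he, Matrix.one_apply] using this
    refine ⟨basisOfLinearIndependentOfCardEqFinrank' e hli (by rw [Fintype.card_fin, hn]), ?_⟩
    simpa using he
  induction n generalizing V with
  | zero => exact ⟨Fin.elim0, fun i => i.elim0⟩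
  | succ n ih =>
    obtain ⟨v₀, hv₀⟩ := hna
    obtain ⟨r, hr⟩ := exists_mul_self (S v₀ v₀)⁻¹
    have hv : S (r • v₀) (r • v₀) = 1 := by
      simp only [map_smul, LinearMap.smul_apply, smul_eq_mul]
      rw [← mul_assoc, hr, inv_mul_cancel₀ hv₀]
    set v := r • v₀ with hvdef
    have hW : ∀ v : V, S v v = 1 → finrank F (LinearMap.ker (S v)) = n ∧
        ∀ x ∈ LinearMap.ker (S v), (∀ y ∈ LinearMap.ker (S v), S x y = 0) → x = 0 := by
      intro v hv
      refine ⟨?_, fun x hx h => hnd x fun y => ?_⟩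
      · have h1 := LinearMap.finrank_range_add_finrank_ker (S v)
        rw [LinearMap.range_eq_top.2 fun c => ⟨c • v, by simp [hv]⟩, finrank_top,
          Module.finrank_self] at h1
        omega
      · rw [LinearMap.mem_ker] at hx
        have h2 : y + S v y • v ∈ LinearMap.ker (S v) := by
          rw [LinearMap.mem_ker, map_add, map_smul, hv, smul_eq_mul, mul_one,
            CharTwo.add_self_eq_zero]
        have h3 := h _ h2
        rwa [map_add, map_smul, hS x v, hx, smul_zero, add_zero] at h3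
    obtain ⟨v', hv', hrest⟩ : ∃ v' : V, S v' v' = 1 ∧
        ((∃ z ∈ LinearMap.ker (S v'), S z z ≠ 0) ∨ LinearMap.ker (S v') = ⊥) := by
      by_cases hz : ∃ z ∈ LinearMap.ker (S v), S z z ≠ 0
      · exact ⟨v, hv, Or.inl hz⟩
      push Not at hz
      by_cases hb : LinearMap.ker (S v) = ⊥
      · exact ⟨v, hv, Or.inr hb⟩
      obtain ⟨x, hx, hx0⟩ := (Submodule.ne_bot_iff _).1 hb
      obtain ⟨y₀, hy₀, hxy⟩ : ∃ y ∈ LinearMap.ker (S v), S x y ≠ 0 := by
        by_contra! h
        exact hx0 ((hW v hv).2 x hx h)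
      set y := (S x y₀)⁻¹ • y₀
      have hy : y ∈ LinearMap.ker (S v) := Submodule.smul_mem _ _ hy₀
      have hxy' : S x y = 1 := by simp [y, hxy]
      have hvx : S v x = 0 := hx
      have hvy : S v y = 0 := hy
      refine ⟨v + x, ?_, Or.inl ⟨v + y, ?_, ?_⟩⟩
      · simp [hv, hS x v, hvx, hz x hx]
      · rw [LinearMap.mem_ker]
        simp [hv, hS x v, hvx, hvy, hxy', CharTwo.add_self_eq_zero]
      · simp [hv, hS y v, hvy, hz y hy]
    set W := LinearMap.ker (S v') with hWdef
    obtain ⟨e, he⟩ : ∃ e : Fin n → W, ∀ i j, (S.restrict W) (e i) (e j)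
        = (1 : Matrix (Fin n) (Fin n) F) i j := by
      rcases hrest with ⟨z, hz, hzz⟩ | hbot
      · exact ih (S.restrict W) (fun x y => hS _ _)
          (fun x hx => Subtype.ext ((hW v' hv').2 x x.2 fun y hy => hx ⟨y, hy⟩))
          ⟨⟨z, hz⟩, hzz⟩ (hW v' hv').1
      · have : n = 0 := by rw [← (hW v' hv').1, ← hWdef, hbot, finrank_bot]
        subst this
        exact ⟨Fin.elim0, fun i => i.elim0⟩
    refine ⟨Fin.cons v' fun i => (e i : V), fun i j => ?_⟩
    have hve : ∀ i, S v' (e i : V) = 0 := fun i => (e i).2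
    refine Fin.cases ?_ (fun i => ?_) i <;> refine Fin.cases ?_ (fun j => ?_) j
    · simp [hv']
    · simp [hve, (Fin.succ_ne_zero j).symm, Matrix.one_apply]
    · simp [hS _ v', hve, Fin.succ_ne_zero i, Matrix.one_apply]
    · simpa [Matrix.one_apply] using he i j

/-! ### Frames -/

/-- `u` represents a basis of `V` modulo the kernel of `N`, of Gram matrix `β`. -/
structure Frame (B : LinearMap.BilinForm F V) (N : V →ₗ[F] V) {ι : Type} [Fintype ι]
    [DecidableEq ι] (β : Matrix ι ι F) (u : ι → V) : Prop where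
  unit : IsUnit β.det
  bu : ∀ i j, B (u i) (N (u j)) = β i j
  complete : ∀ v, ∃ a : ι → F, N v = ∑ i, a i • N (u i)

/-- The matrix of the alternating model. -/
def altMat (F : Type*) [Field F] (j : ℕ) : Matrix (Fin j ⊕ Fin j) (Fin j ⊕ Fin j) F :=
  Matrix.fromBlocks 0 1 1 0

omit [AddCommGroup V] [Module F V] [CharP F 2] in
theorem altMat_diag (j : ℕ) (i : Fin j ⊕ Fin j) : altMat F j i i = 0 := by
  rcases i with i | i <;> simp [altMat]

/-- The alternating flag. -/
def IsAltInv (B : LinearMap.BilinForm F V) (N : V →ₗ[F] V) : Prop := ∀ x, B x (N x) = 0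

variable {ι : Type} [Fintype ι] [DecidableEq ι] {β : Matrix ι ι F} {u : ι → V}

theorem Frame.sum_apply (hf : Frame B N β u) (a : ι → F) (j : ι) :
    B (∑ i, a i • u i) (N (u j)) = Matrix.vecMul a β j := by
  simp [LinearMap.sum_apply, hf.bu, Matrix.vecMul, dotProduct]

theorem Frame.exists_dual (hf : Frame B N β u) (c : ι → F) :
    ∃ y, ∀ j, B y (N (u j)) = c j := by
  refine ⟨∑ i, Matrix.vecMul c β⁻¹ i • u i, fun j => ?_⟩
  rw [hf.sum_apply, Matrix.vecMul_vecMul, Matrix.nonsing_inv_mul _ hf.unit, Matrix.vecMul_one]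

theorem Frame.apply_eq_zero (hN : IsInvN B N) (hf : Frame B N β u) {y : V}
    (hy : ∀ j, B y (N (u j)) = 0) : N y = 0 := by
  obtain ⟨a, ha⟩ := hf.complete y
  have h : Matrix.vecMul a β = Matrix.vecMul 0 β := by
    funext j
    rw [Matrix.zero_vecMul, Pi.zero_apply, ← hy j, ← hN.adj, ha, ← hf.sum_apply, ← hN.adj,
      map_sum N]
    simp only [map_smul]
  have ha0 : a = 0 := Matrix.vecMul_injective_of_isUnit
    ((Matrix.isUnit_iff_isUnit_det β).2 hf.unit) h
  rw [ha, ha0]
  simp

theorem Frame.shift (hN : IsInvN B N) (hf : Frame B N β u) (k : ι → V) (hk : ∀ i, N (k i) = 0) :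
    Frame B N β fun i => u i + k i := by
  refine ⟨hf.unit, fun i j => ?_, fun v => ?_⟩
  · rw [map_add N, hk, add_zero, map_add, LinearMap.add_apply, hf.bu, ← hN.adj (k i), hk,
      map_zero, LinearMap.zero_apply, add_zero]
  · obtain ⟨a, ha⟩ := hf.complete v
    exact ⟨a, by simp [ha, map_add N, hk]⟩

theorem exists_frame_alt [FiniteDimensional F V] (hN : IsInvN B N) (ha : IsAltInv B N) :
    ∃ j, finrank F (LinearMap.range N) = 2 * j ∧
      ∃ u : Fin j ⊕ Fin j → V, Frame B N (altMat F j) u := by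
  obtain ⟨X, hX⟩ := (LinearMap.ker N).exists_isCompl
  obtain ⟨m, k, e, he⟩ := exists_symplectic_equiv (LinearMap.BilinForm.restrict (B.compl₂ N) X) fun x => ha x
  have hcomp : ∀ v, ∃ x : X, N v = N x := fun v => by
    obtain ⟨a, ha', b, hb, rfl⟩ := Submodule.mem_sup.1
      (hX.sup_eq_top ▸ Submodule.mem_top : v ∈ LinearMap.ker N ⊔ X)
    exact ⟨⟨b, hb⟩, by rw [map_add N, LinearMap.mem_ker.1 ha', zero_add]⟩
  obtain rfl : k = 0 := by
    by_contra hk
    set x := e (Pi.single (.inr ⟨0, Nat.pos_of_ne_zero hk⟩) 1) with hx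
    have h0 : N (x : V) = 0 := hN.nd.1 _ fun y => by
      obtain ⟨y', hy'⟩ := hcomp y
      rw [hN.adj, hy']
      obtain ⟨z, rfl⟩ := e.surjective y'
      show (LinearMap.BilinForm.restrict (B.compl₂ N) X) x (e z) = 0
      rw [hx, he]
      simp [altStd]
    have hx0 : x = 0 := Subtype.ext (Submodule.disjoint_def.1 hX.disjoint _
      (LinearMap.mem_ker.2 h0) x.2)
    simpa using congrFun (e.map_eq_zero_iff.1 hx0) (.inr ⟨0, Nat.pos_of_ne_zero hk⟩)
  refine ⟨m, ?_, fun i => (e (Pi.single (.inl i) 1) : V), ?_, fun i j => ?_, fun v => ?_⟩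
  · have h1 := e.finrank_eq
    have h2 := Submodule.finrank_add_eq_of_isCompl hX
    have h3 := LinearMap.finrank_range_add_finrank_ker N
    simp at h1
    omega
  · refine IsUnit.of_mul_eq_one (altMat F m).det ?_
    rw [← Matrix.det_mul, altMat, Matrix.fromBlocks_multiply]
    simp
  · show (LinearMap.BilinForm.restrict (B.compl₂ N) X) _ _ = _
    rw [he]
    rcases i with i | i <;> rcases j with j | j <;>
      simp [altStd, altMat, Pi.single_apply, Matrix.one_apply, eq_comm, CharTwo.sub_eq_add]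
  · obtain ⟨x, hx⟩ := hcomp v
    refine ⟨fun i => e.symm x (.inl i), ?_⟩
    obtain ⟨z, rfl⟩ := e.surjective x
    simp only [LinearEquiv.symm_apply_apply]
    rw [hx]
    conv_lhs => rw [show z = ∑ i, z (.inl i) • (Pi.single (.inl i) 1 : (Fin m ⊕ Fin m) ⊕ Fin 0 → F) by
      funext l
      rcases l with l | l
      · simp [Pi.single_apply]
      · exact l.elim0]
    simp only [map_sum, map_smul, Submodule.coe_sum, Submodule.coe_smul]

theorem exists_frame_nonalt [Finite F] [FiniteDimensional F V] (hN : IsInvN B N)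
    (ha : ¬ IsAltInv B N) {s : ℕ} (hs : finrank F (LinearMap.range N) = s) :
    ∃ u : Fin s → V, Frame B N 1 u := by
  obtain ⟨X, hX⟩ := (LinearMap.ker N).exists_isCompl
  have hcomp : ∀ v, ∃ x : X, N v = N x := fun v => by
    obtain ⟨a, ha', b, hb, rfl⟩ := Submodule.mem_sup.1
      (hX.sup_eq_top ▸ Submodule.mem_top : v ∈ LinearMap.ker N ⊔ X)
    exact ⟨⟨b, hb⟩, by rw [map_add N, LinearMap.mem_ker.1 ha', zero_add]⟩
  have hd : finrank F X = s := by
    have h2 := Submodule.finrank_add_eq_of_isCompl hX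
    have h3 := LinearMap.finrank_range_add_finrank_ker N
    omega
  obtain ⟨e, he⟩ := exists_orthonormal (LinearMap.BilinForm.restrict (B.compl₂ N) X)
    (fun x y => hN.symm' _ _) (fun x hx => by
      have h0 : N (x : V) = 0 := hN.nd.1 _ fun y => by
        obtain ⟨y', hy'⟩ := hcomp y
        rw [hN.adj, hy']
        exact hx y'
      exact Subtype.ext (Submodule.disjoint_def.1 hX.disjoint _ (LinearMap.mem_ker.2 h0) x.2))
    (by
      by_contra! h
      refine ha fun v => ?_
      obtain ⟨x, hx⟩ := hcomp v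
      rw [hx, ← hN.adj, hN.comm, hN.symm', ← hN.adj, hx, hN.adj]
      exact h x) hd
  refine ⟨fun i => (e i : V), by simp, fun i j => he i j, fun v => ?_⟩
  obtain ⟨x, hx⟩ := hcomp v
  refine ⟨fun i => e.repr x i, ?_⟩
  rw [hx]
  conv_lhs => rw [← e.sum_repr x]
  simp only [map_sum, map_smul, Submodule.coe_sum, Submodule.coe_smul]

/-- The isotropic representatives: `B (u i) (u j) = 0`. -/
theorem exists_isotropic_frame (hN : IsInvN B N) (hf : Frame B N β u) :
    ∃ u' : ι → V, Frame B N β u' ∧ ∀ i j, B (u' i) (u' j) = 0 := by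
  classical
  let σ := Fintype.equivFin ι
  choose y hy using fun i => hf.exists_dual fun j => if σ i < σ j then B (u i) (u j) else 0
  refine ⟨fun i => u i + N (y i), hf.shift hN _ fun i => hN.sq _, fun i j => ?_⟩
  simp only [map_add, LinearMap.add_apply, hN.orth_range, add_zero]
  rw [hN.comm (u i) (N (y j)), hN.adj, hN.adj, hy, hy]
  rcases lt_trichotomy (σ i) (σ j) with h | h | h
  · rw [if_pos h, if_neg (not_lt.2 h.le), add_zero, CharTwo.add_self_eq_zero]
  · obtain rfl := σ.injective h
    simp [hN.alt (u i)]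
  · rw [if_neg (not_lt.2 h.le), if_pos h, add_zero, hN.comm (u i), CharTwo.add_self_eq_zero]

/-- The part of a vector seen by a frame, and the rest, fixed and orthogonal to it. -/
theorem Frame.decomp (hN : IsInvN B N) (hf : Frame B N β u) (huu : ∀ i j, B (u i) (u j) = 0)
    (v : V) : ∃ (a d : ι → F) (k : V), N k = 0 ∧ (∀ j, B k (u j) = 0) ∧
      v = ∑ i, a i • u i + ∑ i, d i • N (u i) + k := by
  set a := Matrix.vecMul (fun j => B v (N (u j))) β⁻¹ with hadef
  set d := Matrix.vecMul (fun j => B v (u j)) β⁻¹ with hddef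
  have ha : ∀ j, Matrix.vecMul a β j = B v (N (u j)) := fun j => by
    rw [hadef, Matrix.vecMul_vecMul, Matrix.nonsing_inv_mul _ hf.unit, Matrix.vecMul_one]
  have hd : ∀ j, Matrix.vecMul d β j = B v (u j) := fun j => by
    rw [hddef, Matrix.vecMul_vecMul, Matrix.nonsing_inv_mul _ hf.unit, Matrix.vecMul_one]
  set A := ∑ i, a i • u i with hA
  have hD : ∑ i, d i • N (u i) = N (∑ i, d i • u i) := by simp
  set D := ∑ i, d i • u i with hDdef
  have hAu : ∀ j, B A (u j) = 0 := fun j => by simp [hA, LinearMap.sum_apply, huu]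
  refine ⟨a, d, v + (A + N D), hf.apply_eq_zero hN fun j => ?_, fun j => ?_, ?_⟩
  · rw [map_add, LinearMap.add_apply, map_add, LinearMap.add_apply, hN.orth_range,
      hA, hf.sum_apply, ha, add_zero, CharTwo.add_self_eq_zero]
  · rw [map_add, LinearMap.add_apply, map_add, LinearMap.add_apply, hAu, zero_add, hN.adj, hDdef,
      hf.sum_apply, hd, CharTwo.add_self_eq_zero]
  · rw [hD, ← hA, add_comm v, ← add_assoc, vec_add_self F, zero_add]

/-- The map attached to a frame. -/
def Frame.comb (_ : Frame B N β u) : (ι → F) × (ι → F) →ₗ[F] V :=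
  ((Fintype.linearCombination F u).comp (LinearMap.fst F _ _)) +
    (N.comp (Fintype.linearCombination F u)).comp (LinearMap.snd F _ _)

theorem Frame.comb_apply (hf : Frame B N β u) (p : (ι → F) × (ι → F)) :
    hf.comb p = ∑ i, p.1 i • u i + N (∑ i, p.2 i • u i) := by
  simp [Frame.comb, Fintype.linearCombination_apply]

theorem Frame.comb_pair (hN : IsInvN B N) (hf : Frame B N β u)
    (huu : ∀ i j, B (u i) (u j) = 0) (p q : (ι → F) × (ι → F)) :
    B (hf.comb p) (hf.comb q)
      = dotProduct (Matrix.vecMul p.1 β) q.2 + dotProduct (Matrix.vecMul p.2 β) q.1 := by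
  have h1 : ∀ a b : ι → F, B (∑ i, a i • u i) (N (∑ i, b i • u i))
      = dotProduct (Matrix.vecMul a β) b := fun a b => by
    simp only [map_sum N, map_smul N, map_sum (B _), map_smul (B _), hf.sum_apply, smul_eq_mul,
      dotProduct]
    exact Finset.sum_congr rfl fun i _ => mul_comm _ _
  simp only [hf.comb_apply, map_add, LinearMap.add_apply, hN.orth_range, add_zero]
  rw [hN.adj, h1, h1]
  simp [LinearMap.sum_apply, huu, add_comm]

theorem Frame.comb_injective (hN : IsInvN B N) (hf : Frame B N β u)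
    (huu : ∀ i j, B (u i) (u j) = 0) : Function.Injective hf.comb := by
  rw [injective_iff_map_eq_zero]
  intro p hp
  have hinj := Matrix.vecMul_injective_of_isUnit ((Matrix.isUnit_iff_isUnit_det β).2 hf.unit)
  have key : ∀ q : (ι → F) × (ι → F),
      dotProduct (Matrix.vecMul p.1 β) q.2 + dotProduct (Matrix.vecMul p.2 β) q.1 = 0 := fun q => by
    rw [← hf.comb_pair hN huu, hp, map_zero, LinearMap.zero_apply]
  refine Prod.ext (hinj ?_) (hinj ?_) <;> funext i
  · simpa using key (0, Pi.single i 1)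
  · simpa using key (Pi.single i 1, 0)

theorem Frame.map_comb (hN : IsInvN B N) (hf : Frame B N β u) (p : (ι → F) × (ι → F)) :
    N (hf.comb p) = hf.comb (0, p.1) := by
  simp [hf.comb_apply, hN.sq]

/-- An isometry matching two frames intertwines the involutions. -/
theorem intertwines_of_frames {N' : V →ₗ[F] V} {u' : ι → V} (hN : IsInvN B N)
    (hN' : IsInvN B N') (hf : Frame B N β u) (hf' : Frame B N' β u')
    (huu : ∀ i j, B (u i) (u j) = 0) (g : V ≃ₗ[F] V) (hg : ∀ x y, B (g x) (g y) = B x y)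
    (hgc : ∀ p, g (hf.comb p) = hf'.comb p) (v : V) : g (N v) = N' (g v) := by
  obtain ⟨a, d, k, hk, hku, rfl⟩ := hf.decomp hN huu v
  have he : ∑ i, a i • u i + ∑ i, d i • N (u i) = hf.comb (a, d) := by simp [hf.comb_apply]
  have hk' : N' (g k) = 0 := hf'.apply_eq_zero hN' fun j => by
    have h1 : hf'.comb (0, Pi.single j 1) = N' (u' j) := by
      simp [hf'.comb_apply, Pi.single_apply]
    have h2 : hf.comb (0, Pi.single j 1) = N (u j) := by
      simp [hf.comb_apply, Pi.single_apply]
    rw [← h1, ← hgc, h2, hg, ← hN.adj, hk, map_zero, LinearMap.zero_apply]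
  rw [he, map_add N, hk, add_zero, hf.map_comb hN, hgc, map_add g, hgc, map_add N', hk', add_zero,
    hf'.map_comb hN']

/-- Symplectic conjugacy from two frames with the same matrix. -/
theorem exists_intertwiner_of_frames_sp [FiniteDimensional F V] {N' : V →ₗ[F] V} {u' : ι → V}
    (hN : IsInvN B N) (hN' : IsInvN B N') (hf : Frame B N β u) (hf' : Frame B N' β u') :
    ∃ g : V ≃ₗ[F] V, (∀ x y, B (g x) (g y) = B x y) ∧ ∀ v, g (N v) = N' (g v) := by
  obtain ⟨u, hf, huu⟩ := exists_isotropic_frame hN hf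
  obtain ⟨u', hf', huu'⟩ := exists_isotropic_frame hN' hf'
  obtain ⟨r, hr⟩ := hf.comb.exists_leftInverse_of_injective
    (LinearMap.ker_eq_bot.2 (hf.comb_injective hN huu))
  have hr' : ∀ p, r (hf.comb p) = p := fun p => LinearMap.congr_fun hr p
  obtain ⟨g, hg, hgX⟩ := witt_alternating_map B hN.nd hN.alt (LinearMap.range hf.comb)
    (hf'.comb.comp r)
    (by
      rintro _ ⟨p, rfl⟩ h0
      rw [LinearMap.comp_apply, hr'] at h0
      rw [show p = 0 from hf'.comb_injective hN' huu' (h0.trans (map_zero _).symm), map_zero])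
    (by
      rintro _ ⟨p, rfl⟩ _ ⟨q, rfl⟩
      rw [LinearMap.comp_apply, LinearMap.comp_apply, hr', hr', hf.comb_pair hN huu,
        hf'.comb_pair hN' huu'])
  exact ⟨g, hg, intertwines_of_frames hN hN' hf hf' huu g hg fun p => by
    rw [hgX _ ⟨p, rfl⟩, LinearMap.comp_apply, hr']⟩

/-- Classes of involutions of the symplectic group. -/
theorem exists_intertwiner_sp [Finite F] [FiniteDimensional F V] {N' : V →ₗ[F] V}
    (hN : IsInvN B N) (hN' : IsInvN B N')
    (hs : finrank F (LinearMap.range N) = finrank F (LinearMap.range N'))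
    (ha : IsAltInv B N ↔ IsAltInv B N') :
    ∃ g : V ≃ₗ[F] V, (∀ x y, B (g x) (g y) = B x y) ∧ ∀ v, g (N v) = N' (g v) := by
  by_cases h : IsAltInv B N
  · obtain ⟨j, hj, u, hu⟩ := exists_frame_alt hN h
    obtain ⟨j', hj', u', hu'⟩ := exists_frame_alt hN' (ha.1 h)
    obtain rfl : j = j' := by omega
    exact exists_intertwiner_of_frames_sp hN hN' hu hu'
  · obtain ⟨u, hu⟩ := exists_frame_nonalt hN h rfl
    obtain ⟨u', hu'⟩ := exists_frame_nonalt hN' (fun h' => h (ha.2 h')) hs.symm
    exact exists_intertwiner_of_frames_sp hN hN' hu hu'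

/-- The rank is at most half the dimension. -/
theorem IsInvN.two_mul_rank_le [FiniteDimensional F V] (hN : IsInvN B N) :
    2 * finrank F (LinearMap.range N) ≤ finrank F V := by
  have h1 := LinearMap.finrank_range_add_finrank_ker N
  have h2 : LinearMap.range N ≤ LinearMap.ker N := by
    rintro _ ⟨x, rfl⟩
    exact hN.sq x
  have h3 := Submodule.finrank_mono h2
  omega

end Cfsg.Agent.Forms.Invol
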