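import Cfsg.Agent.Lib.Forms.Witt
/-
The standard quadratic forms as `QuadraticForm`s, hyperbolic extensions, and glue for `Cfsg.isometryGroup`.
* `hypExt Q` : the form `(a, b, v) ↦ a * b + Q v` on `(F × F) × V`, `hypExt_nondegenerate`
* `qfPlus`, `qfOdd`, `qfBin`, `qfMinus` with `qfPlus_eq` … (agreeing with `quadFormPlus` …)
* `plusSucc`, `oddSucc`, `minusSucc`, `minusZero` : the recursive structure of these forms
* `qfPlus_nondegenerate`, `qfOdd_nondegenerate`, `qfMinus_nondegenerate`
* `isometryGroupEquiv` : `Cfsg.isometryGroup F Q ≃* preservingFun Q`; `preservingFunCongr` : transport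
-/

set_option autoImplicit false

namespace Cfsg.Agent.Forms

variable {F V W : Type*} [Field F] [AddCommGroup V] [Module F V] [AddCommGroup W] [Module F W]

/-! ### Non-degenerate polar forms -/

theorem nondegenerate_polarBilin_iff (Q : QuadraticForm F V) :
    (QuadraticMap.polarBilin Q).Nondegenerate ↔
      ∀ x, (∀ y, QuadraticMap.polar Q x y = 0) → x = 0 :=
  ⟨fun h x hx => h.1 x hx,
   fun h => ⟨h, fun y hy => h y fun x => (QuadraticMap.polar_comm _ y x).trans (hy x)⟩⟩

/-- Non-degeneracy passes along similitudes. -/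
theorem nondegenerate_congr (Q : QuadraticForm F V) (Q' : QuadraticForm F W) (e : V ≃ₗ[F] W)
    (c : F) (hc : c ≠ 0) (h : ∀ v, Q' (e v) = c * Q v)
    (hQ : (QuadraticMap.polarBilin Q).Nondegenerate) :
    (QuadraticMap.polarBilin Q').Nondegenerate := by
  rw [nondegenerate_polarBilin_iff] at hQ ⊢
  intro x hx
  have hx' : e.symm x = 0 := hQ _ fun y => by
    have h1 := hx (e y)
    rw [← e.apply_symm_apply x] at h1
    simp only [QuadraticMap.polar, ← map_add, h] at h1 ⊢
    rw [← mul_sub, ← mul_sub, mul_eq_zero] at h1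
    exact h1.resolve_left hc
  simpa using hx'

/-! ### Hyperbolic extension -/

/-- `Q` with a hyperbolic plane added. -/
def hypExt (Q : QuadraticForm F V) : QuadraticForm F ((F × F) × V) :=
  QuadraticMap.prod (QuadraticMap.linMulLin (LinearMap.fst F F F) (LinearMap.snd F F F)) Q

@[simp] theorem hypExt_apply (Q : QuadraticForm F V) (p : (F × F) × V) :
    hypExt Q p = p.1.1 * p.1.2 + Q p.2 := by
  simp [hypExt]

theorem polar_hypExt (Q : QuadraticForm F V) (p r : (F × F) × V) :
    QuadraticMap.polar (hypExt Q) p r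
      = p.1.1 * r.1.2 + p.1.2 * r.1.1 + QuadraticMap.polar Q p.2 r.2 := by
  simp [QuadraticMap.polar]
  ring

theorem hypExt_nondegenerate (Q : QuadraticForm F V)
    (hQ : (QuadraticMap.polarBilin Q).Nondegenerate) :
    (QuadraticMap.polarBilin (hypExt Q)).Nondegenerate := by
  rw [nondegenerate_polarBilin_iff] at hQ ⊢
  rintro ⟨⟨a, b⟩, v⟩ h
  have ha : a = 0 := by simpa [polar_hypExt] using h ((0, 1), 0)
  have hb : b = 0 := by simpa [polar_hypExt] using h ((1, 0), 0)
  have hv : v = 0 := hQ v fun w => by simpa [polar_hypExt] using h ((0, 0), w)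
  simp [ha, hb, hv]

/-! ### The standard forms -/

/-- `quadFormPlus` as a quadratic form. -/
def qfPlus (m : ℕ) (F : Type*) [Field F] : QuadraticForm F (Fin m ⊕ Fin m → F) :=
  ∑ i : Fin m, QuadraticMap.proj (.inl i) (.inr i)

theorem qfPlus_apply (m : ℕ) (v : Fin m ⊕ Fin m → F) :
    qfPlus m F v = quadFormPlus m F v := by
  simp [qfPlus, quadFormPlus]

theorem qfPlus_eq (m : ℕ) : (⇑(qfPlus m F) : _ → F) = quadFormPlus m F := funext (qfPlus_apply m)

/-- `quadFormOdd` as a quadratic form. -/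
def qfOdd (m : ℕ) (F : Type*) [Field F] : QuadraticForm F (Unit ⊕ (Fin m ⊕ Fin m) → F) :=
  QuadraticMap.proj (.inl ()) (.inl ())
    + ∑ i : Fin m, QuadraticMap.proj (.inr (.inl i)) (.inr (.inr i))

theorem qfOdd_apply (m : ℕ) (v : Unit ⊕ (Fin m ⊕ Fin m) → F) :
    qfOdd m F v = quadFormOdd m F v := by
  simp [qfOdd, quadFormOdd, pow_two]

theorem qfOdd_eq (m : ℕ) : (⇑(qfOdd m F) : _ → F) = quadFormOdd m F := funext (qfOdd_apply m)

/-- The binary form `x² + a x y + b y²`. -/
def qfBin (a b : F) : QuadraticForm F (F × F) :=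
  QuadraticMap.linMulLin (LinearMap.fst F F F) (LinearMap.fst F F F + a • LinearMap.snd F F F)
    + b • QuadraticMap.linMulLin (LinearMap.snd F F F) (LinearMap.snd F F F)

@[simp] theorem qfBin_apply (a b : F) (z : F × F) :
    qfBin a b z = z.1 ^ 2 + a * z.1 * z.2 + b * z.2 ^ 2 := by
  simp [qfBin]
  ring

theorem polar_qfBin (a b : F) (z w : F × F) : QuadraticMap.polar (qfBin a b) z w
    = 2 * z.1 * w.1 + a * (z.1 * w.2 + z.2 * w.1) + 2 * b * z.2 * w.2 := by
  simp [QuadraticMap.polar]
  ring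

/-- `quadFormMinus` as a quadratic form. -/
def qfMinus (m : ℕ) (F : Type*) [Field F] (a b : F) :
    QuadraticForm F ((Fin m ⊕ Fin m) ⊕ Fin 2 → F) :=
  (∑ i : Fin m, QuadraticMap.proj (.inl (.inl i)) (.inl (.inr i)))
    + (QuadraticMap.proj (.inr 0) (.inr 0) + a • QuadraticMap.proj (.inr 0) (.inr 1)
        + b • QuadraticMap.proj (.inr 1) (.inr 1))

theorem qfMinus_apply (m : ℕ) (a b : F) (v : (Fin m ⊕ Fin m) ⊕ Fin 2 → F) :
    qfMinus m F a b v = quadFormMinus m F a b v := by
  simp [qfMinus, quadFormMinus]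
  ring

theorem qfMinus_eq (m : ℕ) (a b : F) :
    (⇑(qfMinus m F a b) : _ → F) = quadFormMinus m F a b := funext (qfMinus_apply m a b)

/-- Splitting off the first hyperbolic plane. -/
def plusSucc (m : ℕ) :
    (Fin (m + 1) ⊕ Fin (m + 1) → F) ≃ₗ[F] (F × F) × (Fin m ⊕ Fin m → F) where
  toFun v := ((v (.inl 0), v (.inr 0)), v ∘ Sum.map Fin.succ Fin.succ)
  invFun p := Sum.elim (Fin.cons p.1.1 (p.2 ∘ Sum.inl)) (Fin.cons p.1.2 (p.2 ∘ Sum.inr))
  map_add' _ _ := rfl
  map_smul' _ _ := rfl
  left_inv v := by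
    funext i
    rcases i with i | i <;> refine Fin.cases ?_ (fun j => ?_) i <;> simp
  right_inv p := by
    ext i <;> try simp
    rcases i with i | i <;> simp

/-- Splitting off the first hyperbolic plane. -/
def oddSucc (m : ℕ) : (Unit ⊕ (Fin (m + 1) ⊕ Fin (m + 1)) → F) ≃ₗ[F]
    (F × F) × (Unit ⊕ (Fin m ⊕ Fin m) → F) where
  toFun v := ((v (.inr (.inl 0)), v (.inr (.inr 0))),
    v ∘ Sum.map id (Sum.map Fin.succ Fin.succ))
  invFun p := Sum.elim (p.2 ∘ Sum.inl)
    (Sum.elim (Fin.cons p.1.1 (p.2 ∘ Sum.inr ∘ Sum.inl)) (Fin.cons p.1.2 (p.2 ∘ Sum.inr ∘ Sum.inr)))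
  map_add' _ _ := rfl
  map_smul' _ _ := rfl
  left_inv v := by
    funext i
    rcases i with i | i | i
    · simp
    all_goals refine Fin.cases ?_ (fun j => ?_) i <;> simp
  right_inv p := by
    ext i <;> try simp
    rcases i with i | i | i <;> simp

/-- Splitting off the first hyperbolic plane. -/
def minusSucc (m : ℕ) : ((Fin (m + 1) ⊕ Fin (m + 1)) ⊕ Fin 2 → F) ≃ₗ[F]
    (F × F) × ((Fin m ⊕ Fin m) ⊕ Fin 2 → F) where
  toFun v := ((v (.inl (.inl 0)), v (.inl (.inr 0))),
    v ∘ Sum.map (Sum.map Fin.succ Fin.succ) id)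
  invFun p := Sum.elim
    (Sum.elim (Fin.cons p.1.1 (p.2 ∘ Sum.inl ∘ Sum.inl)) (Fin.cons p.1.2 (p.2 ∘ Sum.inl ∘ Sum.inr)))
    (p.2 ∘ Sum.inr)
  map_add' _ _ := rfl
  map_smul' _ _ := rfl
  left_inv v := by
    funext i
    rcases i with (i | i) | i
    rotate_right
    · simp
    all_goals refine Fin.cases ?_ (fun j => ?_) i <;> simp
  right_inv p := by
    ext i <;> try simp
    rcases i with (i | i) | i <;> simp

/-- The base case of the minus-type form. -/
def minusZero : ((Fin 0 ⊕ Fin 0) ⊕ Fin 2 → F) ≃ₗ[F] F × F where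
  toFun v := (v (.inr 0), v (.inr 1))
  invFun z := Sum.elim (Sum.elim Fin.elim0 Fin.elim0) ![z.1, z.2]
  map_add' _ _ := rfl
  map_smul' _ _ := rfl
  left_inv v := by
    funext i
    rcases i with (i | i) | i
    · exact i.elim0
    · exact i.elim0
    · fin_cases i <;> simp
  right_inv z := by simp

theorem hypExt_plusSucc (m : ℕ) (v : Fin (m + 1) ⊕ Fin (m + 1) → F) :
    hypExt (qfPlus m F) (plusSucc m v) = qfPlus (m + 1) F v := by
  simp [qfPlus_apply, quadFormPlus, plusSucc, Fin.sum_univ_succ]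

theorem hypExt_oddSucc (m : ℕ) (v : Unit ⊕ (Fin (m + 1) ⊕ Fin (m + 1)) → F) :
    hypExt (qfOdd m F) (oddSucc m v) = qfOdd (m + 1) F v := by
  simp [qfOdd_apply, quadFormOdd, oddSucc, Fin.sum_univ_succ]
  ring

theorem hypExt_minusSucc (m : ℕ) (a b : F) (v : (Fin (m + 1) ⊕ Fin (m + 1)) ⊕ Fin 2 → F) :
    hypExt (qfMinus m F a b) (minusSucc m v) = qfMinus (m + 1) F a b v := by
  simp [qfMinus_apply, quadFormMinus, minusSucc, Fin.sum_univ_succ]
  ring

theorem qfBin_minusZero (a b : F) (v : (Fin 0 ⊕ Fin 0) ⊕ Fin 2 → F) :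
    qfBin a b (minusZero v) = qfMinus 0 F a b v := by
  simp [qfMinus_apply, quadFormMinus, minusZero]

theorem qfPlus_nondegenerate (m : ℕ) : (QuadraticMap.polarBilin (qfPlus m F)).Nondegenerate := by
  induction m with
  | zero =>
    rw [nondegenerate_polarBilin_iff]
    intro x _
    exact Subsingleton.elim _ _
  | succ m ih =>
    refine nondegenerate_congr (hypExt (qfPlus m F)) _ (plusSucc m).symm 1 one_ne_zero
      (fun v => ?_) (hypExt_nondegenerate _ ih)
    rw [← hypExt_plusSucc, LinearEquiv.apply_symm_apply, one_mul]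

theorem qfOdd_nondegenerate (h2 : (2 : F) ≠ 0) (m : ℕ) :
    (QuadraticMap.polarBilin (qfOdd m F)).Nondegenerate := by
  induction m with
  | zero =>
    rw [nondegenerate_polarBilin_iff]
    intro x hx
    have h := hx x
    simp only [QuadraticMap.polar, qfOdd_apply, quadFormOdd, Pi.add_apply,
      Finset.univ_eq_empty, Finset.sum_empty] at h
    ring_nf at h
    have h' : x (.inl ()) = 0 := by simpa [h2] using h
    funext i
    rcases i with i | i | i
    · exact h'
    · exact i.elim0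
    · exact i.elim0
  | succ m ih =>
    refine nondegenerate_congr (hypExt (qfOdd m F)) _ (oddSucc m).symm 1 one_ne_zero
      (fun v => ?_) (hypExt_nondegenerate _ ih)
    rw [← hypExt_oddSucc, LinearEquiv.apply_symm_apply, one_mul]

/-- An anisotropic binary form has non-zero discriminant. -/
theorem disc_ne_zero_of_anisotropic [Finite F] {a b : F}
    (h : ∀ x y : F, x ^ 2 + a * x * y + b * y ^ 2 = 0 → x = 0 ∧ y = 0) :
    4 * b - a ^ 2 ≠ 0 := by
  intro h0
  by_cases h2 : (2 : F) = 0
  · have ha : a = 0 := by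
      have : a ^ 2 = 0 := by linear_combination 2 * b * h2 - h0
      simpa using this
    haveI : Fintype F := Fintype.ofFinite F
    have hchar : ringChar F = 2 := by
      haveI := CharP.ringChar_ne_one (R := F)
      have hd : ringChar F ∣ 2 := ringChar.dvd (by exact_mod_cast h2)
      rcases (Nat.dvd_prime Nat.prime_two).1 hd with h' | h'
      · exact absurd h' this
      · exact h'
    obtain ⟨r, hr⟩ := FiniteField.isSquare_of_char_two hchar b
    have := (h r 1 (by rw [ha, hr]; linear_combination r * r * h2)).2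
    exact one_ne_zero this
  · have h1 := (h (-(a / 2)) 1 (by field_simp; linear_combination h0)).2
    exact one_ne_zero h1

theorem qfBin_nondegenerate {a b : F} (hd : 4 * b - a ^ 2 ≠ 0) :
    (QuadraticMap.polarBilin (qfBin a b)).Nondegenerate := by
  rw [nondegenerate_polarBilin_iff]
  rintro ⟨x, y⟩ h
  have h1 := h (1, 0)
  have h2 := h (0, 1)
  simp [polar_qfBin] at h1 h2
  have hx : (4 * b - a ^ 2) * x = 0 := by linear_combination 2 * b * h1 - a * h2
  have hy : (4 * b - a ^ 2) * y = 0 := by linear_combination 2 * h2 - a * h1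
  rw [mul_eq_zero] at hx hy
  simp [hx.resolve_left hd, hy.resolve_left hd]

theorem qfMinus_nondegenerate {a b : F} (hd : 4 * b - a ^ 2 ≠ 0) (m : ℕ) :
    (QuadraticMap.polarBilin (qfMinus m F a b)).Nondegenerate := by
  induction m with
  | zero =>
    refine nondegenerate_congr (qfBin a b) _ minusZero.symm 1 one_ne_zero
      (fun v => ?_) (qfBin_nondegenerate hd)
    rw [← qfBin_minusZero, LinearEquiv.apply_symm_apply, one_mul]
  | succ m ih =>
    refine nondegenerate_congr (hypExt (qfMinus m F a b)) _ (minusSucc m).symm 1 one_ne_zero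
      (fun v => ?_) (hypExt_nondegenerate _ ih)
    rw [← hypExt_minusSucc, LinearEquiv.apply_symm_apply, one_mul]

/-! ### Isometry groups -/

section Matrix

variable {ι : Type} [Fintype ι] [DecidableEq ι]

/-- `GL` as linear automorphisms, acting by `mulVec`. -/
def glLinEquiv : Matrix.GeneralLinearGroup ι F ≃* ((ι → F) ≃ₗ[F] (ι → F)) :=
  Matrix.GeneralLinearGroup.toLin.trans (LinearMap.GeneralLinearGroup.generalLinearEquiv F (ι → F))

theorem glLinEquiv_apply (M : Matrix.GeneralLinearGroup ι F) (v : ι → F) :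
    glLinEquiv M v = (M : Matrix ι ι F).mulVec v := rfl

theorem mem_isometryGroup (Q : (ι → F) → F) (M : Matrix.GeneralLinearGroup ι F) :
    M ∈ Cfsg.isometryGroup F Q ↔ ∀ v, Q ((M : Matrix ι ι F).mulVec v) = Q v :=
  ⟨fun h v => h v v, fun h u _ => h u⟩

/-- The matrix isometry group is the group of linear automorphisms preserving the function. -/
def isometryGroupEquiv (Q : (ι → F) → F) :
    Cfsg.isometryGroup F Q ≃* preservingFun (F := F) (V := ι → F) Q where
  toFun M := ⟨glLinEquiv M.1, fun v => (mem_isometryGroup Q M.1).1 M.2 v⟩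
  invFun g := ⟨glLinEquiv.symm g.1, (mem_isometryGroup Q _).2 fun v => by
    rw [← glLinEquiv_apply, MulEquiv.apply_symm_apply]
    exact g.2 v⟩
  left_inv M := Subtype.ext (glLinEquiv.symm_apply_apply _)
  right_inv g := Subtype.ext (glLinEquiv.apply_symm_apply _)
  map_mul' M N := Subtype.ext (map_mul glLinEquiv _ _)

theorem isometryGroupEquiv_apply (Q : (ι → F) → F) (M : Cfsg.isometryGroup F Q) (v : ι → F) :
    (isometryGroupEquiv Q M).1 v = (M.1 : Matrix ι ι F).mulVec v := rfl

end Matrix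

/-- Similar forms have isomorphic isometry groups. -/
def preservingFunCongr (Q : V → F) (Q' : W → F) (e : V ≃ₗ[F] W) (c : F) (hc : c ≠ 0)
    (h : ∀ v, Q' (e v) = c * Q v) : preservingFun (F := F) Q ≃* preservingFun (F := F) Q' where
  toFun g := ⟨e.symm.trans (g.1.trans e), fun w => by
    rw [LinearEquiv.trans_apply, LinearEquiv.trans_apply, h, g.2, ← h, e.apply_symm_apply]⟩
  invFun g := ⟨e.trans (g.1.trans e.symm), fun v => by
    refine mul_left_cancel₀ hc ?_
    rw [← h, ← h, LinearEquiv.trans_apply, LinearEquiv.trans_apply, e.apply_symm_apply]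
    exact g.2 _⟩
  left_inv g := Subtype.ext (LinearEquiv.ext fun v => by simp)
  right_inv g := Subtype.ext (LinearEquiv.ext fun v => by simp)
  map_mul' g g' := Subtype.ext (LinearEquiv.ext fun v => by simp [LinearEquiv.mul_apply])

end Cfsg.Agent.Forms
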