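import Cfsg.Agent.Lib.Forms.Bases
/-
Quadratic forms over the field of two elements, the even-subset module of the symmetric group.
* `aniso_one_one`, `card_zeros_plus_ne_minus` : plus and minus types are told apart by zero counts
* `zeros_iff_plus` : in dimension `2 m` the type is read off from the number of zeros
* `evenQuot`, `evenForm`, `evenForm_nondegenerate`, `finrank_evenQuot` : even subsets mod complement
* `permHom`, `permHom_injective` : the symmetric group in the orthogonal group of `evenForm`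
* `card_zeros_evenForm`
-/

set_option autoImplicit false

namespace Cfsg.Agent.Forms

theorem aniso_one_one : ∀ x y : ZMod 2, x ^ 2 + 1 * x * y + 1 * y ^ 2 = 0 → x = 0 ∧ y = 0 := by
  decide

theorem zero_or_one_two (a : ZMod 2) : a = 0 ∨ a = 1 := by revert a; decide

/-- In dimension `2 m ≥ 2` over `ZMod 2` the number of zeros decides the type. -/
theorem zeros_iff_plus {V : Type*} [AddCommGroup V] [Module (ZMod 2) V]
    [FiniteDimensional (ZMod 2) V] (Q : QuadraticForm (ZMod 2) V)
    (hQ : (QuadraticMap.polarBilin Q).Nondegenerate) {m : ℕ} (hm : 1 ≤ m)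
    (hV : Module.finrank (ZMod 2) V = 2 * m) :
    ((∃ e : (Fin m ⊕ Fin m → ZMod 2) ≃ₗ[ZMod 2] V, ∀ v, Q (e v) = quadFormPlus m (ZMod 2) v) ∧
      (Nat.card {v // Q v = 0} : ℤ) = 2 ^ (2 * m - 1) + 2 ^ (m - 1)) ∨
    ((∃ e : ((Fin (m - 1) ⊕ Fin (m - 1)) ⊕ Fin 2 → ZMod 2) ≃ₗ[ZMod 2] V,
        ∀ v, Q (e v) = quadFormMinus (m - 1) (ZMod 2) 1 1 v) ∧
      (Nat.card {v // Q v = 0} : ℤ) = 2 ^ (2 * m - 1) - 2 ^ (m - 1)) := by
  obtain ⟨k, rfl⟩ := Nat.exists_eq_add_of_le' hm
  rcases classify_even Q hQ hV aniso_one_one with ⟨e, he⟩ | ⟨-, e, he⟩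
  · left
    refine ⟨⟨e, fun v => by rw [he, qfPlus_apply]⟩, ?_⟩
    rw [card_zeros_congr (qfPlus (k + 1) (ZMod 2)) Q e 1 one_ne_zero (fun v => by rw [he, one_mul]),
      card_zeros_qfPlus, Nat.card_zmod, show 2 * (k + 1) - 1 = 2 * k + 1 by omega,
      Nat.add_sub_cancel]
    push_cast
    ring
  · right
    refine ⟨⟨e, fun v => by rw [he, qfMinus_apply]⟩, ?_⟩
    rw [card_zeros_congr (qfMinus (k + 1 - 1) (ZMod 2) 1 1) Q e 1 one_ne_zero
      (fun v => by rw [he, one_mul]),
      card_zeros_qfMinus aniso_one_one, Nat.card_zmod, show 2 * (k + 1) - 1 = 2 * k + 1 by omega,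
      Nat.add_sub_cancel]
    push_cast
    ring

/-! ### Even subsets modulo complementation -/

section Even

/-- The number of ones. -/
def wt {n : ℕ} (f : Fin n → ZMod 2) : ℕ := ∑ i, (f i).val

/-- The sum functional. -/
def sumFun (n : ℕ) : (Fin n → ZMod 2) →ₗ[ZMod 2] ZMod 2 := ∑ i, LinearMap.proj i

theorem sumFun_apply {n : ℕ} (f : Fin n → ZMod 2) : sumFun n f = ∑ i, f i := by simp [sumFun]

theorem sumFun_eq_wt {n : ℕ} (f : Fin n → ZMod 2) : sumFun n f = (wt f : ZMod 2) := by
  rw [sumFun_apply, wt, Nat.cast_sum]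
  exact Finset.sum_congr rfl fun i _ => (ZMod.natCast_zmod_val (f i)).symm

/-- The even subsets. -/
abbrev evenSub (n : ℕ) : Submodule (ZMod 2) (Fin n → ZMod 2) := LinearMap.ker (sumFun n)

theorem even_wt {n : ℕ} (f : evenSub n) : Even (wt (f : Fin n → ZMod 2)) := by
  have h : sumFun n (f : Fin n → ZMod 2) = 0 := f.2
  rw [sumFun_eq_wt, ZMod.natCast_eq_zero_iff_even] at h
  exact h

theorem wt_add {n : ℕ} (f g : Fin n → ZMod 2) :
    wt (f + g) + 2 * ∑ i, (f i).val * (g i).val = wt f + wt g := by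
  rw [wt, wt, wt, Finset.mul_sum, ← Finset.sum_add_distrib, ← Finset.sum_add_distrib]
  refine Finset.sum_congr rfl fun i _ => ?_
  rcases zero_or_one_two (f i) with h | h <;> rcases zero_or_one_two (g i) with h' | h' <;>
    simp [Pi.add_apply, h, h'] <;> decide

/-- Half the size, modulo two. -/
def halfWt {n : ℕ} (f : evenSub n) : ZMod 2 := ((wt (f : Fin n → ZMod 2) / 2 : ℕ) : ZMod 2)

theorem halfWt_add {n : ℕ} (f g : evenSub n) :
    halfWt (f + g) = halfWt f + halfWt g + ∑ i, (f : Fin n → ZMod 2) i * (g : Fin n → ZMod 2) i := by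
  obtain ⟨a, ha⟩ := even_wt f
  obtain ⟨b, hb⟩ := even_wt g
  obtain ⟨c, hc⟩ := even_wt (f + g)
  have h := wt_add (f : Fin n → ZMod 2) (g : Fin n → ZMod 2)
  rw [← Submodule.coe_add] at h
  have hs : ∑ i, (f : Fin n → ZMod 2) i * (g : Fin n → ZMod 2) i
      = ((∑ i, ((f : Fin n → ZMod 2) i).val * ((g : Fin n → ZMod 2) i).val : ℕ) : ZMod 2) := by
    simp
  have hN : c + ∑ i, ((f : Fin n → ZMod 2) i).val * ((g : Fin n → ZMod 2) i).val = a + b := by
    omega
  rw [halfWt, halfWt, halfWt, ha, hb, hc, hs, show (a + a) / 2 = a by omega,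
    show (b + b) / 2 = b by omega, show (c + c) / 2 = c by omega]
  have h2 : ((c : ZMod 2) + (∑ i, ((f : Fin n → ZMod 2) i).val * ((g : Fin n → ZMod 2) i).val : ℕ))
      = (a : ZMod 2) + b := by exact_mod_cast congrArg (Nat.cast (R := ZMod 2)) hN
  have h20 : (2 : ZMod 2) = 0 := rfl
  linear_combination h2 + -((∑ i, ((f : Fin n → ZMod 2) i).val * ((g : Fin n → ZMod 2) i).val : ℕ)
    : ZMod 2) * h20

variable {k : ℕ}

/-- The all-one vector spans the radical. -/
def oneSub (k : ℕ) : Submodule (ZMod 2) (evenSub (4 * k + 4)) :=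
  Submodule.span (ZMod 2) {⟨fun _ => 1, by
    rw [LinearMap.mem_ker, sumFun_apply]
    simp [show (4 * k + 4 : ℕ) = 2 * (2 * k + 2) by ring]
    exact Or.inl rfl⟩}

theorem mem_oneSub {k : ℕ} (f : evenSub (4 * k + 4)) :
    f ∈ oneSub k ↔ (f : Fin (4 * k + 4) → ZMod 2) = 0 ∨ (f : Fin (4 * k + 4) → ZMod 2) = 1 := by
  rw [oneSub, Submodule.mem_span_singleton]
  constructor
  · rintro ⟨a, rfl⟩
    rcases zero_or_one_two a with rfl | rfl
    · exact Or.inl (by simp)
    · exact Or.inr (by funext i; simp)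
  · rintro (h | h)
    · exact ⟨0, Subtype.ext (by simp [h])⟩
    · exact ⟨1, Subtype.ext (by funext i; simp [h])⟩

theorem halfWt_add_oneSub {k : ℕ} (f r : evenSub (4 * k + 4)) (hr : r ∈ oneSub k) :
    halfWt (f + r) = halfWt f := by
  rw [halfWt_add]
  rcases (mem_oneSub r).1 hr with h | h
  · simp [halfWt, h, wt]
  · have h1 : halfWt r = 0 := by
      simp [halfWt, h, wt, show ((1 : ZMod 2)).val = 1 from rfl]
      rw [show (4 * k + 4) / 2 = 2 * (k + 1) by omega]
      simp [show ((2 : ℕ) : ZMod 2) = 0 from rfl, show (2 : ZMod 2) = 0 from rfl]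
    have h2 : ∑ i, (f : Fin (4 * k + 4) → ZMod 2) i = 0 := by
      rw [← sumFun_apply]; exact f.2
    simp [h, h1, h2]

/-- Even subsets modulo complementation. -/
abbrev evenQuot (k : ℕ) : Type := evenSub (4 * k + 4) ⧸ oneSub k

/-- The quadratic map before descending. -/
def evenFun (k : ℕ) : evenQuot k → ZMod 2 :=
  Quotient.lift halfWt fun a b hab => by
    have hab' : -a + b ∈ oneSub k := QuotientAddGroup.leftRel_apply.1 hab
    calc halfWt a = halfWt (a + (-a + b)) := (halfWt_add_oneSub a _ hab').symm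
      _ = halfWt b := by rw [add_neg_cancel_left]

theorem evenFun_mk (f : evenSub (4 * k + 4)) : evenFun k (Submodule.Quotient.mk f) = halfWt f := rfl

theorem polar_evenFun (f g : evenSub (4 * k + 4)) :
    QuadraticMap.polar (evenFun k) (Submodule.Quotient.mk f) (Submodule.Quotient.mk g)
      = ∑ i, (f : Fin (4 * k + 4) → ZMod 2) i * (g : Fin (4 * k + 4) → ZMod 2) i := by
  rw [QuadraticMap.polar, ← Submodule.Quotient.mk_add, evenFun_mk, evenFun_mk, evenFun_mk,
    halfWt_add]
  ring

/-- The quadratic form on even subsets modulo complementation. -/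
def evenForm (k : ℕ) : QuadraticForm (ZMod 2) (evenQuot k) :=
  QuadraticMap.ofPolar (evenFun k)
    (fun a x => by
      rcases zero_or_one_two a with rfl | rfl
      · rw [zero_smul, zero_mul, zero_smul, ← Submodule.Quotient.mk_zero, evenFun_mk]
        simp [halfWt, wt]
      · rw [one_smul, one_mul, one_smul])
    (fun x x' y => by
      obtain ⟨f, rfl⟩ := Submodule.Quotient.mk_surjective _ x
      obtain ⟨f', rfl⟩ := Submodule.Quotient.mk_surjective _ x'
      obtain ⟨g, rfl⟩ := Submodule.Quotient.mk_surjective _ y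
      rw [← Submodule.Quotient.mk_add, polar_evenFun, polar_evenFun, polar_evenFun,
        ← Finset.sum_add_distrib]
      exact Finset.sum_congr rfl fun i _ => by simp [add_mul])
    (fun a x y => by
      obtain ⟨f, rfl⟩ := Submodule.Quotient.mk_surjective _ x
      obtain ⟨g, rfl⟩ := Submodule.Quotient.mk_surjective _ y
      rw [← Submodule.Quotient.mk_smul, polar_evenFun, polar_evenFun, smul_eq_mul,
        Finset.mul_sum]
      exact Finset.sum_congr rfl fun i _ => by simp [mul_assoc])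

theorem evenForm_mk (f : evenSub (4 * k + 4)) :
    evenForm k (Submodule.Quotient.mk f) = halfWt f := rfl

theorem evenForm_nondegenerate (k : ℕ) :
    (QuadraticMap.polarBilin (evenForm k)).Nondegenerate := by
  rw [nondegenerate_polarBilin_iff]
  intro x hx
  obtain ⟨f, rfl⟩ := Submodule.Quotient.mk_surjective _ x
  rw [Submodule.Quotient.mk_eq_zero, mem_oneSub]
  have key : ∀ a b, (f : Fin (4 * k + 4) → ZMod 2) a = (f : Fin (4 * k + 4) → ZMod 2) b := by
    intro a b
    have hmem : (Pi.single a 1 + Pi.single b 1 : Fin (4 * k + 4) → ZMod 2) ∈ evenSub (4 * k + 4) := by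
      rw [LinearMap.mem_ker, map_add, sumFun_apply, sumFun_apply]
      simp
      rfl
    have h : QuadraticMap.polar (evenFun k) (Submodule.Quotient.mk f)
        (Submodule.Quotient.mk ⟨_, hmem⟩) = 0 := hx _
    rw [polar_evenFun] at h
    simp [Finset.sum_add_distrib, mul_add, Pi.single_apply] at h
    rcases zero_or_one_two ((f : Fin (4 * k + 4) → ZMod 2) a) with ha | ha <;>
      rcases zero_or_one_two ((f : Fin (4 * k + 4) → ZMod 2) b) with hb | hb <;>
      simp_all
  rcases zero_or_one_two ((f : Fin (4 * k + 4) → ZMod 2) 0) with h | h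
  · exact Or.inl (funext fun i => (key i 0).trans h)
  · exact Or.inr (funext fun i => (key i 0).trans h)

theorem card_oneSub (k : ℕ) : Nat.card (oneSub k) = 2 := by
  rw [Module.natCard_eq_pow_finrank (K := ZMod 2), oneSub, finrank_span_singleton, Nat.card_zmod,
    pow_one]
  intro h
  exact one_ne_zero (congrFun (congrArg Subtype.val h) 0)

theorem finrank_evenQuot (k : ℕ) : Module.finrank (ZMod 2) (evenQuot k) = 2 * (2 * k + 1) := by
  have h1 := Submodule.finrank_quotient_add_finrank (oneSub k)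
  have h2 : Module.finrank (ZMod 2) (oneSub k) = 1 := by
    have h := card_oneSub k
    rw [Module.natCard_eq_pow_finrank (K := ZMod 2), Nat.card_zmod] at h
    exact Nat.pow_right_injective le_rfl (h.trans (pow_one 2).symm)
  have h3 := LinearMap.finrank_range_add_finrank_ker (sumFun (4 * k + 4))
  have h4 : LinearMap.range (sumFun (4 * k + 4)) = ⊤ := by
    rw [LinearMap.range_eq_top]
    exact fun c => ⟨Pi.single 0 c, by rw [sumFun_apply]; simp⟩
  rw [h4, finrank_top, Module.finrank_self, Module.finrank_fin_fun] at h3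
  have h1' : Module.finrank (ZMod 2) (evenQuot k) + 1
      = Module.finrank (ZMod 2) (evenSub (4 * k + 4)) := h2 ▸ h1
  have h3' : 1 + Module.finrank (ZMod 2) (evenSub (4 * k + 4)) = 4 * k + 4 := h3
  omega

/-- `Σ_S z ^ |S|`. -/
theorem sum_pow_wt {n : ℕ} {R : Type*} [CommRing R] (z : R) :
    ∑ f : Fin n → ZMod 2, z ^ wt f = (1 + z) ^ n := by
  have h : (1 + z) ^ n = ∏ _i : Fin n, ∑ a : ZMod 2, z ^ a.val := by
    have h2 : ∑ a : ZMod 2, z ^ a.val = 1 + z := by
      have hu : (Finset.univ : Finset (ZMod 2)) = {0, 1} := rfl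
      simp [hu, show ((1 : ZMod 2)).val = 1 from rfl]
    simp [h2]
  rw [h, Finset.prod_univ_sum, Fintype.piFinset_univ]
  exact Finset.sum_congr rfl fun f _ => by rw [wt, ← Finset.prod_pow_eq_pow_sum]

theorem card_wt_four (k : ℕ) :
    2 * (Nat.card {f : Fin (4 * k + 4) → ZMod 2 // wt f % 4 = 0} : ℤ)
      = 2 ^ (4 * k + 3) + (-4) ^ (k + 1) := by
  classical
  have hi : ∀ s : ℕ, (1 : ℂ) + Complex.I ^ s + (-1) ^ s + (-Complex.I) ^ s
      = if s % 4 = 0 then 4 else 0 := by
    intro s
    have h4 : ∀ z : ℂ, z ^ 4 = 1 → z ^ s = z ^ (s % 4) := fun z hz => by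
      conv_lhs => rw [← Nat.div_add_mod s 4]
      rw [pow_add, pow_mul, hz, one_pow, one_mul]
    rw [h4 Complex.I Complex.I_pow_four, h4 (-1) (by norm_num),
      h4 (-Complex.I) (by rw [neg_pow, Complex.I_pow_four]; norm_num)]
    have : s % 4 < 4 := Nat.mod_lt _ (by norm_num)
    interval_cases (s % 4) <;>
      simp [pow_succ] <;> ring
  have hsum : (∑ f : Fin (4 * k + 4) → ZMod 2,
      ((1 : ℂ) + Complex.I ^ wt f + (-1) ^ wt f + (-Complex.I) ^ wt f))
      = 4 * (Nat.card {f : Fin (4 * k + 4) → ZMod 2 // wt f % 4 = 0} : ℕ) := by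
    rw [Finset.sum_congr rfl fun f _ => hi (wt f), Finset.sum_ite, Finset.sum_const_zero, add_zero,
      Finset.sum_const, nsmul_eq_mul, Nat.card_eq_fintype_card, Fintype.card_subtype]
    ring
  rw [Finset.sum_add_distrib, Finset.sum_add_distrib, Finset.sum_add_distrib, sum_pow_wt,
    sum_pow_wt, sum_pow_wt] at hsum
  have h1 : (1 + Complex.I) ^ 4 = -4 := by
    have : (1 + Complex.I) ^ 4 = ((1 + Complex.I) ^ 2) ^ 2 := by ring
    rw [this, show (1 + Complex.I) ^ 2 = 2 * Complex.I by rw [add_sq, Complex.I_sq]; ring]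
    ring_nf
    simp
  have h2 : (1 + -Complex.I) ^ 4 = -4 := by
    have : (1 + -Complex.I) ^ 4 = ((1 + -Complex.I) ^ 2) ^ 2 := by ring
    rw [this, show (1 + -Complex.I) ^ 2 = -2 * Complex.I by rw [add_sq, neg_sq, Complex.I_sq]; ring]
    ring_nf
    simp
  simp only [Finset.sum_const, Finset.card_univ, Fintype.card_fun, ZMod.card, Fintype.card_fin,
    nsmul_eq_mul, mul_one, Nat.cast_pow, Nat.cast_ofNat,
    show 4 * k + 4 = 4 * (k + 1) by ring, pow_mul, h1, h2] at hsum
  have key : ((2 * (Nat.card {f : Fin (4 * k + 4) → ZMod 2 // wt f % 4 = 0} : ℤ) : ℤ) : ℂ)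
      = ((2 ^ (4 * k + 3) + (-4) ^ (k + 1) : ℤ) : ℂ) := by
    push_cast
    have h16 : ((2 : ℂ) ^ 4) ^ (k + 1) = 2 * 2 ^ (4 * k + 3) := by
      rw [← pow_mul, ← pow_succ']
      ring_nf
    rw [h16, show ((1 : ℂ) + -1) = 0 by ring, zero_pow (by norm_num : (4 : ℕ) ≠ 0),
      zero_pow (Nat.succ_ne_zero k)] at hsum
    linear_combination (-(1 : ℂ) / 2) * hsum
  exact_mod_cast key

theorem card_zeros_evenForm (k : ℕ) :
    (Nat.card {v // evenForm k v = 0} : ℤ) = 2 ^ (4 * k + 1) + (-1) ^ (k + 1) * 2 ^ (2 * k) := by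
  classical
  have e1 : {f : evenSub (4 * k + 4) // halfWt f = 0}
      ≃ {f : Fin (4 * k + 4) → ZMod 2 // wt f % 4 = 0} :=
    { toFun := fun f => ⟨f.1, by
        obtain ⟨a, ha⟩ := even_wt f.1
        have h := f.2
        rw [halfWt, ha, show (a + a) / 2 = a by omega, ZMod.natCast_eq_zero_iff_even,
          Nat.even_iff] at h
        omega⟩
      invFun := fun f => ⟨⟨f.1, by
          rw [LinearMap.mem_ker, sumFun_eq_wt, ZMod.natCast_eq_zero_iff_even, Nat.even_iff]
          have := f.2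
          omega⟩, by
        rw [halfWt, ZMod.natCast_eq_zero_iff_even, Nat.even_iff]
        have := f.2
        dsimp only
        omega⟩
      left_inv := fun f => rfl
      right_inv := fun f => rfl }
  let π : {f : evenSub (4 * k + 4) // halfWt f = 0} → {v // evenForm k v = 0} :=
    fun f => ⟨Submodule.Quotient.mk f.1, f.2⟩
  have hfib : ∀ v, Nat.card {f // π f = v} = 2 := by
    rintro ⟨v, hv⟩
    obtain ⟨g, rfl⟩ := Submodule.Quotient.mk_surjective _ v
    refine Eq.trans ?_ (card_oneSub k)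
    refine Nat.card_congr
      { toFun := fun f => ⟨f.1.1 - g, (Submodule.Quotient.eq _).1 (congrArg Subtype.val f.2)⟩
        invFun := fun r => ⟨⟨g + r.1, by rw [halfWt_add_oneSub g r.1 r.2]; exact hv⟩,
          Subtype.ext ((Submodule.Quotient.eq _).2 (by simp))⟩
        left_inv := fun f => by
          apply Subtype.ext
          apply Subtype.ext
          simp
        right_inv := fun r => by
          apply Subtype.ext
          simp }
  haveI := Fintype.ofFinite {v // evenForm k v = 0}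
  have hcard := Nat.card_congr (Equiv.sigmaFiberEquiv π)
  rw [Nat.card_sigma, Finset.sum_congr rfl fun v _ => hfib v, Finset.sum_const, Finset.card_univ,
    smul_eq_mul, Nat.card_congr e1, ← Nat.card_eq_fintype_card] at hcard
  have h := card_wt_four k
  rw [← hcard] at h
  push_cast at h
  have h4 : ((-4 : ℤ)) ^ (k + 1) = 4 * ((-1) ^ (k + 1) * 2 ^ (2 * k)) := by
    rw [neg_pow, pow_mul]
    norm_num
    ring
  rw [h4, show 4 * k + 3 = (4 * k + 1) + 2 by ring, pow_add] at h
  linarith

/-- Permutations of coordinates. -/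
def permEven (k : ℕ) (σ : Equiv.Perm (Fin (4 * k + 4))) :
    evenSub (4 * k + 4) ≃ₗ[ZMod 2] evenSub (4 * k + 4) where
  toFun f := ⟨(f : Fin (4 * k + 4) → ZMod 2) ∘ σ.symm, by
    rw [LinearMap.mem_ker, sumFun_apply]
    exact ((Equiv.sum_comp σ.symm (f : Fin (4 * k + 4) → ZMod 2)).trans (sumFun_apply _).symm).trans f.2⟩
  invFun f := ⟨(f : Fin (4 * k + 4) → ZMod 2) ∘ σ, by
    rw [LinearMap.mem_ker, sumFun_apply]
    exact ((Equiv.sum_comp σ (f : Fin (4 * k + 4) → ZMod 2)).trans (sumFun_apply _).symm).trans f.2⟩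
  map_add' f g := rfl
  map_smul' c f := rfl
  left_inv f := by apply Subtype.ext; funext i; simp
  right_inv f := by apply Subtype.ext; funext i; simp

theorem halfWt_permEven (k : ℕ) (σ : Equiv.Perm (Fin (4 * k + 4))) (f : evenSub (4 * k + 4)) :
    halfWt (permEven k σ f) = halfWt f := by
  have h : wt (permEven k σ f : Fin (4 * k + 4) → ZMod 2) = wt (f : Fin (4 * k + 4) → ZMod 2) :=
    Equiv.sum_comp σ.symm fun i => ((f : Fin (4 * k + 4) → ZMod 2) i).val
  rw [halfWt, halfWt, h]

theorem permEven_oneSub (k : ℕ) (σ : Equiv.Perm (Fin (4 * k + 4))) :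
    (oneSub k).map (permEven k σ).toLinearMap = oneSub k := by
  rw [oneSub, Submodule.map_span, Set.image_singleton]
  rfl

/-- The action on the quotient. -/
def permQuot (k : ℕ) (σ : Equiv.Perm (Fin (4 * k + 4))) :
    evenQuot k ≃ₗ[ZMod 2] evenQuot k :=
  Submodule.Quotient.equiv (oneSub k) (oneSub k) (permEven k σ) (permEven_oneSub k σ)

/-- The symmetric group in the orthogonal group of `evenForm`. -/
def permHom (k : ℕ) :
    Equiv.Perm (Fin (4 * k + 4)) →* preservingFun (F := ZMod 2) (⇑(evenForm k)) where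
  toFun σ := ⟨permQuot k σ, fun v => by
    obtain ⟨f, rfl⟩ := Submodule.Quotient.mk_surjective _ v
    exact halfWt_permEven k σ f⟩
  map_one' := Subtype.ext (LinearEquiv.ext fun v => by
    obtain ⟨f, rfl⟩ := Submodule.Quotient.mk_surjective _ v
    rfl)
  map_mul' σ τ := Subtype.ext (LinearEquiv.ext fun v => by
    obtain ⟨f, rfl⟩ := Submodule.Quotient.mk_surjective _ v
    rfl)

theorem permHom_injective (k : ℕ) (hk : 1 ≤ k) : Function.Injective (permHom k) := by
  rw [injective_iff_map_eq_one]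
  intro σ hσ
  have key : ∀ a b : Fin (4 * k + 4), a ≠ b →
      (σ a = a ∧ σ b = b) ∨ (σ a = b ∧ σ b = a) := by
    intro a b hab
    have hmem : (Pi.single a 1 + Pi.single b 1 : Fin (4 * k + 4) → ZMod 2) ∈ evenSub (4 * k + 4) := by
      rw [LinearMap.mem_ker, map_add, sumFun_apply, sumFun_apply]
      simp
      rfl
    have h : (permHom k σ).1 (Submodule.Quotient.mk ⟨_, hmem⟩) = Submodule.Quotient.mk ⟨_, hmem⟩ := by
      rw [hσ]
      rfl
    have h' : permEven k σ ⟨_, hmem⟩ - ⟨_, hmem⟩ ∈ oneSub k := (Submodule.Quotient.eq _).1 h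
    rw [mem_oneSub] at h'
    rcases h' with h' | h'
    · rw [Submodule.coe_sub, sub_eq_zero] at h'
      have ha := congrFun h' (σ a)
      have hb := congrFun h' (σ b)
      simp [permEven, Pi.single_apply, hab, Ne.symm hab] at ha hb
      rcases eq_or_ne (σ a) a with e1 | e1 <;> rcases eq_or_ne (σ a) b with e2 | e2 <;>
        rcases eq_or_ne (σ b) a with e3 | e3 <;> rcases eq_or_ne (σ b) b with e4 | e4 <;>
        simp [e1, e2, e3, e4, hab, Ne.symm hab] at ha hb ⊢
      all_goals first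
        | exact hab (σ.injective (e1.trans e3.symm))
        | exact hab (σ.injective (e2.trans e4.symm))
    · exfalso
      obtain ⟨c, hc⟩ : ∃ c, c ∉ ({a, b, σ a, σ b} : Finset (Fin (4 * k + 4))) := by
        by_contra hc
        push Not at hc
        have hle := Finset.card_le_card (Finset.subset_iff.2 fun x (_ : x ∈ Finset.univ) => hc x)
        rw [Finset.card_univ, Fintype.card_fin] at hle
        have h4 : ({a, b, σ a, σ b} : Finset (Fin (4 * k + 4))).card ≤ 4 := Finset.card_le_four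
        omega
      simp only [Finset.mem_insert, Finset.mem_singleton, not_or] at hc
      have h1 := congrFun h' c
      simp [permEven, Pi.single_apply, Equiv.symm_apply_eq, hc.1, hc.2.1, hc.2.2.1,
        hc.2.2.2] at h1
  ext a
  by_contra hne
  have hne' : σ a ≠ a := fun h => hne (by rw [h]; rfl)
  obtain ⟨c, hc⟩ : ∃ c, c ∉ ({a, σ a} : Finset (Fin (4 * k + 4))) := by
    by_contra hc
    push Not at hc
    have hle := Finset.card_le_card (Finset.subset_iff.2 fun x (_ : x ∈ Finset.univ) => hc x)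
    rw [Finset.card_univ, Fintype.card_fin] at hle
    have h2 : ({a, σ a} : Finset (Fin (4 * k + 4))).card ≤ 2 := Finset.card_le_two
    omega
  simp only [Finset.mem_insert, Finset.mem_singleton, not_or] at hc
  rcases key a c (Ne.symm hc.1) with ⟨h1, -⟩ | ⟨h1, -⟩
  · exact hne' h1
  · exact hc.2 h1.symm

end Even

end Cfsg.Agent.Forms
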