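import Cfsg.Agent.EqLemmas

/-!
# Unitary units of finite rings with an anti-involution and a nilpotent kernel

For a finite ring `R`, an anti-involution `σ` and `π : R →+* B` with nil kernel:
* `exists_norm_one_add` : a fixed nilpotent `s` has `Y` with `σ Y * Y = 1 + s`, given a central `α` with `α + σ α = 1`
* `exists_lift`         : a solution of `σ x * x = 1` modulo the kernel lifts
* `card_unitary`        : `|U(R)| * |Sym ∩ ker| = |ker| * |image|`
-/

set_option autoImplicit false

namespace Cfsg.Agent.Forms.AntiInv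

variable {R : Type*} [Ring R]

/-- An anti-involution. -/
structure IsAnti (σ : R → R) : Prop where
  add : ∀ a b, σ (a + b) = σ a + σ b
  mul : ∀ a b, σ (a * b) = σ b * σ a
  invol : ∀ a, σ (σ a) = a

variable {σ : R → R} (hσ : IsAnti σ)
include hσ

theorem map_zero : σ 0 = 0 := by
  have h := hσ.add 0 0
  rw [add_zero] at h
  exact add_eq_left.mp h.symm

theorem map_one : σ 1 = 1 := by
  have h := hσ.mul (σ 1) 1
  rw [mul_one, hσ.invol, mul_one] at h
  exact h.symm

theorem map_neg (a : R) : σ (-a) = -σ a := by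
  refine eq_neg_of_add_eq_zero_left ?_
  rw [← hσ.add, neg_add_cancel, map_zero hσ]

theorem map_sub (a b : R) : σ (a - b) = σ a - σ b := by
  rw [sub_eq_add_neg, hσ.add, map_neg hσ, ← sub_eq_add_neg]

/-- A fixed nilpotent is of the form `σ Y * Y - 1` with `Y - 1` a multiple of it. -/
theorem exists_norm_one_add {α : R} (hα : ∀ z, Commute α z) (hα1 : α + σ α = 1) (k : ℕ) :
    ∀ s : R, s ^ k = 0 → σ s = s → ∃ c : R, (∀ z, Commute z s → Commute z c) ∧
      σ (1 + s * c) * (1 + s * c) = 1 + s := by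
  induction k using Nat.strong_induction_on with
  | _ k ih =>
    intro s hk hs
    rcases Nat.lt_or_ge k 2 with h2 | h2
    · have hs0 : s = 0 := by
        interval_cases k
        · rw [pow_zero] at hk
          rw [← mul_one s, hk, mul_zero]
        · rwa [pow_one] at hk
      subst hs0
      refine ⟨0, fun z _ => Commute.zero_right z, ?_⟩
      simp [map_one hσ]
    · set β := σ α with hβ
      have hβc : ∀ z, Commute β z := fun z => by
        have h := congrArg σ (hα (σ z)).eq
        rw [hσ.mul, hσ.mul, hσ.invol] at h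
        exact h.symm
      set γ := β * α with hγ
      have hγc : ∀ z, Commute γ z := fun z => (hβc z).mul_left (hα z)
      have hγs : σ γ = γ := by rw [hγ, hσ.mul, hβ, hσ.invol]
      -- the first approximation
      have hY : σ (1 + s * α) * (1 + s * α) = 1 + s + s ^ 2 * γ := by
        rw [hσ.add, map_one hσ, hσ.mul, hs, ← hβ, (hβc s).eq]
        calc (1 + s * β) * (1 + s * α) = 1 + (s * α + s * β) + s * (β * s) * α := by noncomm_ring
          _ = 1 + s * (α + β) + s * (s * β) * α := by rw [(hβc s).eq, ← mul_add]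
          _ = 1 + s + s ^ 2 * γ := by rw [hα1, mul_one, hγ, pow_two]; noncomm_ring
      set t := s + s ^ 2 * γ with ht
      have hts : Commute t s := (Commute.refl s).add_left (((Commute.refl s).pow_left 2).mul_left (hγc s))
      have htn : IsNilpotent t := by
        refine ⟨k, ?_⟩
        have e : t = s * (1 + s * γ) := by rw [ht, pow_two]; noncomm_ring
        rw [e, ((Commute.one_right s).add_right ((Commute.refl s).mul_right (hγc s).symm)).mul_pow, hk, zero_mul]
      have htu : IsUnit (1 + t) := IsNilpotent.isUnit_one_add htn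
      set W : R := ((htu.unit⁻¹ : Rˣ) : R) with hW
      have hW1 : (1 + t) * W = 1 := htu.mul_val_inv
      have hW2 : W * (1 + t) = 1 := htu.val_inv_mul
      have hWc : ∀ z, Commute z s → Commute z W := fun z hz => by
        have h : Commute z ((htu.unit : Rˣ) : R) :=
          (Commute.one_right z).add_right (hz.add_right ((hz.pow_right 2).mul_right (hγc z).symm))
        exact h.units_inv_right
      have hWs : σ W = W := by
        have hst : σ (1 + t) = 1 + t := by
          have e1 : σ (s ^ 2) = s ^ 2 := by rw [pow_two, hσ.mul, hs]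
          rw [hσ.add, map_one hσ, ht, hσ.add, hs, hσ.mul, e1, hγs, (hγc _).eq]
        have h := congrArg σ hW1
        rw [hσ.mul, hst, map_one hσ] at h
        calc σ W = σ W * ((1 + t) * W) := by rw [hW1, mul_one]
          _ = W := by rw [← mul_assoc, h, one_mul]
      set s' := W * (1 + s) - 1 with hs'
      have hs'e : s' = s ^ 2 * (-(W * γ)) := by
        have hsW : Commute (s ^ 2) W := ((Commute.refl s) |> fun h => hWc s h).pow_left 2
        calc s' = W * (1 + s) - W * (1 + t) := by rw [hW2]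
          _ = -(W * (s ^ 2 * γ)) := by rw [ht]; noncomm_ring
          _ = _ := by rw [← mul_assoc, ← hsW.eq]; noncomm_ring
      have hcWg : Commute (s ^ 2) (-(W * γ)) :=
        (((hWc s (Commute.refl s)).pow_left 2).mul_right (hγc (s ^ 2)).symm).neg_right
      have hs'c : ∀ z, Commute z s → Commute z s' := fun z hz => by
        rw [hs'e]; exact (hz.pow_right 2).mul_right ((hWc z hz).mul_right (hγc z).symm).neg_right
      have hs'f : σ s' = s' := by
        rw [hs', map_sub hσ, hσ.mul, map_one hσ, hσ.add, map_one hσ, hs, hWs]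
        exact congrArg (· - 1) ((Commute.one_left W).add_left (hWc s (Commute.refl s))).eq
      obtain ⟨c', hc', he'⟩ := ih ((k + 1) / 2) (by omega) s' (by
        rw [hs'e, hcWg.mul_pow, ← pow_mul, pow_eq_zero_of_le (by omega) hk, zero_mul]) hs'f
      refine ⟨α + s * (-(W * γ)) * c' * (1 + s * α), fun z hz => ?_, ?_⟩
      · refine (hα z).symm.add_right (((hz.mul_right ((hWc z hz).mul_right (hγc z).symm).neg_right).mul_right
          (hc' z (hs'c z hz))).mul_right ((Commute.one_right z).add_right (hz.mul_right (hα z).symm)))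
      · have hprod : 1 + s * (α + s * (-(W * γ)) * c' * (1 + s * α)) = (1 + s' * c') * (1 + s * α) := by
          rw [hs'e, pow_two]; noncomm_ring
        have hcomm : Commute (1 + s') (1 + s * α) :=
          (Commute.one_left _).add_left
            ((Commute.one_right _).add_right (((hs'c s (Commute.refl s)).symm).mul_right (hα s').symm))
        rw [hprod, hσ.mul, mul_assoc, ← mul_assoc (σ (1 + s' * c')), he', hcomm.eq, ← mul_assoc, hY,
          show 1 + s + s ^ 2 * γ = 1 + t by rw [ht, add_assoc], hs', add_sub_cancel, ← mul_assoc, hW1, one_mul]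

variable {B : Type*} [Ring B] (π : R →+* B) (hker : ∀ x, π x = 0 → IsNilpotent x)
  {α : R} (hα : ∀ z, Commute α z) (hα1 : α + σ α = 1)

include hker hα hα1

/-- A solution modulo the kernel lifts. -/
theorem exists_lift [Finite R] {x : R} (hx : π (σ x * x) = 1) :
    ∃ g : Rˣ, σ (g : R) * g = 1 ∧ π (g : R) = π x := by
  set s := σ x * x - 1 with hs
  have hs0 : π s = 0 := by rw [hs, π.map_sub, hx, π.map_one, sub_self]
  have hsf : σ s = s := by rw [hs, map_sub hσ, hσ.mul, hσ.invol, map_one hσ]
  obtain ⟨k, hk⟩ := hker s hs0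
  obtain ⟨c, -, hY⟩ := exists_norm_one_add hσ hα hα1 k s hk hsf
  have hu : IsUnit (σ x * x) := by
    rw [show σ x * x = 1 + s by rw [hs]; abel]
    exact IsNilpotent.isUnit_one_add ⟨k, hk⟩
  have hx' : IsUnit x := IsUnit.of_mul_eq_one_right (((hu.unit⁻¹ : Rˣ) : R) * σ x) (by rw [mul_assoc]; exact hu.val_inv_mul)
  have hYu : IsUnit (1 + s * c) := by
    refine IsNilpotent.isUnit_one_add (hker _ ?_)
    rw [π.map_mul, hs0, zero_mul]
  refine ⟨hx'.unit * hYu.unit⁻¹, ?_, ?_⟩
  · have e : σ x * x = σ (1 + s * c) * (1 + s * c) := by rw [hY, hs]; abel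
    have h1 : σ ((hYu.unit⁻¹ : Rˣ) : R) * σ (1 + s * c) = 1 := by
      rw [← hσ.mul, hYu.mul_val_inv, map_one hσ]
    rw [Units.val_mul, IsUnit.unit_spec, hσ.mul, mul_assoc, ← mul_assoc (σ x), e, ← mul_assoc, ← mul_assoc, h1, one_mul, hYu.mul_val_inv]
  · have h1 : π (1 + s * c) = 1 := by rw [π.map_add, π.map_one, π.map_mul, hs0, zero_mul, add_zero]
    have h2 : π ((hYu.unit⁻¹ : Rˣ) : R) = 1 := by
      have := congrArg π hYu.mul_val_inv
      rwa [π.map_mul, h1, one_mul, π.map_one] at this
    rw [Units.val_mul, π.map_mul, h2, mul_one, IsUnit.unit_spec]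

/-- The number of unitary units. -/
theorem card_unitary [Finite R] (hstab : ∀ x, π x = 0 → π (σ x) = 0) :
    Nat.card {g : Rˣ // σ (g : R) * g = 1} * Nat.card {s : R // π s = 0 ∧ σ s = s} =
      Nat.card {s : R // π s = 0} * Nat.card (Set.range fun g : {g : Rˣ // σ (g : R) * g = 1} => π (g.1 : R)) := by
  classical
  let U : Subgroup Rˣ :=
    { carrier := {g | σ (g : R) * g = 1}
      one_mem' := by simp [map_one hσ]
      mul_mem' := fun {g h} hg hh => by
        show σ ((g * h : Rˣ) : R) * ((g * h : Rˣ) : R) = 1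
        rw [Units.val_mul, hσ.mul, mul_assoc, ← mul_assoc (σ (g : R)), hg, one_mul, hh]
      inv_mem' := fun {g} hg => by
        show σ ((g⁻¹ : Rˣ) : R) * ((g⁻¹ : Rˣ) : R) = 1
        have e : σ (g : R) = ((g⁻¹ : Rˣ) : R) := (Units.inv_eq_of_mul_eq_one_left hg).symm
        rw [← e, hσ.invol, e, Units.mul_inv] }
  let N : Subgroup Rˣ := (Units.map (π : R →* B)).ker
  let f : U →* Bˣ := (Units.map (π : R →* B)).comp U.subtype
  -- image
  have hrange : Nat.card f.range = Nat.card (Set.range fun g : {g : Rˣ // σ (g : R) * g = 1} => π (g.1 : R)) := by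
    refine (Nat.card_congr (Equiv.Set.image (fun u : Bˣ => (u : B)) (f.range : Set Bˣ) Units.val_injective)).trans ?_
    refine Nat.card_congr (Equiv.setCongr ?_)
    ext b
    simp only [Set.mem_image, SetLike.mem_coe, MonoidHom.mem_range, Set.mem_range]
    constructor
    · rintro ⟨_, ⟨g, rfl⟩, rfl⟩; exact ⟨g, rfl⟩
    · rintro ⟨g, rfl⟩; exact ⟨f g, ⟨g, rfl⟩, rfl⟩
  -- kernel
  have hN : Nat.card N = Nat.card {s : R // π s = 0} := by
    refine Nat.card_congr
      { toFun := fun g => ⟨(g.1 : R) - 1, by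
          have h : π (g.1 : R) = 1 := congrArg Units.val (MonoidHom.mem_ker.mp g.2)
          rw [π.map_sub, h, π.map_one, sub_self]⟩
        invFun := fun s => ⟨(IsNilpotent.isUnit_one_add (hker s.1 s.2)).unit, MonoidHom.mem_ker.mpr (Units.ext (by
          show π (1 + s.1) = 1
          rw [π.map_add, π.map_one, s.2, add_zero]))⟩
        left_inv := fun g => Subtype.ext (Units.ext (by simp))
        right_inv := fun s => Subtype.ext (by simp) }
  let ν : N → {s : R // π s = 0 ∧ σ s = s} := fun g => ⟨σ (g.1 : R) * g.1 - 1, by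
    obtain ⟨s', hs'⟩ : ∃ s', π s' = 0 ∧ (g.1 : R) = 1 + s' := ⟨(g.1 : R) - 1, by
      have h : π (g.1 : R) = 1 := congrArg Units.val (MonoidHom.mem_ker.mp g.2)
      rw [π.map_sub, h, π.map_one, sub_self], by abel⟩
    refine ⟨?_, by rw [map_sub hσ, hσ.mul, hσ.invol, map_one hσ]⟩
    rw [π.map_sub, π.map_mul, π.map_one, hs'.2, π.map_add, π.map_one, hs'.1, add_zero, mul_one, hσ.add, map_one hσ,
      π.map_add, π.map_one, add_sub_cancel_left]
    exact hstab s' hs'.1⟩
  have hν : Function.Surjective ν := by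
    rintro ⟨s, hs0, hsf⟩
    obtain ⟨k, hk⟩ := hker s hs0
    obtain ⟨c, -, hY⟩ := exists_norm_one_add hσ hα hα1 k s hk hsf
    have hYu : IsUnit (1 + s * c) := IsNilpotent.isUnit_one_add (hker _ (by rw [π.map_mul, hs0, zero_mul]))
    refine ⟨⟨hYu.unit, MonoidHom.mem_ker.mpr (Units.ext ?_)⟩, Subtype.ext ?_⟩
    · show π (1 + s * c) = 1
      rw [π.map_add, π.map_one, π.map_mul, hs0, zero_mul, add_zero]
    · show σ (1 + s * c) * (1 + s * c) - 1 = s
      rw [hY, add_sub_cancel_left]
  choose sec hsec using hν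
  -- the unitary part of the kernel
  have hmul : ∀ g h : N, σ (g.1 : R) * g.1 = 1 → ν (g * h) = ν h := fun g h hg => Subtype.ext (by
    show σ (((g.1 * h.1 : Rˣ)) : R) * ((g.1 * h.1 : Rˣ) : R) - 1 = _
    rw [Units.val_mul, hσ.mul, mul_assoc, ← mul_assoc (σ (g.1 : R)), hg, one_mul])
  have hker1 : Nat.card {g : N // σ (g.1 : R) * g.1 = 1} = Nat.card f.ker := Nat.card_congr
    { toFun := fun g => ⟨⟨g.1.1, g.2⟩, MonoidHom.mem_ker.mpr (MonoidHom.mem_ker.mp g.1.2)⟩
      invFun := fun g => ⟨⟨g.1.1, MonoidHom.mem_ker.mpr (MonoidHom.mem_ker.mp g.2)⟩, g.1.2⟩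
      left_inv := fun _ => rfl
      right_inv := fun _ => rfl }
  have hdiv : ∀ g : N, σ ((g * (sec (ν g))⁻¹ : N).1 : R) * (g * (sec (ν g))⁻¹ : N).1 = 1 := fun g => by
    have h : σ (g.1 : R) * g.1 = σ ((sec (ν g)).1 : R) * (sec (ν g)).1 :=
      (sub_left_inj (a := (1 : R))).mp (congrArg Subtype.val (hsec (ν g)).symm)
    show σ ((g.1 * (sec (ν g)).1⁻¹ : Rˣ) : R) * ((g.1 * (sec (ν g)).1⁻¹ : Rˣ) : R) = 1
    rw [Units.val_mul, hσ.mul, mul_assoc, ← mul_assoc (σ (g.1 : R)), h, ← mul_assoc, ← mul_assoc, ← hσ.mul,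
      Units.mul_inv, map_one hσ, one_mul, Units.mul_inv]
  have hsplit : Nat.card N = Nat.card {s : R // π s = 0 ∧ σ s = s} * Nat.card f.ker := by
    rw [← hker1, ← Nat.card_prod]
    refine Nat.card_congr
      { toFun := fun g => (ν g, ⟨g * (sec (ν g))⁻¹, hdiv g⟩)
        invFun := fun x => x.2.1 * sec x.1
        left_inv := fun g => inv_mul_cancel_right g _
        right_inv := fun x => ?_ }
    obtain ⟨s, g, hg⟩ := x
    have h : ν (g * sec s) = s := by rw [hmul g _ hg, hsec]
    exact Prod.ext h (Subtype.ext (by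
      show g * sec s * (sec (ν (g * sec s)))⁻¹ = g
      rw [h, mul_inv_cancel_right]))
  have hU : Nat.card {g : Rˣ // σ (g : R) * g = 1} = Nat.card f.ker * Nat.card f.range := by
    rw [← Subgroup.index_ker, Subgroup.card_mul_index]
    rfl
  rw [hU, ← hrange, ← hN, hsplit]
  ring

end Cfsg.Agent.Forms.AntiInv
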