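import Cfsg.Agent.Lib.Forms.Standard
/-
Symmetric bilinear forms over finite fields of odd characteristic.
* `exists_eq_one` : in dimension ≥ 2 some vector has `B v v = 1`
* `exists_diag_equiv` : `diag (1, …, 1, γ)` with `γ ∈ {1, α}`
* `det_transpose_mul_diag`, `neg_one_pow_square_of_half` : discriminant arguments
-/

set_option autoImplicit false

namespace Cfsg.Agent.Forms

variable {F V : Type*} [Field F] [AddCommGroup V] [Module F V]

theorem exists_eq_one [Finite F] [FiniteDimensional F V] (h2 : (2 : F) ≠ 0)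
    (B : LinearMap.BilinForm F V) (hS : B.IsSymm) (hB : B.Nondegenerate)
    (hd : 2 ≤ Module.finrank F V) : ∃ v, B v v = 1 := by
  haveI := Fintype.ofFinite F
  haveI : Invertible (2 : F) := invertibleOfNonzero h2
  obtain ⟨b, hb⟩ := LinearMap.BilinForm.exists_orthogonal_basis (B := B) ⟨fun x y => hS.eq x y⟩
  have hne : ∀ i, B (b i) (b i) ≠ 0 := fun i h => b.ne_zero i (hB.1 _ fun y => by
    rw [← b.sum_repr y, map_sum]
    refine Finset.sum_eq_zero fun j _ => ?_
    rw [map_smul, smul_eq_mul]
    rcases eq_or_ne j i with rfl | hji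
    · rw [h, mul_zero]
    · exact mul_eq_zero_of_right _ (hb (Ne.symm hji)))
  let i : Fin (Module.finrank F V) := ⟨0, by omega⟩
  let j : Fin (Module.finrank F V) := ⟨1, by omega⟩
  have hij : i ≠ j := by simp [i, j]
  have h12 : B (b i) (b j) = 0 := hb hij
  have h21 : B (b j) (b i) = 0 := hb hij.symm
  have hchar : ringChar F ≠ 2 := fun h => h2 (by
    haveI : CharP F 2 := ringChar.of_eq h
    exact CharTwo.two_eq_zero)
  obtain ⟨r, s, hrs⟩ := FiniteField.exists_root_sum_quadratic
    (f := Polynomial.C (B (b i) (b i)) * Polynomial.X ^ 2 + Polynomial.C (-1 : F))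
    (g := Polynomial.C (B (b j) (b j)) * Polynomial.X ^ 2)
    (by rw [Polynomial.degree_add_C (by
          rw [Polynomial.degree_C_mul_X_pow 2 (hne i)]; decide),
        Polynomial.degree_C_mul_X_pow 2 (hne i)]; rfl)
    (by rw [Polynomial.degree_C_mul_X_pow 2 (hne j)]; rfl)
    (FiniteField.odd_card_of_char_ne_two hchar)
  simp at hrs
  refine ⟨r • b i + s • b j, ?_⟩
  simp [h12, h21]
  linear_combination hrs

/-- A symmetric form is `diag (1, …, 1, γ)`. -/
theorem exists_diag_equiv.{u, v} {F : Type u} [Field F] [Finite F] {V : Type v} [AddCommGroup V]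
    [Module F V] [FiniteDimensional F V] (h2 : (2 : F) ≠ 0) (B : LinearMap.BilinForm F V)
    (hS : B.IsSymm) (hB : B.Nondegenerate) {n : ℕ} (hn : Module.finrank F V = n + 1) (α : F)
    (hα : ¬ IsSquare α) :
    ∃ (γ : F) (e : (Fin (n + 1) → F) ≃ₗ[F] V), (γ = 1 ∨ γ = α) ∧
      ∀ x y, B (e x) (e y) = ∑ i, (if i = Fin.last n then γ else 1) * x i * y i := by
  classical
  induction n generalizing V with
  | zero =>
    haveI := Fintype.ofFinite F
    let b := Module.finBasisOfFinrankEq F V hn
    have he : ∀ v, v = b.repr v 0 • b 0 := fun v => by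
      conv_lhs => rw [← b.sum_repr v]
      simp
    set c := B (b 0) (b 0) with hc
    have hc0 : c ≠ 0 := fun h => b.ne_zero 0 (hB.1 _ fun y => by
      rw [he y, map_smul, ← hc, h, smul_zero])
    obtain ⟨γ, t, hγ, ht⟩ : ∃ γ t : F, (γ = 1 ∨ γ = α) ∧ t * t * c = γ := by
      by_cases hsq : IsSquare c
      · obtain ⟨r, hr⟩ := hsq
        refine ⟨1, r⁻¹, Or.inl rfl, ?_⟩
        have hr0 : r ≠ 0 := fun h => hc0 (by rw [hr, h, mul_zero])
        rw [hr]
        field_simp
      · have hα0 : α ≠ 0 := fun h => hα (h ▸ IsSquare.zero)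
        have h1 := (quadraticChar_neg_one_iff_not_isSquare (F := F)).2 hsq
        have h3 := (quadraticChar_neg_one_iff_not_isSquare (F := F)).2 hα
        have h4 : IsSquare (α * c) := by
          rw [← quadraticChar_one_iff_isSquare (mul_ne_zero hα0 hc0), map_mul, h1, h3]
          rfl
        obtain ⟨r, hr⟩ := h4
        refine ⟨α, r / c, Or.inr rfl, ?_⟩
        field_simp
        linear_combination -hr
    have ht0 : t ≠ 0 := by
      rintro rfl
      rcases hγ with rfl | rfl
      · simp at ht
      · exact hα (by rw [← ht]; simp)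
    refine ⟨γ, (LinearEquiv.funUnique (Fin 1) F F).trans (((LinearEquiv.smulOfUnit
      (M := F) (Units.mk0 t ht0)).trans (LinearEquiv.funUnique (Fin 1) F F).symm).trans
      b.equivFun.symm), hγ, fun x y => ?_⟩
    have hs : ∀ z : F, (LinearEquiv.smulOfUnit (Units.mk0 t ht0) : F ≃ₗ[F] F) z = t * z :=
      fun z => rfl
    simp [Module.Basis.equivFun_symm_apply, hs, Fin.last, ← hc]
    rw [← ht]
    ring
  | succ n ih =>
    obtain ⟨u, hu⟩ := exists_eq_one h2 B hS hB (by omega)
    let K : Submodule F V := LinearMap.ker (B u)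
    have hk : ∀ x, x - B u x • u ∈ K := fun x => by simp [K, hu]
    let φ : (F × K) ≃ₗ[F] V :=
      { toFun := fun p => p.1 • u + (p.2 : V)
        invFun := fun x => (B u x, ⟨_, hk x⟩)
        map_add' := fun p r => by simp [add_smul]; abel
        map_smul' := fun c p => by simp [smul_add, smul_smul]
        left_inv := fun p => by
          obtain ⟨a, k, hkk⟩ := p
          have h1 : B u k = 0 := hkk
          simp [hu, h1]
        right_inv := fun x => by simp }
    have hφ : ∀ p r, B (φ p) (φ r) = p.1 * r.1 + B p.2 r.2 := by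
      rintro ⟨a, x, hx⟩ ⟨b, y, hy⟩
      have h1 : B u y = 0 := hy
      have h2' : B x u = 0 := by
        have h1' : B u x = 0 := hx
        rw [hS.eq, h1']
      simp [φ, hu, h1, h2']
    have hKsymm : (B.restrict K).IsSymm := ⟨fun x y => hS.eq x y⟩
    obtain ⟨γ, e, hγ, he⟩ := ih (V := K) (B.restrict K) hKsymm ⟨fun x hx =>
        Subtype.ext (hB.1 _ fun y => by
          have h := hφ (0, x) (φ.symm y)
          have h' : B (x : V) ((φ.symm y).2 : V) = 0 := hx (φ.symm y).2
          rw [LinearEquiv.apply_symm_apply, h', zero_mul, add_zero,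
            show φ (0, x) = (x : V) by simp [φ]] at h
          exact h),
      fun y hy => Subtype.ext (hB.2 _ fun x => by
          have h := hφ (φ.symm x) (0, y)
          have h' : B ((φ.symm x).2 : V) (y : V) = 0 := hy (φ.symm x).2
          rw [LinearEquiv.apply_symm_apply, h', mul_zero, add_zero,
            show φ (0, y) = (y : V) by simp [φ]] at h
          exact h)⟩ (by
        have h := φ.finrank_eq
        rw [Module.finrank_prod, Module.finrank_self, hn] at h
        omega)
    let c : (Fin (n + 1 + 1) → F) ≃ₗ[F] F × (Fin (n + 1) → F) :=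
      { toFun := fun x => (x 0, x ∘ Fin.succ)
        invFun := fun p => Fin.cons p.1 p.2
        map_add' := fun _ _ => rfl
        map_smul' := fun _ _ => rfl
        left_inv := fun x => by funext i; refine Fin.cases ?_ (fun j => ?_) i <;> simp
        right_inv := fun p => by simp }
    refine ⟨γ, c.trans (((LinearEquiv.refl F F).prodCongr e).trans φ), hγ, fun x y => ?_⟩
    rw [LinearEquiv.trans_apply, LinearEquiv.trans_apply, LinearEquiv.trans_apply,
      LinearEquiv.trans_apply, hφ, Fin.sum_univ_succ]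
    rw [if_neg (by simp [Fin.ext_iff]), one_mul]
    have h' := he (x ∘ Fin.succ) (y ∘ Fin.succ)
    refine congrArg₂ (· + ·) rfl (Eq.trans h' (Finset.sum_congr rfl fun i _ => ?_))
    simp [← Fin.succ_last]

/-- Gram determinant. -/
theorem det_transpose_mul_diag {n : Type*} [Fintype n] [DecidableEq n] (M : Matrix n n F)
    (w : n → F) (h : ∀ i j, ∑ k, w k * M k i * M k j = if i = j then 1 else 0) :
    M.det ^ 2 * ∏ k, w k = 1 := by
  have h1 : M.transpose * Matrix.diagonal w * M = 1 := by
    ext i j
    rw [Matrix.mul_apply, Matrix.one_apply, ← h i j]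
    exact Finset.sum_congr rfl fun k _ => by rw [Matrix.mul_diagonal, Matrix.transpose_apply]; ring
  have h2 := congrArg Matrix.det h1
  rw [Matrix.det_mul, Matrix.det_mul, Matrix.det_transpose, Matrix.det_diagonal,
    Matrix.det_one] at h2
  linear_combination h2

/-- If the sum of `2 m` squares vanishes on an `m`-space, then `(-1) ^ m` is a square. -/
theorem neg_one_pow_square_of_half (h2 : (2 : F) ≠ 0) {m : ℕ}
    (W : Submodule F (Fin (2 * m) → F)) (hd : Module.finrank F W = m)
    (hW : ∀ w ∈ W, ∑ i, w i ^ 2 = 0) : IsSquare ((-1 : F) ^ m) := by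
  classical
  obtain ⟨W', hc⟩ := Submodule.exists_isCompl W
  have hd' : Module.finrank F W' = m := by
    have h := Submodule.finrank_add_eq_of_isCompl hc
    rw [hd, Module.finrank_fin_fun] at h
    omega
  let b : Module.Basis (Fin m ⊕ Fin m) F (Fin (2 * m) → F) :=
    ((Module.finBasisOfFinrankEq F W hd).prod (Module.finBasisOfFinrankEq F W' hd')).map
      (Submodule.prodEquivOfIsCompl W W' hc)
  have hbW : ∀ i, b (.inl i) ∈ W := fun i => by simp [b]
  let e : Fin (2 * m) ≃ Fin m ⊕ Fin m := (finCongr (two_mul m)).trans finSumFinEquiv.symm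
  let M : Matrix (Fin m ⊕ Fin m) (Fin m ⊕ Fin m) F := Matrix.of fun i j => b j (e.symm i)
  let A : Matrix (Fin m) (Fin m) F := Matrix.of fun i j => ∑ k, b (.inl i) k * b (.inr j) k
  let C : Matrix (Fin m) (Fin m) F := Matrix.of fun i j => ∑ k, b (.inr i) k * b (.inr j) k
  have hWW : ∀ x ∈ W, ∀ y ∈ W, ∑ k, x k * y k = 0 := fun x hx y hy => by
    have h := hW _ (W.add_mem hx hy)
    simp only [Pi.add_apply, add_sq, Finset.sum_add_distrib, hW x hx, hW y hy, zero_add,
      add_zero] at h
    have : (2 : F) * ∑ k, x k * y k = 0 := by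
      rw [Finset.mul_sum, ← h]
      exact Finset.sum_congr rfl fun k _ => by ring
    exact (mul_eq_zero.1 this).resolve_left h2
  have hGram : M.transpose * M = Matrix.fromBlocks 0 A A.transpose C := by
    ext i j
    have hs : (M.transpose * M) i j = ∑ k, b i k * b j k := by
      rw [Matrix.mul_apply]
      exact e.symm.sum_comp fun k => b i k * b j k
    rw [hs]
    rcases i with i | i <;> rcases j with j | j
    · exact hWW _ (hbW i) _ (hbW j)
    · rfl
    · exact Finset.sum_congr rfl fun k _ => mul_comm _ _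
    · rfl
  have hMdet : M.det ≠ 0 := by
    have hM : M = ((Pi.basisFun F (Fin (2 * m))).toMatrix b).submatrix e.symm id := by
      ext i j
      simp [M, Module.Basis.toMatrix_apply]
    have hu : ((Pi.basisFun F (Fin (2 * m))).reindex e).toMatrix b = M := by
      ext i j
      simp [M, Module.Basis.toMatrix_apply]
    rw [← hu]
    have hinv := Module.Basis.toMatrix_mul_toMatrix_flip ((Pi.basisFun F (Fin (2 * m))).reindex e) b
    exact left_ne_zero_of_mul_eq_one (by rw [← Matrix.det_mul, hinv, Matrix.det_one])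
  let S₁ : Matrix (Fin m ⊕ Fin m) (Fin m ⊕ Fin m) F := Matrix.fromBlocks 1 1 0 1
  let S₂ : Matrix (Fin m ⊕ Fin m) (Fin m ⊕ Fin m) F := Matrix.fromBlocks 1 0 (-1) 1
  have hS₁ : S₁.det = 1 := by rw [Matrix.det_fromBlocks_zero₂₁]; simp
  have hS₂ : S₂.det = 1 := by rw [Matrix.det_fromBlocks_zero₁₂]; simp
  have hfact : Matrix.fromBlocks 0 A A.transpose C * (S₁ * S₂ * S₁)
      = Matrix.fromBlocks (-A) 0 (-C) A.transpose := by
    simp [S₁, S₂, Matrix.fromBlocks_multiply]
  have hdet := congrArg Matrix.det hfact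
  rw [Matrix.det_mul, Matrix.det_mul, Matrix.det_mul, hS₁, hS₂, ← hGram, Matrix.det_mul,
    Matrix.det_transpose, Matrix.det_fromBlocks_zero₁₂, Matrix.det_neg, Matrix.det_transpose,
    Fintype.card_fin] at hdet
  have hA : A.det ≠ 0 := fun h => by
    rw [h] at hdet
    simp [hMdet] at hdet
  refine ⟨M.det / A.det, ?_⟩
  field_simp
  linear_combination -hdet

end Cfsg.Agent.Forms
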