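import Cfsg.Agent.Lib.Forms.Classify
import Cfsg.Agent.Lib.Forms.Symplectic
/-
Maximal totally singular subspaces in hyperbolic spaces.
* `singular_polar_eq_zero`, `orthogonal_eq_self_of_half` : basic facts
* `even_three_maximal` : parity relation among three maximal singular subspaces (the two families)
* `plusBase`, `plusMax₁`, `plusMax₂`, `submaximal_in_two_maximal`
-/

set_option autoImplicit false

namespace Cfsg.Agent.Forms

variable {F V : Type*} [Field F] [AddCommGroup V] [Module F V]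

theorem singular_polar_eq_zero (Q : QuadraticForm F V) {W : Submodule F V}
    (hW : ∀ w ∈ W, Q w = 0) {x y : V} (hx : x ∈ W) (hy : y ∈ W) : QuadraticMap.polar Q x y = 0 := by
  rw [QuadraticMap.polar, hW _ (W.add_mem hx hy), hW x hx, hW y hy, sub_zero, sub_zero]

/-- A singular subspace of half dimension is its own orthogonal. -/
theorem orthogonal_eq_self_of_half [FiniteDimensional F V] (Q : QuadraticForm F V)
    (hQ : (QuadraticMap.polarBilin Q).Nondegenerate) (W : Submodule F V)
    (hW : ∀ w ∈ W, Q w = 0) (hd : Module.finrank F V = 2 * Module.finrank F W) :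
    LinearMap.BilinForm.orthogonal (QuadraticMap.polarBilin Q) W = W := by
  refine (Submodule.eq_of_le_of_finrank_eq (fun x hx => ?_) ?_).symm
  · exact fun y hy => singular_polar_eq_zero Q hW hy hx
  · rw [LinearMap.BilinForm.finrank_orthogonal hQ]
    omega

/-- Parity among three singular subspaces of half dimension. -/
theorem even_three_maximal [FiniteDimensional F V] (Q : QuadraticForm F V)
    (hQ : (QuadraticMap.polarBilin Q).Nondegenerate) {m : ℕ} (hV : Module.finrank F V = 2 * m)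
    (U W X : Submodule F V) (hU : Module.finrank F U = m ∧ ∀ w ∈ U, Q w = 0)
    (hW : Module.finrank F W = m ∧ ∀ w ∈ W, Q w = 0)
    (hX : Module.finrank F X = m ∧ ∀ w ∈ X, Q w = 0) :
    Even ((m - Module.finrank F ↥(U ⊓ W)) + (m - Module.finrank F ↥(W ⊓ X))
      + (m - Module.finrank F ↥(U ⊓ X))) := by
  classical
  set B : LinearMap.BilinForm F V := QuadraticMap.polarBilin Q with hB
  have hU' := orthogonal_eq_self_of_half Q hQ U hU.2 (by rw [hU.1, hV])
  have hW' := orthogonal_eq_self_of_half Q hQ W hW.2 (by rw [hW.1, hV])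
  have hX' := orthogonal_eq_self_of_half Q hQ X hX.2 (by rw [hX.1, hV])
  set R := U ⊓ W with hR
  have hsymm : ∀ x y, B x y = B y x := fun x y => QuadraticMap.polar_comm _ x y
  -- the orthogonal of `R`
  have hRperp : B.orthogonal R = U ⊔ W := by
    refine (Submodule.eq_of_le_of_finrank_eq (sup_le ?_ ?_) ?_).symm
    · intro x hx y hy
      exact singular_polar_eq_zero Q hU.2 hy.1 hx
    · intro x hx y hy
      exact singular_polar_eq_zero Q hW.2 hy.2 hx
    · have h := Submodule.finrank_sup_add_finrank_inf_eq U W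
      rw [LinearMap.BilinForm.finrank_orthogonal hQ, hV]
      rw [← hR, hU.1, hW.1] at h
      omega
  set X₀ := X ⊓ (U ⊔ W) with hX₀
  have hX₀perp : B.orthogonal (X ⊔ R) = X₀ := by
    rw [hX₀, ← hRperp]
    refine le_antisymm (le_inf ?_ ?_) ?_
    · exact le_of_le_of_eq (b := B.orthogonal X) (fun x hx y hy => hx y (Submodule.mem_sup_left hy)) hX'
    · exact fun x hx y hy => hx y (Submodule.mem_sup_right hy)
    · intro x hx y hy
      obtain ⟨a, ha, b, hb, rfl⟩ := Submodule.mem_sup.1 hy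
      show B (a + b) x = 0
      rw [map_add, LinearMap.add_apply, hx.2 b hb, add_zero]
      exact singular_polar_eq_zero Q hX.2 ha hx.1
  have hX₀dim : Module.finrank F X₀ + Module.finrank F ↥(X ⊔ R) = 2 * m := by
    have h1 := LinearMap.BilinForm.finrank_orthogonal (B := B) hQ (X ⊔ R)
    have h2 := Submodule.finrank_le (X ⊔ R)
    rw [hX₀perp] at h1
    omega
  have hperpX₀ : B.orthogonal X₀ = X ⊔ R := by
    refine (Submodule.eq_of_le_of_finrank_eq (fun x hx y hy => ?_) ?_).symm
    · rw [← hX₀perp] at hy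
      show B y x = 0
      rw [hsymm]
      exact hy x hx
    · rw [LinearMap.BilinForm.finrank_orthogonal hQ, hV]
      omega
  -- choose the `U`-component of an element of `U ⊔ W`
  let sumMap : (U × W) →ₗ[F] (U ⊔ W : Submodule F V) :=
    LinearMap.codRestrict _ (U.subtype.coprod W.subtype) fun p => by
      simpa using Submodule.add_mem_sup p.1.2 p.2.2
  have hsurj : LinearMap.range sumMap = ⊤ := by
    rw [LinearMap.range_eq_top]
    intro x
    obtain ⟨a, ha, b, hb, hab⟩ := Submodule.mem_sup.1 x.2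
    exact ⟨(⟨a, ha⟩, ⟨b, hb⟩), Subtype.ext (by simpa [sumMap] using hab)⟩
  obtain ⟨sec, hsec⟩ := sumMap.exists_rightInverse_of_surjective hsurj
  let p : X₀ →ₗ[F] V := U.subtype.comp ((LinearMap.fst F U W).comp
    (sec.comp (Submodule.inclusion (inf_le_right : X₀ ≤ U ⊔ W))))
  have hpU : ∀ x : X₀, p x ∈ U := fun x => Subtype.property _
  have hpW : ∀ x : X₀, (x : V) - p x ∈ W := fun x => by
    have h := congrArg Subtype.val
      (LinearMap.congr_fun hsec (Submodule.inclusion (inf_le_right : X₀ ≤ U ⊔ W) x))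
    simp [sumMap] at h
    have : (x : V) - p x
        = ((sec (Submodule.inclusion (inf_le_right : X₀ ≤ U ⊔ W) x)).2 : V) := by
      rw [sub_eq_iff_eq_add, add_comm]
      exact h.symm
    rw [this]
    exact Subtype.property _
  let β : LinearMap.BilinForm F X₀ := B.compl₁₂ p X₀.subtype
  have hβ : ∀ x y, β x y = B (p x) (y : V) := fun x y => rfl
  have hβalt : β.IsAlt := fun x => by
    rw [hβ]
    have h := QuadraticMap.map_add (⇑Q) (p x) ((x : V) - p x)
    rw [add_sub_cancel, hX.2 _ x.2.1, hU.2 _ (hpU x), hW.2 _ (hpW x), zero_add, zero_add] at h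
    calc B (p x) (x : V) = B (p x) (p x) + B (p x) ((x : V) - p x) := by
          rw [← map_add, add_sub_cancel]
      _ = 0 := by
          rw [hB, QuadraticMap.polarBilin_apply_apply, QuadraticMap.polarBilin_apply_apply,
            singular_polar_eq_zero Q hU.2 (hpU x) (hpU x), ← h, add_zero]
  have hker : LinearMap.ker β = ((X ⊓ U) ⊔ (X ⊓ W)).comap X₀.subtype := by
    ext x
    rw [LinearMap.mem_ker, Submodule.mem_comap, Submodule.subtype_apply]
    constructor
    · intro h
      have hmem : p x ∈ B.orthogonal X₀ := fun y hy => by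
        show B y (p x) = 0
        rw [hsymm]
        exact LinearMap.congr_fun h ⟨y, hy⟩
      rw [hperpX₀] at hmem
      obtain ⟨x₁, hx₁, r, hr, hxr⟩ := Submodule.mem_sup.1 hmem
      have hx₁U : x₁ ∈ U := by
        rw [show x₁ = p x - r from eq_sub_of_add_eq hxr]
        exact U.sub_mem (hpU x) hr.1
      have hxW : (x : V) - x₁ ∈ W := by
        rw [show (x : V) - x₁ = ((x : V) - p x) + r from by rw [← hxr]; abel]
        exact W.add_mem (hpW x) hr.2
      have := Submodule.add_mem_sup (Submodule.mem_inf.2 ⟨hx₁, hx₁U⟩)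
        (Submodule.mem_inf.2 ⟨X.sub_mem x.2.1 hx₁, hxW⟩)
      simpa using this
    · intro h
      obtain ⟨a, ha, b, hb, hab⟩ := Submodule.mem_sup.1 h
      refine LinearMap.ext fun y => ?_
      rw [hβ, LinearMap.zero_apply]
      have hr : p x - a ∈ R := by
        refine ⟨U.sub_mem (hpU x) ha.2, ?_⟩
        rw [show p x - a = b - ((x : V) - p x) from by rw [← hab]; abel]
        exact W.sub_mem hb.2 (hpW x)
      have h1 : B a (y : V) = 0 := singular_polar_eq_zero Q hX.2 ha.1 y.2.1
      have h2 : B (p x - a) (y : V) = 0 := by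
        have hy : (y : V) ∈ B.orthogonal R := by rw [hRperp]; exact y.2.2
        exact hy _ hr
      rw [map_sub, LinearMap.sub_apply, h1, sub_zero] at h2
      exact h2
  have hdk : Module.finrank F (LinearMap.ker β) = Module.finrank F ↥((X ⊓ U) ⊔ (X ⊓ W)) := by
    rw [hker]
    exact LinearEquiv.finrank_eq (Submodule.comapSubtypeEquivOfLe
      (sup_le (inf_le_inf_left _ le_sup_left) (inf_le_inf_left _ le_sup_right)))
  obtain ⟨k, hk⟩ := even_finrank_sub_ker β hβalt
  have hkle := Submodule.finrank_le (LinearMap.ker β)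
  rw [hdk] at hk hkle
  have h1 := Submodule.finrank_sup_add_finrank_inf_eq (X ⊓ U) (X ⊓ W)
  rw [show X ⊓ U ⊓ (X ⊓ W) = X ⊓ R from (inf_inf_distrib_left X U W).symm, inf_comm X U,
    inf_comm X W] at h1
  rw [inf_comm X U, inf_comm X W] at hk hkle
  have h2 := Submodule.finrank_sup_add_finrank_inf_eq X R
  rw [hX.1] at h2
  have h3 : Module.finrank F R ≤ m := hU.1 ▸ Submodule.finrank_mono inf_le_left
  have h4 : Module.finrank F ↥(W ⊓ X) ≤ m := hW.1 ▸ Submodule.finrank_mono inf_le_left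
  have h5 : Module.finrank F ↥(U ⊓ X) ≤ m := hU.1 ▸ Submodule.finrank_mono inf_le_left
  rw [Nat.even_iff]
  omega

/-! ### The standard maximal subspaces of `qfPlus` -/

/-- The embedding with range the span of `e₁, …, e_k` in the plus space of index `k + 1`. -/
def plusBaseMap (k : ℕ) : (Fin k → F) →ₗ[F] (Fin (k + 1) ⊕ Fin (k + 1) → F) where
  toFun a := Sum.elim (Fin.cons 0 a) 0
  map_add' a b := by
    funext i
    rcases i with i | i
    · refine Fin.cases ?_ (fun j => ?_) i <;> simp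
    · simp
  map_smul' c a := by
    funext i
    rcases i with i | i
    · refine Fin.cases ?_ (fun j => ?_) i <;> simp
    · simp

/-- The embedding with range the span of all the `eᵢ`. -/
def plusMaxMap₁ (k : ℕ) : (Fin k → F) →ₗ[F] (Fin k ⊕ Fin k → F) where
  toFun a := Sum.elim a 0
  map_add' a b := by funext i; rcases i with i | i <;> simp
  map_smul' c a := by funext i; rcases i with i | i <;> simp

/-- The embedding with range the span of `f₀, e₁, …, e_k`. -/
def plusMaxMap₂ (k : ℕ) : (Fin (k + 1) → F) →ₗ[F] (Fin (k + 1) ⊕ Fin (k + 1) → F) where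
  toFun a := Sum.elim (Fin.cons 0 (a ∘ Fin.succ)) (Fin.cons (a 0) 0)
  map_add' a b := by
    funext i
    rcases i with i | i <;> refine Fin.cases ?_ (fun j => ?_) i <;> simp
  map_smul' c a := by
    funext i
    rcases i with i | i <;> refine Fin.cases ?_ (fun j => ?_) i <;> simp

/-- `⟨e₁, …, e_k⟩`. -/
def plusBase (k : ℕ) : Submodule F (Fin (k + 1) ⊕ Fin (k + 1) → F) :=
  LinearMap.range (plusBaseMap k)

/-- `⟨e₀, …, e_{k-1}⟩`. -/
def plusMax₁ (k : ℕ) : Submodule F (Fin k ⊕ Fin k → F) := LinearMap.range (plusMaxMap₁ k)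

/-- `⟨f₀, e₁, …, e_k⟩`. -/
def plusMax₂ (k : ℕ) : Submodule F (Fin (k + 1) ⊕ Fin (k + 1) → F) :=
  LinearMap.range (plusMaxMap₂ k)

theorem mem_plusMax₁ (k : ℕ) (v : Fin k ⊕ Fin k → F) :
    v ∈ plusMax₁ k ↔ ∀ i, v (.inr i) = 0 := by
  constructor
  · rintro ⟨a, rfl⟩ i; rfl
  · intro h
    exact ⟨v ∘ Sum.inl, by funext i; rcases i with i | i; rfl; exact (h i).symm⟩

theorem mem_plusMax₂ (k : ℕ) (v : Fin (k + 1) ⊕ Fin (k + 1) → F) :
    v ∈ plusMax₂ k ↔ v (.inl 0) = 0 ∧ ∀ i : Fin k, v (.inr i.succ) = 0 := by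
  constructor
  · rintro ⟨a, rfl⟩; exact ⟨by simp [plusMaxMap₂], fun i => by simp [plusMaxMap₂]⟩
  · intro h
    refine ⟨Fin.cons (v (.inr 0)) fun i => v (.inl i.succ), ?_⟩
    funext i
    rcases i with i | i <;> refine Fin.cases ?_ (fun j => ?_) i <;>
      simp [plusMaxMap₂, h.1, h.2]

theorem mem_plusBase (k : ℕ) (v : Fin (k + 1) ⊕ Fin (k + 1) → F) :
    v ∈ plusBase k ↔ v ∈ plusMax₁ (k + 1) ∧ v ∈ plusMax₂ k := by
  rw [mem_plusMax₁, mem_plusMax₂]
  constructor
  · rintro ⟨a, rfl⟩; exact ⟨fun i => rfl, by simp [plusBaseMap], fun i => rfl⟩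
  · intro h
    refine ⟨fun i => v (.inl i.succ), ?_⟩
    funext i
    rcases i with i | i <;> refine Fin.cases ?_ (fun j => ?_) i <;>
      simp [plusBaseMap, h.1, h.2.1]

theorem finrank_plusBase (k : ℕ) : Module.finrank F (plusBase (F := F) k) = k := by
  rw [plusBase, LinearMap.finrank_range_of_inj, Module.finrank_fin_fun]
  intro a b h
  funext i
  simpa [plusBaseMap] using congrFun h (.inl i.succ)

theorem finrank_plusMax₁ (k : ℕ) : Module.finrank F (plusMax₁ (F := F) k) = k := by
  rw [plusMax₁, LinearMap.finrank_range_of_inj, Module.finrank_fin_fun]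
  intro a b h
  funext i
  simpa [plusMaxMap₁] using congrFun h (.inl i)

theorem finrank_plusMax₂ (k : ℕ) : Module.finrank F (plusMax₂ (F := F) k) = k + 1 := by
  rw [plusMax₂, LinearMap.finrank_range_of_inj, Module.finrank_fin_fun]
  intro a b h
  funext i
  refine Fin.cases ?_ (fun j => ?_) i
  · simpa [plusMaxMap₂] using congrFun h (.inr 0)
  · simpa [plusMaxMap₂] using congrFun h (.inl j.succ)

theorem plusMax₁_singular (k : ℕ) : ∀ w ∈ plusMax₁ (F := F) k, qfPlus k F w = 0 := fun w hw => by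
  rw [qfPlus_apply, quadFormPlus]
  exact Finset.sum_eq_zero fun i _ => by rw [(mem_plusMax₁ k w).1 hw i, mul_zero]

theorem plusMax₂_singular (k : ℕ) :
    ∀ w ∈ plusMax₂ (F := F) k, qfPlus (k + 1) F w = 0 := fun w hw => by
  rw [qfPlus_apply, quadFormPlus, Fin.sum_univ_succ, ((mem_plusMax₂ k w).1 hw).1, zero_mul,
    zero_add]
  exact Finset.sum_eq_zero fun i _ => by rw [((mem_plusMax₂ k w).1 hw).2 i, mul_zero]

theorem plusMax₁_ne_plusMax₂ (k : ℕ) : plusMax₁ (F := F) (k + 1) ≠ plusMax₂ k := by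
  intro h
  have hmem : plusMaxMap₁ (k + 1) (Pi.single (0 : Fin (k + 1)) (1 : F)) ∈ plusMax₁ (k + 1) :=
    ⟨_, rfl⟩
  rw [h, mem_plusMax₂] at hmem
  simpa [plusMaxMap₁] using hmem.1

/-- A submaximal singular subspace lies in exactly two maximal ones. -/
theorem submaximal_in_two_maximal (k : ℕ) (U : Submodule F (Fin (k + 1) ⊕ Fin (k + 1) → F))
    (hU : Module.finrank F U = k ∧ ∀ u ∈ U, qfPlus (k + 1) F u = 0) :
    Nat.card {W : Submodule F (Fin (k + 1) ⊕ Fin (k + 1) → F) //
      Module.finrank F W = k + 1 ∧ (∀ w ∈ W, qfPlus (k + 1) F w = 0) ∧ U ≤ W} = 2 := by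
  obtain ⟨hUd, hUs⟩ := hU
  set Q := qfPlus (k + 1) F with hQdef
  have hbaseS : ∀ u ∈ plusBase (F := F) k, Q u = 0 :=
    fun u hu => plusMax₁_singular _ u ((mem_plusBase k u).1 hu).1
  obtain ⟨φ, hφ⟩ := exists_map_of_subspace_equiv
    (LinearEquiv.ofFinrankEq (plusBase (F := F) k) U (by rw [finrank_plusBase, hUd]))
  obtain ⟨g, hg, hgU⟩ := witt_quadratic_map Q (qfPlus_nondegenerate (k + 1)) (plusBase k) φ
    (fun x hx h0 => by
      rw [hφ ⟨x, hx⟩] at h0
      simpa using h0)
    (fun x hx => by rw [hφ ⟨x, hx⟩, hUs _ (Subtype.property _), hbaseS x hx])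
  have hmap : (plusBase k).map g.toLinearMap = U := by
    refine Submodule.eq_of_le_of_finrank_eq ?_ ?_
    · rintro _ ⟨x, hx, rfl⟩
      rw [LinearEquiv.coe_coe, hgU x hx, hφ ⟨x, hx⟩]
      exact Subtype.property _
    · rw [LinearEquiv.finrank_map_eq, finrank_plusBase, hUd]
  let e : {W : Submodule F (Fin (k + 1) ⊕ Fin (k + 1) → F) //
        Module.finrank F W = k + 1 ∧ (∀ w ∈ W, Q w = 0) ∧ plusBase k ≤ W} ≃
      {W : Submodule F (Fin (k + 1) ⊕ Fin (k + 1) → F) //
        Module.finrank F W = k + 1 ∧ (∀ w ∈ W, Q w = 0) ∧ U ≤ W} :=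
    (Submodule.orderIsoMapComap g).toEquiv.subtypeEquiv fun W => by
      rw [RelIso.coe_fn_toEquiv, Submodule.orderIsoMapComap_apply]
      show _ ↔ (Module.finrank F (W.map g.toLinearMap) = k + 1 ∧
        (∀ w ∈ W.map g.toLinearMap, Q w = 0) ∧ U ≤ W.map g.toLinearMap)
      rw [LinearEquiv.finrank_map_eq, ← hmap]
      constructor
      · rintro ⟨h1, h2, h3⟩
        refine ⟨h1, ?_, Submodule.map_mono h3⟩
        rintro _ ⟨w, hw, rfl⟩
        rw [LinearEquiv.coe_coe, hg, h2 w hw]
      · rintro ⟨h1, h2, h3⟩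
        refine ⟨h1, fun w hw => ?_, (Submodule.map_le_map_iff_of_injective g.injective _ _).1 h3⟩
        rw [← hg w]
        exact h2 _ ⟨w, hw, rfl⟩
  rw [← Nat.card_congr e, Nat.card_eq_two_iff]
  refine ⟨⟨plusMax₁ (k + 1), finrank_plusMax₁ _, plusMax₁_singular _,
      fun v hv => ((mem_plusBase k v).1 hv).1⟩,
    ⟨plusMax₂ k, finrank_plusMax₂ _, plusMax₂_singular _,
      fun v hv => ((mem_plusBase k v).1 hv).2⟩,
    fun h => plusMax₁_ne_plusMax₂ k (congrArg Subtype.val h), Set.eq_univ_of_forall ?_⟩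
  rintro ⟨W, hWd, hWs, hWb⟩
  have hsucc : ∀ w ∈ W, ∀ i : Fin k, w (.inr i.succ) = 0 := fun w hw i => by
    have h := singular_polar_eq_zero Q hWs (hWb ⟨Pi.single i (1 : F), rfl⟩) hw
    rw [QuadraticMap.polar] at h
    simp [hQdef, qfPlus_apply, quadFormPlus, plusBaseMap, Fin.sum_univ_succ, add_mul,
      Finset.sum_add_distrib] at h
    simpa [Pi.single_apply] using h
  have hprod : ∀ w ∈ W, w (.inl 0) * w (.inr 0) = 0 := fun w hw => by
    have h := hWs w hw
    rw [hQdef, qfPlus_apply, quadFormPlus, Fin.sum_univ_succ,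
      Finset.sum_eq_zero fun i _ => by rw [hsucc w hw i, mul_zero], add_zero] at h
    exact h
  by_cases hall : ∀ w ∈ W, w (.inr 0) = 0
  · left
    refine Subtype.ext (Submodule.eq_of_le_of_finrank_eq (fun w hw => ?_)
      (by rw [finrank_plusMax₁, hWd]))
    rw [mem_plusMax₁]
    intro i
    exact Fin.cases (hall w hw) (hsucc w hw) i
  · right
    push Not at hall
    obtain ⟨w₀, hw₀, hne⟩ := hall
    have hx₀ : w₀ (.inl 0) = 0 := (mul_eq_zero.1 (hprod w₀ hw₀)).resolve_right hne
    refine Subtype.ext (Submodule.eq_of_le_of_finrank_eq (fun w hw => ?_)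
      (by rw [finrank_plusMax₂, hWd]))
    rw [mem_plusMax₂]
    refine ⟨?_, hsucc w hw⟩
    by_contra hx
    have hy : w (.inr 0) = 0 := (mul_eq_zero.1 (hprod w hw)).resolve_left hx
    have := hprod _ (W.add_mem hw hw₀)
    simp [hx₀, hy, hx, hne] at this

end Cfsg.Agent.Forms
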