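import Cfsg.Agent.Lib.Forms.Witt
/-
Hermitian forms.
* `sesq_eq_zero_of_self_eq_zero` : a conjugate-symmetric form with `B v v = 0` for all `v` is zero
* `exists_norm_eq` : over a finite field the norm of an involution is onto the fixed field
* `exists_orthonormal_equiv`, `exists_orthonormal_basis` : orthonormal bases
-/

set_option autoImplicit false

namespace Cfsg.Agent.Forms

variable {F V : Type*} [Field F] [AddCommGroup V] [Module F V]

theorem sesq_eq_zero_of_self_eq_zero (σ : F →+* F) (hσ : σ ≠ RingHom.id F)
    (B : V →ₛₗ[σ] V →ₗ[F] F) (hS : B.IsSymm) (h0 : ∀ v : V, B v v = 0) : B = 0 := by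
  have hanti : ∀ u v, B u v + B v u = 0 := fun u v => by
    have := h0 (u + v)
    simp only [map_add, LinearMap.add_apply, h0, add_zero, zero_add] at this
    linear_combination this
  refine LinearMap.ext₂ fun u v => ?_
  by_contra hne
  refine hσ (RingHom.ext fun c => ?_)
  have h := hanti (c • u) v
  simp only [LinearMap.map_smulₛₗ, LinearMap.smul_apply, map_smul, smul_eq_mul,
    RingHom.id_apply] at h
  have h' : (σ c - c) * B u v = 0 := by linear_combination h - c * hanti u v
  rw [RingHom.id_apply, ← sub_eq_zero]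
  exact (mul_eq_zero.1 h').resolve_right hne

/-- The norm `t ↦ σ t * t` of a non-identity involution of a finite field is onto the fixed field. -/
theorem exists_norm_eq [Finite F] {σ : F →+* F} (hσ : σ ≠ RingHom.id F) (hσ2 : ∀ a, σ (σ a) = a)
    {c : F} (hc : σ c = c) : ∃ t, σ t * t = c := by
  by_cases hc0 : c = 0
  · exact ⟨0, by simp [hc0]⟩
  let s : Fˣ →* Fˣ := Units.map (σ : F →* F)
  let N : Fˣ →* Fˣ := s * MonoidHom.id _
  let D : Fˣ →* Fˣ := MonoidHom.id _ / s
  have hsval : ∀ u : Fˣ, ((s u : Fˣ) : F) = σ (u : F) := fun u => rfl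
  have hker : N.ker = D.range := by
    ext t
    rw [MonoidHom.mem_ker, MonoidHom.mem_range]
    constructor
    · intro h
      have ht : σ (t : F) * (t : F) = 1 := by simpa [N, Units.ext_iff, hsval] using h
      obtain ⟨y, hy⟩ : ∃ y : F, y + (t : F) * σ y ≠ 0 := by
        by_contra hcon
        push Not at hcon
        refine hσ (RingHom.ext fun y => ?_)
        have h1 : (t : F) = -1 := by
          have := hcon 1
          rw [map_one] at this
          linear_combination this
        have := hcon y
        rw [h1] at this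
        simp only [RingHom.id_apply]
        linear_combination -this
      refine ⟨Units.mk0 _ hy, ?_⟩
      have hsne : (σ (y + (t : F) * σ y)) ≠ 0 := by rwa [ne_eq, map_eq_zero]
      apply Units.ext
      simp only [D, MonoidHom.div_apply, MonoidHom.id_apply, Units.val_div_eq_div_val,
        Units.val_mk0, hsval]
      rw [div_eq_iff hsne, map_add, map_mul, hσ2]
      linear_combination -y * ht
    · rintro ⟨u, rfl⟩
      apply Units.ext
      have hu : σ (u : F) ≠ 0 := by simp
      simp [D, N, hsval, map_div₀, hσ2]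
  have hcard : Nat.card N.range = Nat.card D.ker := by
    have h1 : Nat.card N.range * Nat.card N.ker = Nat.card Fˣ := by
      rw [← Subgroup.index_ker, Subgroup.index_mul_card]
    have h2 : Nat.card D.range * Nat.card D.ker = Nat.card Fˣ := by
      rw [← Subgroup.index_ker, Subgroup.index_mul_card]
    rw [hker, mul_comm, ← h2] at h1
    exact Nat.eq_of_mul_eq_mul_left Nat.card_pos h1
  have hle : N.range ≤ D.ker := by
    rintro _ ⟨u, rfl⟩
    rw [MonoidHom.mem_ker]
    apply Units.ext
    have hu : σ (u : F) ≠ 0 := by simp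
    simp [D, N, hsval, hσ2]
    field_simp
  have heq : N.range = D.ker :=
    Subgroup.eq_of_le_of_card_ge hle hcard.ge
  obtain ⟨t, ht⟩ : Units.mk0 c hc0 ∈ N.range := by
    rw [heq, MonoidHom.mem_ker]
    apply Units.ext
    simp [D, hsval, hc, hc0]
  exact ⟨t, by simpa [N, Units.ext_iff, hsval] using ht⟩

/-- The standard hermitian form. -/
def hermStd (σ : F →+* F) {n : ℕ} (x y : Fin n → F) : F := ∑ i, σ (x i) * y i

/-- A non-degenerate hermitian form over a finite field is the standard one. -/
theorem exists_orthonormal_equiv.{u, v} {F : Type u} [Field F] [Finite F] {V : Type v}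
    [AddCommGroup V] [Module F V] [FiniteDimensional F V] (σ : F →+* F) (hσ : σ ≠ RingHom.id F)
    (hσ2 : ∀ a : F, σ (σ a) = a) (B : V →ₛₗ[σ] V →ₗ[F] F) (hS : B.IsSymm) (hB : B.Nondegenerate) :
    ∃ e : (Fin (Module.finrank F V) → F) ≃ₗ[F] V, ∀ x y, B (e x) (e y) = hermStd σ x y := by
  suffices h : ∀ n, Module.finrank F V = n →
      ∃ e : (Fin n → F) ≃ₗ[F] V, ∀ x y, B (e x) (e y) = hermStd σ x y by exact h _ rfl
  intro n
  induction n generalizing V with
  | zero =>
    intro hn
    haveI := Module.finrank_zero_iff.1 hn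
    exact ⟨LinearEquiv.ofSubsingleton _ _, fun x y => by
      rw [Subsingleton.elim x 0]; simp [hermStd]⟩
  | succ n ih =>
    intro hn
    haveI : Nontrivial V := Module.nontrivial_of_finrank_pos (R := F) (by omega)
    obtain ⟨v, hv⟩ : ∃ v, B v v ≠ 0 := by
      by_contra hcon
      push Not at hcon
      obtain ⟨x, hx⟩ := exists_ne (0 : V)
      exact hx (hB.1 x fun y => by rw [sesq_eq_zero_of_self_eq_zero σ hσ B hS hcon]; rfl)
    obtain ⟨t, ht⟩ := exists_norm_eq hσ hσ2 (c := (B v v)⁻¹) (by rw [map_inv₀, hS.eq])
    set u := t • v with hu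
    have huu : B u u = 1 := by
      simp only [hu, LinearMap.map_smulₛₗ, LinearMap.smul_apply, map_smul, smul_eq_mul,
        RingHom.id_apply]
      rw [← mul_assoc, mul_comm t, ht, inv_mul_cancel₀ hv]
    let K : Submodule F V := LinearMap.ker (B u)
    have hk : ∀ x, x - B u x • u ∈ K := fun x => by simp [K, huu]
    let φ : (F × K) ≃ₗ[F] V :=
      { toFun := fun p => p.1 • u + (p.2 : V)
        invFun := fun x => (B u x, ⟨_, hk x⟩)
        map_add' := fun p r => by simp [add_smul]; abel
        map_smul' := fun c p => by simp [smul_add, smul_smul]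
        left_inv := fun p => by
          obtain ⟨a, k, hkk⟩ := p
          have h1 : B u k = 0 := hkk
          simp [huu, h1]
        right_inv := fun x => by simp }
    have hφ : ∀ p r, B (φ p) (φ r) = σ p.1 * r.1 + B p.2 r.2 := by
      rintro ⟨a, x, hx⟩ ⟨b, y, hy⟩
      have h1 : B u y = 0 := hy
      have h2 : B x u = 0 := by
        have h1' : B u x = 0 := hx
        rw [← hS.eq, h1', map_zero]
      simp [φ, LinearMap.map_smulₛₗ, huu, h1, h2]
    obtain ⟨e, he⟩ := ih (V := K) ((B.domRestrict₁₂ K K)) (hS.domRestrict K) ⟨fun x hx =>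
        Subtype.ext (hB.1 _ fun y => by
          have h := hφ (0, x) (φ.symm y)
          rw [LinearEquiv.apply_symm_apply] at h
          have h' : B (x : V) ((φ.symm y).2 : V) = 0 := hx (φ.symm y).2
          rw [h', map_zero, zero_mul, add_zero, show φ (0, x) = (x : V) by simp [φ]] at h
          exact h),
      fun y hy => Subtype.ext (hB.2 _ fun x => by
          have h := hφ (φ.symm x) (0, y)
          rw [LinearEquiv.apply_symm_apply] at h
          have h' : B ((φ.symm x).2 : V) (y : V) = 0 := hy (φ.symm x).2
          rw [h', mul_zero, add_zero, show φ (0, y) = (y : V) by simp [φ]] at h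
          exact h)⟩ (by
        have h := φ.finrank_eq
        rw [Module.finrank_prod, Module.finrank_self, hn] at h
        omega)
    let c : (Fin (n + 1) → F) ≃ₗ[F] F × (Fin n → F) :=
      { toFun := fun x => (x 0, x ∘ Fin.succ)
        invFun := fun p => Fin.cons p.1 p.2
        map_add' := fun _ _ => rfl
        map_smul' := fun _ _ => rfl
        left_inv := fun x => by funext i; refine Fin.cases ?_ (fun j => ?_) i <;> simp
        right_inv := fun p => by simp }
    refine ⟨c.trans (((LinearEquiv.refl F F).prodCongr e).trans φ), fun x y => ?_⟩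
    rw [LinearEquiv.trans_apply, LinearEquiv.trans_apply, LinearEquiv.trans_apply,
      LinearEquiv.trans_apply, hφ]
    simp only [hermStd, Fin.sum_univ_succ]
    exact congrArg (σ (x 0) * y 0 + ·) (he _ _)

/-- A non-degenerate hermitian form over a finite field has an orthonormal basis. -/
theorem exists_orthonormal_basis [Finite F] [FiniteDimensional F V] (σ : F →+* F)
    (hσ : σ ≠ RingHom.id F) (hσ2 : ∀ a : F, σ (σ a) = a) (B : V →ₛₗ[σ] V →ₗ[F] F)
    (hS : B.IsSymm) (hB : B.Nondegenerate) :
    ∃ b : Module.Basis (Fin (Module.finrank F V)) F V,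
      ∀ i j, B (b i) (b j) = if i = j then 1 else 0 := by
  obtain ⟨e, he⟩ := exists_orthonormal_equiv σ hσ hσ2 B hS hB
  refine ⟨Module.Basis.ofEquivFun e.symm, fun i j => ?_⟩
  simp only [Module.Basis.coe_ofEquivFun, LinearEquiv.symm_symm, he]
  simp [hermStd, Pi.single_apply, eq_comm]

end Cfsg.Agent.Forms
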