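import Cfsg.Agent.Lib.Forms.InvolutionModels
/-
Conjugacy criteria for involutions in characteristic two.
* `invariants_of_intertwiner`, `isConj_iff_symp` : conjugate in `O` iff conjugate in the symplectic group
-/

set_option autoImplicit false
set_option linter.unusedSectionVars false

namespace Cfsg.Agent.Forms.Invol

open Module Cfsg Cfsg.Agent.Orth

variable {F : Type*} [Field F] [CharP F 2]

theorem invariants_of_intertwiner {V : Type*} [AddCommGroup V] [Module F V]
    {B : LinearMap.BilinForm F V} {N N' : V →ₗ[F] V} (e : V ≃ₗ[F] V)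
    (hB : ∀ x y, B (e x) (e y) = B x y) (hc : ∀ x, N' (e x) = e (N x)) :
    finrank F (LinearMap.range N) = finrank F (LinearMap.range N') ∧
      (IsAltInv B N ↔ IsAltInv B N') := by
  have hr : LinearMap.range N' = (LinearMap.range N).map e.toLinearMap := by
    ext y
    constructor
    · rintro ⟨x, rfl⟩
      exact ⟨N (e.symm x), ⟨_, rfl⟩, by rw [LinearEquiv.coe_coe, ← hc, e.apply_symm_apply]⟩
    · rintro ⟨_, ⟨x, rfl⟩, rfl⟩
      exact ⟨e x, hc x⟩
  refine ⟨by rw [hr, LinearEquiv.finrank_map_eq], fun ha x => ?_, fun ha x => ?_⟩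
  · rw [← e.apply_symm_apply x, hc, hB]
    exact ha _
  · have := ha (e x)
    rwa [hc, hB] at this

/-- Involutions of `O(Q)` conjugate under the isometries of the polar form are conjugate in `O(Q)`. -/
theorem isConj_iff_symp {ι : Type} [Fintype ι] [DecidableEq ι] [Finite F]
    {Q : QuadraticForm F (ι → F)} (hQ : Q.polarBilin.Nondegenerate) {t s : IsoGrp Q}
    (ht : orderOf t = 2) (hs : orderOf s = 2) :
    IsConj t s ↔ ∃ g ∈ Cfsg.preserving (Units.coeHom (Matrix ι ι F))
        (fun u v => Q (u + v) - Q u - Q v),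
      g * (t : GL ι F) * g⁻¹ = (s : GL ι F) := by
  constructor
  · intro h
    obtain ⟨c, hc⟩ := isConj_iff.1 h
    exact ⟨(c : GL ι F), fun u v => polar_ap c u v, congrArg Subtype.val hc⟩
  · rintro ⟨g, hg, hgc⟩
    rw [isConj_iff_inv hQ (sq_of_orderOf ht) (sq_of_orderOf hs)]
    refine invariants_of_intertwiner (glLinEquiv g) (fun x y => hg x y) fun x => ?_
    simp only [tN_apply, map_add, ap_apply, glLinEquiv_apply, Matrix.mulVec_mulVec, ← Units.val_mul,
      ← hgc, inv_mul_cancel_right]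

theorem alt_iff_quad {ι : Type} [Fintype ι] [DecidableEq ι]
    {Q : QuadraticForm F (ι → F)} (hQ : Q.polarBilin.Nondegenerate) {t : IsoGrp Q} (ht : t * t = 1) :
    IsAltInv Q.polarBilin (tN t) ↔ ∀ v, Q (v + Matrix.mulVec ((t : GL ι F) : Matrix ι ι F) v) = 0 :=
  forall_congr' fun v => by
    rw [← (isInvQ_tN hQ ht).quad, tN_apply, add_comm]
    rfl

theorem range_toLin' {ι : Type} [Fintype ι] [DecidableEq ι] {Q : QuadraticForm F (ι → F)}
    (t : IsoGrp Q) :
    LinearMap.range (Matrix.toLin' (((t : GL ι F) : Matrix ι ι F) - 1)) = LinearMap.range (tN t) := by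
  rw [tN_eq_mulVecLin]; rfl

theorem sp_alt_iff {m : ℕ} (t : Matrix.symplecticGroup (Fin m) F) :
    IsAltInv (GLOrder.sympB m F) (spN t) ↔ ∀ v : Fin m ⊕ Fin m → F,
      Cfsg.sympForm m F v (Matrix.mulVec (t : Matrix (Fin m ⊕ Fin m) (Fin m ⊕ Fin m) F) v) = 0 :=
  forall_congr' fun v => by
    rw [spN_apply, map_add, GLOrder.sympB_self, add_zero, GLOrder.sympB_eq_neg_sympForm, neg_eq_zero]

end Cfsg.Agent.Forms.Invol
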