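import Cfsg.Agent.Lib.Forms.InvolutionOrth
/-
Involutions with prescribed invariants.
* `pairMap B r σ` : `x ↦ ∑ i, B (r (σ i)) x • r i`, is `t + 1` for an involutive isometry
* `exists_isInvQ_alt`, `exists_isInvQ_nonalt` : from orthogonal families of singular / unit vectors
-/

set_option autoImplicit false

namespace Cfsg.Agent.Forms.Invol

open Module

variable {F V : Type*} [Field F] [CharP F 2] [AddCommGroup V] [Module F V]
variable (B : LinearMap.BilinForm F V) {ι : Type} [Fintype ι] [DecidableEq ι] (r : ι → V)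
  (σ : ι → ι)

/-- `t + 1` for the involution attached to the family `r` and the pairing `σ`. -/
def pairMap : V →ₗ[F] V := ∑ i, (B (r (σ i))).smulRight (r i)

omit [CharP F 2] [DecidableEq ι] in
theorem pairMap_apply (x : V) : pairMap B r σ x = ∑ i, B (r (σ i)) x • r i := by
  simp [pairMap, LinearMap.sum_apply]

variable {B r σ}

theorem isInvN_pairMap (hnd : B.Nondegenerate) (halt : B.IsAlt)
    (hrr : ∀ i j, B (r i) (r j) = 0) (hσ : ∀ i, σ (σ i) = i) : IsInvN B (pairMap B r σ) := by
  have hcomm : ∀ x y, B x y = B y x := fun x y => by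
    rw [← LinearMap.IsAlt.neg halt y x, CharTwo.neg_eq]
  refine ⟨hnd, halt, fun x => ?_, fun x y => ?_⟩
  · rw [pairMap_apply]
    refine Finset.sum_eq_zero fun i _ => ?_
    simp [pairMap_apply, hrr]
  · simp only [pairMap_apply, map_sum, LinearMap.sum_apply, map_smul, LinearMap.smul_apply,
      smul_eq_mul]
    refine Finset.sum_nbij' σ σ (by simp) (by simp) (fun a _ => hσ a) (fun a _ => hσ a) fun i _ => ?_
    rw [hσ, hcomm x, mul_comm]

omit [CharP F 2] in
theorem pairing_surjective [FiniteDimensional F V] (hnd : B.Nondegenerate)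
    (hli : LinearIndependent F r) : Function.Surjective (LinearMap.pi fun i => B (r i)) := by
  rw [← LinearMap.range_eq_top]
  refine Submodule.eq_top_of_finrank_eq ?_
  have h1 := LinearMap.finrank_range_add_finrank_ker (LinearMap.pi fun i => B (r i))
  have h2 : LinearMap.ker (LinearMap.pi fun i => B (r i))
      = B.orthogonal (Submodule.span F (Set.range r)) := by
    ext x
    simp only [LinearMap.mem_ker, funext_iff, LinearMap.pi_apply, Pi.zero_apply,
      LinearMap.BilinForm.mem_orthogonal_iff]
    constructor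
    · intro h y hy
      obtain ⟨a, rfl⟩ := (Submodule.mem_span_range_iff_exists_fun F).1 hy
      simp [LinearMap.BilinForm.IsOrtho, LinearMap.sum_apply, h]
    · exact fun h i => h (r i) (Submodule.subset_span ⟨i, rfl⟩)
  have h3 := LinearMap.BilinForm.finrank_orthogonal (B := B) hnd (Submodule.span F (Set.range r))
  have h4 := Submodule.finrank_le (Submodule.span F (Set.range r))
  have h5 := finrank_span_eq_card hli
  rw [h2, h3, h5] at h1
  rw [Module.finrank_fintype_fun_eq_card]
  omega

theorem finrank_range_pairMap [FiniteDimensional F V] (hnd : B.Nondegenerate)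
    (hli : LinearIndependent F r) (hσ : ∀ i, σ (σ i) = i) :
    finrank F (LinearMap.range (pairMap B r σ)) = Fintype.card ι := by
  have h : LinearMap.range (pairMap B r σ) = Submodule.span F (Set.range r) := by
    refine le_antisymm ?_ (Submodule.span_le.2 ?_)
    · rintro _ ⟨x, rfl⟩
      rw [pairMap_apply]
      exact Submodule.sum_mem _ fun i _ => Submodule.smul_mem _ _ (Submodule.subset_span ⟨i, rfl⟩)
    · rintro _ ⟨i, rfl⟩
      obtain ⟨x, hx⟩ := pairing_surjective hnd hli (Pi.single (σ i) 1)
      refine ⟨x, ?_⟩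
      rw [pairMap_apply]
      have hx' : ∀ j, B (r j) x = (Pi.single (σ i) 1 : ι → F) j := fun j => congrFun hx j
      simp [hx', Pi.single_apply, Function.Injective.eq_iff (Function.Involutive.injective hσ)]
  rw [h, finrank_span_eq_card hli]

theorem pair_sum (hσ : ∀ i, σ (σ i) = i) (a : ι → F) :
    ∑ i, a (σ i) * a i = ∑ i, if σ i = i then a i * a i else 0 := by
  rw [← CharTwo.add_eq_zero, ← Finset.sum_add_distrib]
  refine Finset.sum_involution (fun i _ => σ i) (fun i _ => ?_) (fun i _ h hfix => h ?_)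
    (fun i _ => Finset.mem_univ _) fun i _ => hσ i
  · by_cases h : σ i = i
    · simp [h, CharTwo.add_self_eq_zero]
    · rw [hσ, if_neg h, if_neg (fun h' => h h'.symm), add_zero, add_zero, mul_comm (a i),
        CharTwo.add_self_eq_zero]
  · simp [hfix, CharTwo.add_self_eq_zero]

theorem pairMap_self (hσ : ∀ i, σ (σ i) = i) (hB : ∀ x y, B x y = B y x) (x : V) :
    B x (pairMap B r σ x) = ∑ i, if σ i = i then B (r i) x * B (r i) x else 0 := by
  rw [pairMap_apply, ← pair_sum hσ fun i => B (r i) x]
  rw [map_sum]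
  exact Finset.sum_congr rfl fun i _ => by rw [map_smul, smul_eq_mul, hB x]

theorem isAltInv_pairMap_iff [FiniteDimensional F V] (hnd : B.Nondegenerate) (halt : B.IsAlt)
    (hli : LinearIndependent F r) (hσ : ∀ i, σ (σ i) = i) :
    IsAltInv B (pairMap B r σ) ↔ ∀ i, σ i ≠ i := by
  have hcomm : ∀ x y, B x y = B y x := fun x y => by
    rw [← LinearMap.IsAlt.neg halt y x, CharTwo.neg_eq]
  constructor
  · intro h i hi
    obtain ⟨x, hx⟩ := pairing_surjective hnd hli (Pi.single i 1)
    have hx' : ∀ j, B (r j) x = (Pi.single i 1 : ι → F) j := fun j => congrFun hx j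
    have h1 := h x
    rw [pairMap_self hσ hcomm] at h1
    rw [Finset.sum_eq_single i (fun j _ hj => by simp [hx', hj]) (by simp)] at h1
    simp [hx', hi] at h1
  · intro h x
    rw [pairMap_self hσ hcomm]
    exact Finset.sum_eq_zero fun i _ => if_neg (h i)

theorem isInvQ_pairMap {Q : QuadraticForm F V} (hnd : B.Nondegenerate) (halt : B.IsAlt)
    (hpol : ∀ x y, QuadraticMap.polar Q x y = B x y) (hrr : ∀ i j, B (r i) (r j) = 0)
    (hσ : ∀ i, σ (σ i) = i) (hQ : ∀ i, Q (r i) = if σ i = i then 1 else 0) :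
    IsInvQ B Q (pairMap B r σ) := by
  have hN := isInvN_pairMap hnd halt hrr hσ
  refine ⟨hN, hpol, fun x => ?_⟩
  rw [pairMap_self hσ hN.comm, pairMap_apply]
  generalize hc : (fun i => B (r (σ i)) x) = a
  have key : ∀ s : Finset ι, Q (∑ i ∈ s, B (r (σ i)) x • r i)
      = ∑ i ∈ s, if σ i = i then B (r i) x * B (r i) x else 0 := by
    intro s
    induction s using Finset.induction_on with
    | empty => simp
    | insert i s hi ih =>
      rw [Finset.sum_insert hi, Finset.sum_insert hi, QuadraticMap.map_add (⇑Q), hpol, ih,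
        QuadraticMap.map_smul, smul_eq_mul, hQ]
      have h0 : B (B (r (σ i)) x • r i) (∑ j ∈ s, B (r (σ j)) x • r j) = 0 := by simp [hrr]
      rw [h0, add_zero]
      congr 1
      split_ifs with h
      · rw [h, mul_one]
      · rw [mul_zero]
  exact key _

/-- An alternating involution from a totally singular family of even size. -/
theorem exists_isInvQ_alt [FiniteDimensional F V] {Q : QuadraticForm F V}
    (hnd : B.Nondegenerate) (halt : B.IsAlt) (hpol : ∀ x y, QuadraticMap.polar Q x y = B x y)
    {j : ℕ} (r : Fin j ⊕ Fin j → V) (hli : LinearIndependent F r)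
    (hrr : ∀ i i', B (r i) (r i') = 0) (hQ : ∀ i, Q (r i) = 0) :
    ∃ N : V →ₗ[F] V, IsInvQ B Q N ∧ finrank F (LinearMap.range N) = 2 * j ∧ IsAltInv B N := by
  have hfix : ∀ i : Fin j ⊕ Fin j, Sum.swap i ≠ i := fun i => by rcases i with i | i <;> simp
  refine ⟨pairMap B r Sum.swap, isInvQ_pairMap hnd halt hpol hrr Sum.swap_swap fun i => by
    rw [hQ, if_neg (hfix i)], ?_, (isAltInv_pairMap_iff hnd halt hli Sum.swap_swap).2 hfix⟩
  rw [finrank_range_pairMap hnd hli Sum.swap_swap]
  simp [two_mul]

/-- A non-alternating involution from a family of orthogonal unit vectors. -/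
theorem exists_isInvQ_nonalt [FiniteDimensional F V] {Q : QuadraticForm F V}
    (hnd : B.Nondegenerate) (halt : B.IsAlt) (hpol : ∀ x y, QuadraticMap.polar Q x y = B x y)
    {s : ℕ} (hs : 1 ≤ s) (r : Fin s → V) (hli : LinearIndependent F r)
    (hrr : ∀ i i', B (r i) (r i') = 0) (hQ : ∀ i, Q (r i) = 1) :
    ∃ N : V →ₗ[F] V, IsInvQ B Q N ∧ finrank F (LinearMap.range N) = s ∧ ¬ IsAltInv B N := by
  refine ⟨pairMap B r id, isInvQ_pairMap hnd halt hpol hrr (fun _ => rfl) fun i => by
    rw [hQ]; simp, ?_, fun h => ?_⟩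
  · rw [finrank_range_pairMap hnd hli (fun _ => rfl), Fintype.card_fin]
  · exact (isAltInv_pairMap_iff hnd halt hli (fun _ => rfl)).1 h ⟨0, hs⟩ rfl

end Cfsg.Agent.Forms.Invol
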