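import Cfsg.Agent.Lib.Forms.InvolutionExist
import Cfsg.Agent.Lib.Forms.Families
import Cfsg.Agent.Lib.Orth.Spinor
import Cfsg.Agent.Lib.Orth.Models
/-
Involutions in `O(Q)` and `Ω(Q)` in characteristic two.
* `tN g` : `g + 1`; `isConj_iff_inv` : classes in `O(Q)`; `exists_iso_of_invQ`
* `mem_omega_iff_dick`, `reflGen_eq_top_of_index` : `Ω` is the kernel of the Dickson invariant
* `dick_eq_pow_inf` : the Dickson invariant and the two families of maximal singular subspaces
* `dick_tN`, `exists_omega_conj`, `omega_conj_iff` : splitting of classes in `Ω`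
* `card_classes_of_reps` : counting classes
-/

set_option autoImplicit false
set_option linter.unusedSectionVars false

namespace Cfsg.Agent.Forms.Invol

open Module Cfsg Cfsg.Agent.Orth
open QuadraticMap (polar)

theorem card_classes_of_reps {G α : Type*} [Group G] (P : G → Prop) (rep : α → G)
    (hP : ∀ a, P (rep a)) (hinj : ∀ a b, IsConj (rep a) (rep b) → a = b)
    (hsurj : ∀ g, P g → ∃ a, IsConj (rep a) g) :
    Nat.card {C : ConjClasses G // ∃ g : G, ConjClasses.mk g = C ∧ P g} = Nat.card α := by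
  symm
  refine Nat.card_eq_of_bijective (fun a => ⟨ConjClasses.mk (rep a), rep a, rfl, hP a⟩) ⟨?_, ?_⟩
  · intro a b h
    exact hinj a b (ConjClasses.mk_eq_mk_iff_isConj.1 (congrArg Subtype.val h))
  · rintro ⟨C, g, rfl, hg⟩
    obtain ⟨a, ha⟩ := hsurj g hg
    exact ⟨a, Subtype.ext (ConjClasses.mk_eq_mk_iff_isConj.2 ha)⟩

/-- The classes of involutions when a rank and a flag form a complete invariant. -/
theorem card_classes_inv {G : Type*} [Group G] (P : G → Prop) (rk : G → ℕ) (al : G → Prop)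
    (d e a k : ℕ) (hd : 0 < d) (he : 0 < e)
    (hconj : ∀ g h, P g → P h → (IsConj g h ↔ rk g = rk h ∧ (al g ↔ al h)))
    (hna : ∀ s, 1 ≤ s → s ≤ a → ∃ g, P g ∧ rk g = d * s ∧ ¬ al g)
    (hal : ∀ j, 1 ≤ j → j ≤ k → ∃ g, P g ∧ rk g = e * j ∧ al g)
    (hbd : ∀ g, P g → (¬ al g → ∃ s, 1 ≤ s ∧ s ≤ a ∧ rk g = d * s) ∧
      (al g → ∃ j, 1 ≤ j ∧ j ≤ k ∧ rk g = e * j)) :
    Nat.card {C : ConjClasses G // ∃ g : G, ConjClasses.mk g = C ∧ P g} = a + k := by
  choose x hx using fun i : Fin a => hna ((i : ℕ) + 1) (by omega) (by omega)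
  choose y hy using fun i : Fin k => hal ((i : ℕ) + 1) (by omega) (by omega)
  have hrep : ∀ i, P (Sum.elim x y i) := fun i => by
    rcases i with i | i
    exacts [(hx i).1, (hy i).1]
  rw [card_classes_of_reps P (Sum.elim x y) hrep ?_ ?_]
  · simp
  · intro i j h
    obtain ⟨h1, h2⟩ := (hconj _ _ (hrep i) (hrep j)).1 h
    rcases i with i | i <;> rcases j with j | j <;> simp only [Sum.elim_inl, Sum.elim_inr] at h1 h2
    · rw [(hx i).2.1, (hx j).2.1] at h1
      exact congrArg Sum.inl (Fin.ext (by simpa using Nat.eq_of_mul_eq_mul_left hd h1))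
    · exact absurd (h2.2 (hy j).2.2) (hx i).2.2
    · exact absurd (h2.1 (hy i).2.2) (hx j).2.2
    · rw [(hy i).2.1, (hy j).2.1] at h1
      exact congrArg Sum.inr (Fin.ext (by simpa using Nat.eq_of_mul_eq_mul_left he h1))
  · intro g hg
    by_cases h : al g
    · obtain ⟨j, hj1, hj, hj'⟩ := (hbd g hg).2 h
      refine ⟨.inr ⟨j - 1, by omega⟩, (hconj _ _ (hrep _) hg).2 ⟨?_, iff_of_true (hy _).2.2 h⟩⟩
      show rk (y _) = _
      rw [(hy _).2.1, hj', show j - 1 + 1 = j by omega]
    · obtain ⟨j, hj1, hj, hj'⟩ := (hbd g hg).1 h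
      refine ⟨.inl ⟨j - 1, by omega⟩, (hconj _ _ (hrep _) hg).2 ⟨?_, iff_of_false (hx _).2.2 h⟩⟩
      show rk (x _) = _
      rw [(hx _).2.1, hj', show j - 1 + 1 = j by omega]

variable {ι : Type} [Fintype ι] [DecidableEq ι] {F : Type*} [Field F] [CharP F 2]
variable {Q : QuadraticForm F (ι → F)}

/-- `g + 1`. -/
def tN (g : IsoGrp Q) : (ι → F) →ₗ[F] (ι → F) := ap g + 1

theorem tN_apply (g : IsoGrp Q) (x : ι → F) : tN g x = ap g x + x := rfl

theorem tN_eq_sub (g : IsoGrp Q) : tN g = ap g - LinearMap.id := by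
  refine LinearMap.ext fun x => funext fun i => ?_
  show ap g x i + x i = ap g x i - x i
  rw [CharTwo.sub_eq_add]

theorem tN_eq_mulVecLin (g : IsoGrp Q) :
    tN g = Matrix.mulVecLin (((g : GL ι F) : Matrix ι ι F) - 1) := by
  rw [tN_eq_sub]
  refine LinearMap.ext fun x => ?_
  simp [ap_apply, Matrix.sub_mulVec]

theorem rank_eq_tN (g : IsoGrp Q) :
    (((g : GL ι F) : Matrix ι ι F) - 1).rank = finrank F (LinearMap.range (tN g)) := by
  rw [tN_eq_mulVecLin]; rfl

theorem dick_tN (g : IsoGrp Q) : dick g = (-1) ^ finrank F (LinearMap.range (tN g)) := by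
  rw [dick, resSpace, tN_eq_sub]

theorem ap_ap_of_sq {g : IsoGrp Q} (hg : g * g = 1) (x : ι → F) : ap g (ap g x) = x := by
  rw [← ap_mul, hg, ap_one]

theorem isInvQ_tN (hQ : Q.polarBilin.Nondegenerate) {g : IsoGrp Q} (hg : g * g = 1) :
    IsInvQ Q.polarBilin Q (tN g) := isInvQ_of Q hQ (ap g) (ap_ap_of_sq hg) (Q_ap g)

/-- An element of `O(Q)` from a linear isometry. -/
theorem exists_iso_of_equiv (h : (ι → F) ≃ₗ[F] (ι → F)) (hh : ∀ x, Q (h x) = Q x) :
    ∃ g : IsoGrp Q, ∀ x, ap g x = h x := by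
  refine ⟨(isometryGroupEquiv (⇑Q)).symm ⟨h, hh⟩, fun x => ?_⟩
  rw [ap_apply, ← isometryGroupEquiv_apply, MulEquiv.apply_symm_apply]

theorem exists_iso_of_invQ {N : (ι → F) →ₗ[F] (ι → F)} (hN : IsInvQ Q.polarBilin Q N) :
    ∃ g : IsoGrp Q, g * g = 1 ∧ tN g = N := by
  have hinv : ∀ x, N (N x + x) + (N x + x) = x := fun x => by
    rw [map_add, hN.sq, zero_add, ← add_assoc, vec_add_self F, zero_add]
  have hl : (N + 1).comp (N + 1) = LinearMap.id := LinearMap.ext hinv
  obtain ⟨g, hg⟩ := exists_iso_of_equiv (LinearEquiv.ofLinearMap (N + 1) (N + 1) hl hl) fun x => by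
    show Q (N x + x) = Q x
    rw [hN.map_add', hN.quad, hN.comm (N x) x, add_right_comm, CharTwo.add_self_eq_zero, zero_add]
  have hg' : ∀ x, ap g x = N x + x := hg
  refine ⟨g, ext_ap fun x => ?_, LinearMap.ext fun x => ?_⟩
  · rw [ap_mul, hg', hg', ap_one]
    exact hinv x
  · rw [tN_apply, hg', add_assoc, vec_add_self F, add_zero]

theorem eq_one_iff_tN (g : IsoGrp Q) : g = 1 ↔ finrank F (LinearMap.range (tN g)) = 0 := by
  constructor
  · rintro rfl
    rw [Submodule.finrank_eq_zero, LinearMap.range_eq_bot]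
    exact LinearMap.ext fun x => by rw [tN_apply, ap_one, vec_add_self F]; rfl
  · intro h
    rw [Submodule.finrank_eq_zero, LinearMap.range_eq_bot] at h
    refine ext_ap fun x => ?_
    have h1 : tN g x = 0 := by rw [h]; rfl
    rw [tN_apply] at h1
    rw [ap_one, eq_neg_of_add_eq_zero_left h1]
    exact funext fun i => CharTwo.neg_eq (x i)

theorem orderOf_eq_two_iff (g : IsoGrp Q) :
    orderOf g = 2 ↔ g * g = 1 ∧ 1 ≤ finrank F (LinearMap.range (tN g)) := by
  haveI : Fact (Nat.Prime 2) := ⟨Nat.prime_two⟩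
  rw [orderOf_eq_prime_iff, pow_two, Nat.one_le_iff_ne_zero, Ne, Ne, ← eq_one_iff_tN]

theorem tN_conj {g t s : IsoGrp Q} (h : g * t * g⁻¹ = s) (x : ι → F) :
    tN s (ap g x) = ap g (tN t x) := by
  rw [tN_apply, tN_apply, map_add, ← ap_mul, ← ap_mul, ← h, inv_mul_cancel_right]

theorem range_tN_conj {g t s : IsoGrp Q} (h : g * t * g⁻¹ = s) :
    LinearMap.range (tN s) = (LinearMap.range (tN t)).map (ap g) := by
  ext y
  constructor
  · rintro ⟨x, rfl⟩
    exact ⟨tN t (ap g⁻¹ x), ⟨_, rfl⟩, by rw [← tN_conj h, ap_ap_inv]⟩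
  · rintro ⟨_, ⟨x, rfl⟩, rfl⟩
    exact ⟨ap g x, tN_conj h x⟩

theorem finrank_map_ap (g : IsoGrp Q) (U : Submodule F (ι → F)) :
    finrank F (U.map (ap g)) = finrank F U :=
  (Submodule.equivMapOfInjective _ (fun _ _ h => ap_inj g h) U).finrank_eq.symm

/-- Conjugacy of involutions of `O(Q)`. -/
theorem isConj_iff_inv [Finite F] (hQ : Q.polarBilin.Nondegenerate) {t s : IsoGrp Q}
    (ht : t * t = 1) (hs : s * s = 1) :
    IsConj t s ↔ finrank F (LinearMap.range (tN t)) = finrank F (LinearMap.range (tN s)) ∧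
      (IsAltInv Q.polarBilin (tN t) ↔ IsAltInv Q.polarBilin (tN s)) := by
  constructor
  · intro h
    obtain ⟨g, hg⟩ := isConj_iff.1 h
    refine ⟨by rw [range_tN_conj hg, finrank_map_ap], ?_, ?_⟩
    · intro ha x
      rw [← ap_ap_inv g x, tN_conj hg, QuadraticMap.polarBilin_apply_apply, polar_ap]
      exact ha _
    · intro ha x
      have := ha (ap g x)
      rwa [tN_conj hg, QuadraticMap.polarBilin_apply_apply, polar_ap] at this
  · rintro ⟨h1, h2⟩
    obtain ⟨h, hh, hhN⟩ := exists_intertwiner_orth (isInvQ_tN hQ ht) (isInvQ_tN hQ hs) h1 h2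
    obtain ⟨g, hg⟩ := exists_iso_of_equiv h hh
    refine isConj_iff.2 ⟨g, mul_inv_eq_iff_eq_mul.2 (ext_ap fun x => ?_)⟩
    have := hhN x
    simp only [tN_apply, map_add, ← hg] at this
    simp only [ap_mul]
    exact add_right_cancel this

/-! ### `Ω` -/

theorem reflGen_eq_top_of_index (hQ : Q.polarBilin.Nondegenerate)
    (hidx : ∀ U : Submodule F (ι → F), (∀ u ∈ U, Q u = 0) → 2 * finrank F U < Fintype.card ι) :
    reflGen Q = ⊤ := by
  suffices H : ∀ d, ∀ g : IsoGrp Q, finrank F (resSpace g) = d → g ∈ reflGen Q from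
    eq_top_iff.2 fun g _ => H _ g rfl
  intro d
  induction d using Nat.strong_induction_on with
  | _ d ih => ?_
  intro g hd
  by_cases hns : ∃ z ∈ resSpace g, Q z ≠ 0
  · obtain ⟨z, hz, hQz⟩ := hns
    refine mem_reflGen_of_refl_mul (v := z) (ih _ ?_ _ rfl)
    have := finrank_resSpace_refl_mul_add_one hQ hQz hz
    omega
  push Not at hns
  by_cases hbot : resSpace g = ⊥
  · rw [eq_one_of_resSpace_eq_bot hbot]; exact one_mem _
  obtain ⟨v, hv, hQv⟩ : ∃ v ∈ LinearMap.ker (ap g - LinearMap.id), Q v ≠ 0 := by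
    by_contra! hall
    have h1 := hidx _ hall
    have h2 := hidx _ hns
    have h3 := finrank_resSpace_add_fix g
    omega
  have hvfix : ap g v = v := by simpa [sub_eq_zero] using hv
  obtain ⟨w, hw, hw0⟩ := (Submodule.ne_bot_iff _).1 hbot
  obtain ⟨v1, v2, hle, z, hz, hQz⟩ := exists_step hQ hns hQv hw (polar_fix_resSpace hvfix hw) hw0
    (by rwa [hvfix, sub_self, add_zero])
  refine mem_reflGen_of_refl_mul (v := v1) (mem_reflGen_of_refl_mul (v := v2)
    (mem_reflGen_of_refl_mul (v := z) (ih _ ?_ _ rfl)))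
  have := finrank_resSpace_refl_mul_add_one hQ hQz hz
  omega

theorem gen_induction (hgen : reflGen Q = ⊤) {P : IsoGrp Q → Prop} (one : P 1)
    (mul : ∀ v g, Q v ≠ 0 → P g → P (refl Q v * g)) (g : IsoGrp Q) : P g := by
  have hg : g ∈ reflGen Q := hgen ▸ Subgroup.mem_top g
  induction hg using Subgroup.closure_induction_left with
  | one => exact one
  | mul_left x hx y _ ih =>
    obtain ⟨v, rfl⟩ := hx
    by_cases hv : Q v = 0
    · rwa [refl_eq_one Q hv, one_mul]
    · exact mul v y hv ih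
  | inv_mul_cancel x hx y _ ih =>
    obtain ⟨v, rfl⟩ := hx
    rw [refl_inv]
    by_cases hv : Q v = 0
    · rwa [refl_eq_one Q hv, one_mul]
    · exact mul v y hv ih

theorem dick_mul_of_gen (hQ : Q.polarBilin.Nondegenerate) (hgen : reflGen Q = ⊤) (g h : IsoGrp Q) :
    dick (g * h) = dick g * dick h := by
  induction g using gen_induction hgen with
  | one => rw [one_mul, dick_one, one_mul]
  | mul v g hv ih => rw [mul_assoc, dick_refl_mul hQ _ hv, dick_refl_mul hQ _ hv, ih, neg_mul]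

theorem refl_mul_refl_mem_omega [Finite F] (hQ : Q.polarBilin.Nondegenerate) {u v : ι → F}
    (hu : Q u ≠ 0) (hv : Q v ≠ 0) : refl Q u * refl Q v ∈ Omega F ⇑Q := by
  obtain ⟨c, hc⟩ := exists_mul_self (Q u / Q v)
  have hc0 : c ≠ 0 := fun h => div_ne_zero hu hv (by rw [← hc, h, mul_zero])
  rw [← refl_smul Q hc0 v]
  have hQv : Q (c • v) = Q u := by rw [Q_smul, hc, div_mul_cancel₀ _ hv]
  obtain ⟨z, hz⟩ := exists_polar_ne hQ (x := u) fun h => hu (by rw [h, QuadraticMap.map_zero])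
  obtain ⟨φ, hφ⟩ : ∃ φ : (ι → F) →ₗ[F] F, φ u = 1 :=
    ⟨(polar (⇑Q) u z)⁻¹ • Q.polarBilin z, by simp [pl_comm Q z u, hz]⟩
  have hmem : ∀ x ∈ (F ∙ u), ∃ a : F, x = a • u := fun x hx => by
    obtain ⟨a, rfl⟩ := Submodule.mem_span_singleton.1 hx
    exact ⟨a, rfl⟩
  obtain ⟨h, hh, hhX⟩ := witt_quadratic_map Q hQ (F ∙ u) (φ.smulRight (c • v))
    (fun x hx h0 => by
      obtain ⟨a, rfl⟩ := hmem x hx
      simp [hφ] at h0
      rcases h0 with rfl | h0 | h0
      · simp
      · exact absurd h0 hc0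
      · exact absurd (by rw [h0, QuadraticMap.map_zero]) hv)
    (fun x hx => by
      obtain ⟨a, rfl⟩ := hmem x hx
      show Q (φ (a • u) • (c • v)) = _
      rw [map_smul φ, hφ, smul_eq_mul, mul_one, Q_smul, hQv, Q_smul])
  obtain ⟨g, hg⟩ := exists_iso_of_equiv h hh
  have hgu : ap g u = c • v := by
    rw [hg, hhX u (Submodule.mem_span_singleton_self u)]
    simp [hφ]
  rw [← hgu]
  exact refl_mul_refl_ap_mem_omega g u

theorem mem_omega_iff_dick [Finite F] (hQ : Q.polarBilin.Nondegenerate) (hgen : reflGen Q = ⊤)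
    {v₀ : ι → F} (hv₀ : Q v₀ ≠ 0) (g : IsoGrp Q) : g ∈ Omega F ⇑Q ↔ dick g = 1 := by
  let χ : IsoGrp Q →* ℤ :=
    { toFun := dick, map_one' := dick_one, map_mul' := dick_mul_of_gen hQ hgen }
  have h1 : ∀ g, g ∈ Omega F ⇑Q → dick g = 1 := fun g hg => by
    have h := Abelianization.commutator_subset_ker χ.toHomUnits hg
    exact congrArg Units.val (MonoidHom.mem_ker.1 h)
  refine ⟨h1 g, fun hd => ?_⟩
  have h2 : g ∈ Omega F ⇑Q ∨ refl Q v₀ * g ∈ Omega F ⇑Q := by
    clear hd
    induction g using gen_induction hgen with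
    | one => exact Or.inl (one_mem _)
    | mul v g hv ih =>
      rcases ih with h | h
      · refine Or.inr ?_
        rw [← mul_assoc]
        exact mul_mem (refl_mul_refl_mem_omega hQ hv₀ hv) h
      · refine Or.inl ?_
        rw [show refl Q v * g = refl Q v * refl Q v₀ * (refl Q v₀ * g) by
          rw [mul_assoc, ← mul_assoc (refl Q v₀), refl_mul_self, one_mul]]
        exact mul_mem (refl_mul_refl_mem_omega hQ hv hv₀) h
  refine h2.resolve_right fun h => ?_
  have h3 := h1 _ h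
  rw [dick_refl_mul hQ g hv₀, hd] at h3
  norm_num at h3

/-- The Dickson invariant from a maximal singular subspace and its image. -/
theorem dick_eq_pow_inf (hQ : Q.polarBilin.Nondegenerate) (hgen : reflGen Q = ⊤) {m : ℕ}
    (hn : Fintype.card ι = 2 * m) (U : Submodule F (ι → F))
    (hU : finrank F U = m ∧ ∀ u ∈ U, Q u = 0) (g : IsoGrp Q) :
    dick g = (-1) ^ (m - finrank F ↥(U ⊓ U.map (ap g))) := by
  induction g using gen_induction hgen generalizing U with
  | one =>
    rw [show ap (1 : IsoGrp Q) = LinearMap.id from LinearMap.ext ap_one, Submodule.map_id, inf_idem,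
      hU.1, Nat.sub_self, pow_zero, dick_one]
  | mul v g hv ih =>
    have hmap : ∀ (g : IsoGrp Q) (U : Submodule F (ι → F)), (finrank F U = m ∧ ∀ u ∈ U, Q u = 0) →
        finrank F (U.map (ap g)) = m ∧ ∀ u ∈ U.map (ap g), Q u = 0 := by
      intro g U hU
      refine ⟨by rw [finrank_map_ap, hU.1], ?_⟩
      rintro _ ⟨x, hx, rfl⟩
      rw [Q_ap, hU.2 x hx]
    set W := U.map (ap g) with hW
    have hW' := hmap g U hU
    rw [← hW] at hW'
    set X := W.map (ap (refl Q v)) with hX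
    have hX' := hmap (refl Q v) W hW'
    rw [← hX] at hX'
    have hUX : U.map (ap (refl Q v * g)) = X := by
      rw [hX, hW, ← Submodule.map_comp]
      congr 1
      exact LinearMap.ext fun x => ap_mul _ _ x
    -- a reflection moves a maximal singular subspace onto an adjacent one
    have hWX : m - finrank F ↥(W ⊓ X) = 1 := by
      have hm := hW'.1
      have hsub : W ⊓ LinearMap.ker (Q.polarBilin v) ≤ W ⊓ X := fun x hx =>
        ⟨hx.1, ⟨x, hx.1, refl_ap_of_orth Q hx.2⟩⟩
      have h1 := Submodule.finrank_mono hsub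
      have h5 := Submodule.finrank_sup_add_finrank_inf_eq W (LinearMap.ker (Q.polarBilin v))
      have h6 := Submodule.finrank_le (W ⊔ LinearMap.ker (Q.polarBilin v))
      have h7 := LinearMap.finrank_range_add_finrank_ker (Q.polarBilin v)
      have h8 := Submodule.finrank_le (LinearMap.range (Q.polarBilin v))
      rw [finrank_space] at h6 h7
      rw [Module.finrank_self] at h8
      have hne : W ⊓ X ≠ W := by
        intro h
        have hmem : ∀ x ∈ W, polar (⇑Q) v x = 0 := by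
          intro x hx
          have hxX : x ∈ X := (h.symm ▸ hx : x ∈ W ⊓ X).2
          obtain ⟨y, hy, hyx⟩ := hxX
          by_contra hne
          rw [refl_ap] at hyx
          have hvW : ((Q v)⁻¹ * polar (⇑Q) v y) • v ∈ W := by
            rw [show ((Q v)⁻¹ * polar (⇑Q) v y) • v = y - x by rw [← hyx, sub_sub_cancel]]
            exact W.sub_mem hy hx
          rcases eq_or_ne ((Q v)⁻¹ * polar (⇑Q) v y) 0 with h0 | h0
          · rw [h0, zero_smul, sub_zero] at hyx
            subst hyx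
            exact hne ((mul_eq_zero.1 h0).resolve_left (inv_ne_zero hv))
          · refine hv (hW'.2 v ?_)
            have := W.smul_mem ((Q v)⁻¹ * polar (⇑Q) v y)⁻¹ hvW
            rwa [smul_smul, inv_mul_cancel₀ h0, one_smul] at this
        have hperp : v ∈ LinearMap.BilinForm.orthogonal Q.polarBilin W := fun x hx => by
          show polar (⇑Q) x v = 0
          rw [pl_comm, hmem x hx]
        rw [orthogonal_eq_self_of_half Q hQ W hW'.2 (by rw [finrank_space, hn, hm])] at hperp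
        exact hv (hW'.2 v hperp)
      have h9 : finrank F ↥(W ⊓ X) < finrank F W :=
        Submodule.finrank_lt_finrank_of_lt (lt_of_le_of_ne inf_le_left hne)
      omega
    have h := even_three_maximal Q hQ (m := m) (by rw [finrank_space, hn]) U W X hU hW' hX'
    rw [hWX] at h
    rw [hUX, dick_refl_mul hQ g hv, ih U hU, ← hW]
    rcases Nat.even_or_odd (m - finrank F ↥(U ⊓ W)) with h1 | h1 <;>
      rcases Nat.even_or_odd (m - finrank F ↥(U ⊓ X)) with h2 | h2 <;>
      simp_all [Nat.even_add, Nat.not_even_iff_odd, Even.neg_one_pow, Odd.neg_one_pow] <;>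
      grind

/-- A nonsingular fixed vector, except for the alternating involutions of full rank. -/
theorem exists_fixed_nonsingular (hQ : Q.polarBilin.Nondegenerate) {m : ℕ}
    (hn : Fintype.card ι = 2 * m) {t : IsoGrp Q} (ht : t * t = 1)
    (h : ¬ (finrank F (LinearMap.range (tN t)) = m ∧ IsAltInv Q.polarBilin (tN t))) :
    ∃ v, ap t v = v ∧ Q v ≠ 0 := by
  by_contra! hall
  have hN := isInvQ_tN hQ ht
  have hker : ∀ x ∈ LinearMap.ker (tN t), Q x = 0 := fun x hx => hall x (by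
    rw [LinearMap.mem_ker, tN_apply] at hx
    rw [eq_neg_of_add_eq_zero_left hx]
    exact funext fun i => CharTwo.neg_eq (x i))
  have h1 := two_mul_finrank_singular_le Q hQ _ hker
  have h2 := LinearMap.finrank_range_add_finrank_ker (tN t)
  have h3 := hN.toIsInvN.two_mul_rank_le
  rw [finrank_space] at h1 h2 h3
  refine h ⟨by omega, fun x => ?_⟩
  rw [← hN.quad]
  exact hker _ (LinearMap.mem_ker.2 (hN.sq x))

theorem exists_omega_conj [Finite F] (hQ : Q.polarBilin.Nondegenerate) (hgen : reflGen Q = ⊤)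
    {t s g : IsoGrp Q} (hg : g * t * g⁻¹ = s) {v : ι → F} (hvt : ap t v = v) (hv : Q v ≠ 0) :
    ∃ g' ∈ Omega F ⇑Q, g' * t * g'⁻¹ = s := by
  rcases dick_eq_or g with h | h
  · exact ⟨g, (mem_omega_iff_dick hQ hgen hv g).2 h, hg⟩
  refine ⟨g * refl Q v, (mem_omega_iff_dick hQ hgen hv _).2 ?_, ?_⟩
  · rw [dick_mul_of_gen hQ hgen, h, dick_refl hQ hv]; norm_num
  · have hcomm : refl Q v * t = t * refl Q v := by rw [mul_refl, hvt]
    rw [_root_.mul_inv_rev, ← hg, refl_inv, show g * refl Q v * t = g * t * refl Q v by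
      rw [mul_assoc, hcomm, mul_assoc]]
    rw [mul_assoc (g * t), ← mul_assoc (refl Q v), refl_mul_self, one_mul]

/-- Conjugacy under `Ω` of the alternating involutions of full rank. -/
theorem omega_conj_iff [Finite F] (hQ : Q.polarBilin.Nondegenerate) (hgen : reflGen Q = ⊤) {m : ℕ}
    (hn : Fintype.card ι = 2 * m) (hm : Even m) {v₀ : ι → F} (hv₀ : Q v₀ ≠ 0) {t s g : IsoGrp Q}
    (hg : g * t * g⁻¹ = s) (ht : t * t = 1) (hrk : finrank F (LinearMap.range (tN t)) = m)
    (ha : IsAltInv Q.polarBilin (tN t)) :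
    (∃ g' ∈ Omega F ⇑Q, g' * t * g'⁻¹ = s) ↔
      Even (finrank F ↥(LinearMap.range (tN t) ⊓ LinearMap.range (tN s))) := by
  have hsing : ∀ u ∈ LinearMap.range (tN t), Q u = 0 := by
    rintro _ ⟨x, rfl⟩
    rw [(isInvQ_tN hQ ht).quad]
    exact ha x
  have hd : ∀ g : IsoGrp Q, g * t * g⁻¹ = s →
      dick g = (-1) ^ (m - finrank F ↥(LinearMap.range (tN t) ⊓ LinearMap.range (tN s))) :=
    fun g hg => by
      rw [range_tN_conj hg]
      exact dick_eq_pow_inf hQ hgen hn _ ⟨hrk, hsing⟩ g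
  have hle : finrank F ↥(LinearMap.range (tN t) ⊓ LinearMap.range (tN s)) ≤ m :=
    hrk ▸ Submodule.finrank_mono inf_le_left
  have hev : Even (m - finrank F ↥(LinearMap.range (tN t) ⊓ LinearMap.range (tN s))) ↔
      Even (finrank F ↥(LinearMap.range (tN t) ⊓ LinearMap.range (tN s))) := by
    rw [Nat.even_sub hle]; simp [hm]
  constructor
  · rintro ⟨g', hg'O, hg'⟩
    have h := (mem_omega_iff_dick hQ hgen hv₀ g').1 hg'O
    rw [hd g' hg', neg_one_pow_eq_one_iff_even (by norm_num)] at h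
    exact hev.1 h
  · intro h
    exact ⟨g, (mem_omega_iff_dick hQ hgen hv₀ g).2
      (by rw [hd g hg, Even.neg_one_pow (hev.2 h)]), hg⟩

end Cfsg.Agent.Forms.Invol
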