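import Cfsg.Agent.Lib.Forms.InvolutionGroup
import Cfsg.Agent.Lib.GLOrder.Symplectic
import Cfsg.Agent.S2617
/-
Involutions of `Sp_2m`, `O^±_2m`, `Ω^±_2m` in characteristic two.
* `plus_nonalt`, `plus_alt`, `minus_nonalt`, `minus_alt` : representatives
* `minus_singular_lt`, `plus_gen`, `minus_gen`
* `spN`, `sp_isConj_iff` : the symplectic group
* `card_orth_classes`, `card_omega_classes` : counting, from the representatives
-/

set_option autoImplicit false
set_option linter.unusedSectionVars false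

namespace Cfsg.Agent.Forms.Invol

open Module Cfsg Cfsg.Agent.Orth
open QuadraticMap (polar)

universe uF

variable {F : Type uF} [Field F] [CharP F 2]

theorem halt_polarBilin {V : Type*} [AddCommGroup V] [Module F V] (Q : QuadraticForm F V) :
    LinearMap.BilinForm.IsAlt (QuadraticMap.polarBilin Q) := fun x => by
  rw [QuadraticMap.polarBilin_apply_apply, QuadraticMap.polar_self, two_nsmul,
    CharTwo.add_self_eq_zero]

theorem plus_nonalt [Finite F] {m s : ℕ} (h1 : 1 ≤ s) (hs : s ≤ m) :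
    ∃ t : IsoGrp (quadPlus m F), t * t = 1 ∧ finrank F (LinearMap.range (tN t)) = s ∧
      ¬ IsAltInv (quadPlus m F).polarBilin (tN t) := by
  classical
  let r : Fin s → (Fin m ⊕ Fin m → F) := fun i =>
    Pi.single (.inl (Fin.castLE hs i)) 1 + Pi.single (.inr (Fin.castLE hs i)) 1
  have hli : LinearIndependent F r := by
    rw [Fintype.linearIndependent_iff]
    intro g hg i
    have := congrFun hg (.inl (Fin.castLE hs i))
    simpa [r, Finset.sum_apply, Pi.single_apply] using this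
  obtain ⟨N, hN, hrk, hna⟩ := exists_isInvQ_nonalt (quadPlus_nondeg m) (halt_polarBilin _)
    (fun x y => rfl) h1 r hli (fun i i' => by
      rw [QuadraticMap.polarBilin_apply_apply, coe_quadPlus, polar_quadPlus]
      by_cases h : i = i'
      · subst h; simp [r, Pi.single_apply, Finset.sum_add_distrib, CharTwo.add_self_eq_zero]
      · simp [r, Pi.single_apply, Finset.sum_add_distrib, h, Ne.symm h, Fin.castLE_inj])
    fun i => by
      rw [coe_quadPlus]
      simp [r, quadFormPlus, Pi.single_apply]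
  obtain ⟨g, hg, hgN⟩ := exists_iso_of_invQ hN
  exact ⟨g, hg, by rw [hgN, hrk], by rw [hgN]; exact hna⟩

theorem plus_alt [Finite F] {m j : ℕ} (hj : 2 * j ≤ m) :
    ∃ t : IsoGrp (quadPlus m F), t * t = 1 ∧ finrank F (LinearMap.range (tN t)) = 2 * j ∧
      IsAltInv (quadPlus m F).polarBilin (tN t) := by
  classical
  let c : Fin j ⊕ Fin j → Fin m := fun i => Fin.castLE (by omega) (finSumFinEquiv i : Fin (j + j))
  have hc : Function.Injective c := fun a b h =>
    finSumFinEquiv.injective (Fin.castLE_injective _ h)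
  let r : Fin j ⊕ Fin j → (Fin m ⊕ Fin m → F) := fun i => Pi.single (.inl (c i)) 1
  have hli : LinearIndependent F r :=
    (Pi.basisFun F (Fin m ⊕ Fin m)).linearIndependent.comp _ (Sum.inl_injective.comp hc) |>
      fun h => by convert h using 1; funext i; simp [r]
  obtain ⟨N, hN, hrk, ha⟩ := exists_isInvQ_alt (quadPlus_nondeg m) (halt_polarBilin _)
    (fun x y => rfl) r hli (fun i i' => by
      rw [QuadraticMap.polarBilin_apply_apply, coe_quadPlus, polar_quadPlus]
      simp [r])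
    fun i => by rw [coe_quadPlus]; simp [r, quadFormPlus]
  obtain ⟨g, hg, hgN⟩ := exists_iso_of_invQ hN
  exact ⟨g, hg, by rw [hgN, hrk], by rw [hgN]; exact ha⟩

theorem minus_nonalt [Finite F] {k s : ℕ} {a b : F} (hab : Orth.Aniso a b) (h1 : 1 ≤ s)
    (hs : s ≤ k + 1) :
    ∃ t : IsoGrp (quadMinus k F a b), t * t = 1 ∧ finrank F (LinearMap.range (tN t)) = s ∧
      ¬ IsAltInv (quadMinus k F a b).polarBilin (tN t) := by
  classical
  let r₁ : Fin (k + 1) → ((Fin k ⊕ Fin k) ⊕ Fin 2 → F) := fun i =>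
    Fin.lastCases (Pi.single (.inr 0) 1)
      (fun i => Pi.single (.inl (.inl i)) 1 + Pi.single (.inl (.inr i)) 1) i
  let r : Fin s → ((Fin k ⊕ Fin k) ⊕ Fin 2 → F) := fun i => r₁ (Fin.castLE hs i)
  have hli₁ : LinearIndependent F r₁ := by
    rw [Fintype.linearIndependent_iff]
    intro g hg i
    refine Fin.lastCases ?_ (fun i => ?_) i
    · have := congrFun hg (.inr 0)
      simpa [r₁, Fin.sum_univ_castSucc, Finset.sum_apply] using this
    · have := congrFun hg (.inl (.inl i))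
      simpa [r₁, Fin.sum_univ_castSucc, Finset.sum_apply, Pi.single_apply] using this
  have hrr : ∀ i i', (quadMinus k F a b).polarBilin (r₁ i) (r₁ i') = 0 := by
    intro i i'
    rw [QuadraticMap.polarBilin_apply_apply, coe_quadMinus, polar_quadMinus]
    refine Fin.lastCases ?_ (fun i => ?_) i <;> refine Fin.lastCases ?_ (fun i' => ?_) i'
    · simp [r₁, CharTwo.two_eq_zero]
    · simp [r₁]
    · simp [r₁]
    · by_cases h : i = i'
      · subst h; simp [r₁, Pi.single_apply, Finset.sum_add_distrib, CharTwo.add_self_eq_zero]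
      · simp [r₁, Pi.single_apply, Finset.sum_add_distrib, h, Ne.symm h]
  have hQ : ∀ i, quadMinus k F a b (r₁ i) = 1 := by
    intro i
    rw [coe_quadMinus]
    refine Fin.lastCases ?_ (fun i => ?_) i <;> simp [r₁, quadFormMinus, Pi.single_apply]
  obtain ⟨N, hN, hrk, hna⟩ := exists_isInvQ_nonalt (quadMinus_nondeg k hab) (halt_polarBilin _)
    (fun x y => rfl) h1 r (hli₁.comp _ (Fin.castLE_injective hs)) (fun i i' => hrr _ _)
    fun i => hQ _
  obtain ⟨g, hg, hgN⟩ := exists_iso_of_invQ hN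
  exact ⟨g, hg, by rw [hgN, hrk], by rw [hgN]; exact hna⟩

theorem minus_alt [Finite F] {k j : ℕ} {a b : F} (hab : Orth.Aniso a b) (hj : 2 * j ≤ k) :
    ∃ t : IsoGrp (quadMinus k F a b), t * t = 1 ∧ finrank F (LinearMap.range (tN t)) = 2 * j ∧
      IsAltInv (quadMinus k F a b).polarBilin (tN t) := by
  classical
  let c : Fin j ⊕ Fin j → Fin k := fun i => Fin.castLE (by omega) (finSumFinEquiv i : Fin (j + j))
  have hc : Function.Injective c := fun a b h =>
    finSumFinEquiv.injective (Fin.castLE_injective _ h)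
  let r : Fin j ⊕ Fin j → ((Fin k ⊕ Fin k) ⊕ Fin 2 → F) := fun i => Pi.single (.inl (.inl (c i))) 1
  have hli : LinearIndependent F r :=
    (Pi.basisFun F ((Fin k ⊕ Fin k) ⊕ Fin 2)).linearIndependent.comp _
      ((Sum.inl_injective.comp Sum.inl_injective).comp hc) |>
      fun h => by convert h using 1; funext i; simp [r]
  obtain ⟨N, hN, hrk, ha⟩ := exists_isInvQ_alt (quadMinus_nondeg k hab) (halt_polarBilin _)
    (fun x y => rfl) r hli (fun i i' => by
      rw [QuadraticMap.polarBilin_apply_apply, coe_quadMinus, polar_quadMinus]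
      simp [r])
    fun i => by rw [coe_quadMinus]; simp [r, quadFormMinus]
  obtain ⟨g, hg, hgN⟩ := exists_iso_of_invQ hN
  exact ⟨g, hg, by rw [hgN, hrk], by rw [hgN]; exact ha⟩

theorem minus_singular_lt [Finite F] {k : ℕ} {a b : F} (hab : Orth.Aniso a b)
    (U : Submodule F ((Fin k ⊕ Fin k) ⊕ Fin 2 → F)) (hU : ∀ u ∈ U, quadMinus k F a b u = 0) :
    2 * finrank F U < Fintype.card ((Fin k ⊕ Fin k) ⊕ Fin 2) := by
  have := S2617.minus_singular_le (k := k) a b hab U hU
  simp only [Fintype.card_sum, Fintype.card_fin]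
  omega

theorem minus_gen [Finite F] {k : ℕ} {a b : F} (hab : Orth.Aniso a b) :
    reflGen (quadMinus k F a b) = ⊤ :=
  reflGen_eq_top_of_index (quadMinus_nondeg k hab) (minus_singular_lt hab)

theorem plus_gen [Fintype F] {m : ℕ} (h : Fintype.card F ≠ 2 ∨ m ≠ 2) :
    reflGen (quadPlus m F) = ⊤ :=
  (Good.of_card (quadPlus_nondeg m) (h.imp_right fun h' => by
    simp only [Fintype.card_sum, Fintype.card_fin]; omega)).gen

theorem minus_ne_zero {k : ℕ} (a b : F) :
    quadMinus k F a b (Pi.single (.inr 0) 1) ≠ 0 := by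
  rw [coe_quadMinus]; simp [quadFormMinus]

theorem plus_ne_zero {m : ℕ} (hm : 1 ≤ m) :
    quadPlus m F (Pi.single (.inl ⟨0, hm⟩) 1 + Pi.single (.inr ⟨0, hm⟩) 1) ≠ 0 := by
  rw [coe_quadPlus]; simp [quadFormPlus, Pi.single_apply]

section Orth

variable {ι : Type} [Fintype ι] [DecidableEq ι] {Q : QuadraticForm F (ι → F)}

theorem sq_of_orderOf {G : Type*} [Monoid G] {g : G} (h : orderOf g = 2) : g * g = 1 := by
  rw [← pow_two, ← h, pow_orderOf_eq_one]

theorem even_of_altInv [Finite F] {V : Type*} [AddCommGroup V] [Module F V]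
    [FiniteDimensional F V] {B : LinearMap.BilinForm F V} {N : V →ₗ[F] V} (hN : IsInvN B N)
    (ha : IsAltInv B N) : ∃ j, finrank F (LinearMap.range N) = 2 * j :=
  (exists_frame_alt hN ha).imp fun _ h => h.1

/-- The number of classes of involutions of `O(Q)`. -/
theorem card_orth_classes [Finite F] (hQ : Q.polarBilin.Nondegenerate) {m k : ℕ}
    (hn : Fintype.card ι = 2 * m)
    (hna : ∀ s, 1 ≤ s → s ≤ m → ∃ t : IsoGrp Q, t * t = 1 ∧
      finrank F (LinearMap.range (tN t)) = s ∧ ¬ IsAltInv Q.polarBilin (tN t))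
    (hal : ∀ j, j ≤ k → ∃ t : IsoGrp Q, t * t = 1 ∧
      finrank F (LinearMap.range (tN t)) = 2 * j ∧ IsAltInv Q.polarBilin (tN t))
    (hbd : ∀ t : IsoGrp Q, t * t = 1 → IsAltInv Q.polarBilin (tN t) →
      finrank F (LinearMap.range (tN t)) < 2 * (k + 1)) :
    Nat.card {C : ConjClasses (IsoGrp Q) // ∃ g : IsoGrp Q, ConjClasses.mk g = C ∧ orderOf g = 2}
      = m + k := by
  refine card_classes_inv _ (fun g => finrank F (LinearMap.range (tN g)))
    (fun g => IsAltInv Q.polarBilin (tN g)) 1 2 m k one_pos two_pos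
    (fun g h hg hh => isConj_iff_inv hQ (sq_of_orderOf hg) (sq_of_orderOf hh))
    (fun s h1 h2 => ?_) (fun j h1 h2 => ?_) fun g hg => ?_
  · obtain ⟨t, ht, hr, ha⟩ := hna s h1 h2
    exact ⟨t, (orderOf_eq_two_iff t).2 ⟨ht, by omega⟩, by rw [one_mul, hr], ha⟩
  · obtain ⟨t, ht, hr, ha⟩ := hal j h2
    exact ⟨t, (orderOf_eq_two_iff t).2 ⟨ht, by omega⟩, hr, ha⟩
  · obtain ⟨hg1, hg2⟩ := (orderOf_eq_two_iff g).1 hg
    have hN := isInvQ_tN hQ hg1
    have h3 := hN.toIsInvN.two_mul_rank_le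
    rw [finrank_space, hn] at h3
    refine ⟨fun _ => ⟨finrank F (LinearMap.range (tN g)), hg2, by omega, (one_mul _).symm⟩, fun ha => ?_⟩
    obtain ⟨j, hj⟩ := even_of_altInv hN.toIsInvN ha
    have := hbd g hg1 ha
    exact ⟨j, by omega, by omega, hj⟩

theorem orderOf_coe_omega (g : ↥(Omega F ⇑Q)) : orderOf g = orderOf (g : IsoGrp Q) :=
  (orderOf_injective (Omega F ⇑Q).subtype Subtype.val_injective g).symm

theorem isConj_omega_iff (g h : ↥(Omega F ⇑Q)) :
    IsConj g h ↔ ∃ c ∈ Omega F ⇑Q, c * (g : IsoGrp Q) * c⁻¹ = (h : IsoGrp Q) := by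
  rw [isConj_iff]
  exact ⟨fun ⟨c, hc⟩ => ⟨c.1, c.2, congrArg Subtype.val hc⟩,
    fun ⟨c, hc, he⟩ => ⟨⟨c, hc⟩, Subtype.ext he⟩⟩

theorem invol_mem_omega_iff [Finite F] (hQ : Q.polarBilin.Nondegenerate) (hgen : reflGen Q = ⊤)
    {v₀ : ι → F} (hv₀ : Q v₀ ≠ 0) (t : IsoGrp Q) :
    t ∈ Omega F ⇑Q ↔ Even (finrank F (LinearMap.range (tN t))) := by
  rw [mem_omega_iff_dick hQ hgen hv₀, dick_tN, neg_one_pow_eq_one_iff_even (by norm_num)]

end Orth

/-! ### The symplectic group -/

theorem sympB_eq_polar (m : ℕ) : GLOrder.sympB m F = (quadPlus m F).polarBilin := by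
  refine LinearMap.ext fun u => LinearMap.ext fun v => ?_
  rw [QuadraticMap.polarBilin_apply_apply, coe_quadPlus, polar_quadPlus, GLOrder.sympB_apply]
  exact Finset.sum_congr rfl fun i _ => by rw [CharTwo.sub_eq_add]; ring

theorem sympB_nondegenerate (m : ℕ) : (GLOrder.sympB m F).Nondegenerate := by
  rw [sympB_eq_polar]; exact quadPlus_nondeg m

theorem sympB_isAlt (m : ℕ) : (GLOrder.sympB m F).IsAlt := GLOrder.sympB_self

/-- `t + 1` for a symplectic matrix. -/
def spN {m : ℕ} (t : Matrix.symplecticGroup (Fin m) F) :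
    (Fin m ⊕ Fin m → F) →ₗ[F] (Fin m ⊕ Fin m → F) :=
  Matrix.mulVecLin (t : Matrix (Fin m ⊕ Fin m) (Fin m ⊕ Fin m) F) + 1

theorem spN_apply {m : ℕ} (t : Matrix.symplecticGroup (Fin m) F) (x : Fin m ⊕ Fin m → F) :
    spN t x = Matrix.mulVec (t : Matrix (Fin m ⊕ Fin m) (Fin m ⊕ Fin m) F) x + x := rfl

theorem isInvN_spN {m : ℕ} {t : Matrix.symplecticGroup (Fin m) F} (ht : t * t = 1) :
    IsInvN (GLOrder.sympB m F) (spN t) :=
  isInvN_of (sympB_nondegenerate m) (sympB_isAlt m) _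
    (fun x => by
      rw [Matrix.mulVecLin_apply, Matrix.mulVecLin_apply, Matrix.mulVec_mulVec, ← Submonoid.coe_mul,
        ht, Submonoid.coe_one, Matrix.one_mulVec])
    (GLOrder.sympB_mulVec t)

theorem rank_eq_spN {m : ℕ} (t : Matrix.symplecticGroup (Fin m) F) :
    ((t : Matrix (Fin m ⊕ Fin m) (Fin m ⊕ Fin m) F) - 1).rank = finrank F (LinearMap.range (spN t)) := by
  have h : spN t = Matrix.mulVecLin ((t : Matrix (Fin m ⊕ Fin m) (Fin m ⊕ Fin m) F) - 1) :=
    LinearMap.ext fun x => funext fun i => by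
      simp only [spN_apply, Matrix.mulVecLin_apply, Matrix.sub_mulVec, Matrix.one_mulVec,
        Pi.add_apply, Pi.sub_apply, CharTwo.sub_eq_add]
  rw [h]; rfl

theorem exists_sp_of_equiv {m : ℕ} (h : (Fin m ⊕ Fin m → F) →ₗ[F] (Fin m ⊕ Fin m → F))
    (hh : ∀ x y, GLOrder.sympB m F (h x) (h y) = GLOrder.sympB m F x y) :
    ∃ g : Matrix.symplecticGroup (Fin m) F,
      ∀ x, Matrix.mulVec (g : Matrix (Fin m ⊕ Fin m) (Fin m ⊕ Fin m) F) x = h x := by
  refine ⟨⟨LinearMap.toMatrix' h, (GLOrder.mem_symplecticGroup_iff_preserves _).2 fun u v => ?_⟩,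
    fun x => LinearMap.toMatrix'_mulVec h x⟩
  rw [LinearMap.toMatrix'_mulVec, LinearMap.toMatrix'_mulVec, hh]

theorem sp_one_iff {m : ℕ} (t : Matrix.symplecticGroup (Fin m) F) :
    t = 1 ↔ finrank F (LinearMap.range (spN t)) = 0 := by
  rw [Submodule.finrank_eq_zero, LinearMap.range_eq_bot]
  constructor
  · rintro rfl
    exact LinearMap.ext fun x => by
      rw [spN_apply, Submonoid.coe_one, Matrix.one_mulVec, vec_add_self F]; rfl
  · intro h
    refine Subtype.ext (Matrix.ext_iff_mulVec.2 fun x => ?_)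
    have h1 : spN t x = 0 := by rw [h]; rfl
    rw [spN_apply] at h1
    rw [Submonoid.coe_one, Matrix.one_mulVec, eq_neg_of_add_eq_zero_left h1]
    exact funext fun i => CharTwo.neg_eq (x i)

theorem sp_orderOf_eq_two_iff {m : ℕ} (t : Matrix.symplecticGroup (Fin m) F) :
    orderOf t = 2 ↔ t * t = 1 ∧ 1 ≤ finrank F (LinearMap.range (spN t)) := by
  haveI : Fact (Nat.Prime 2) := ⟨Nat.prime_two⟩
  rw [orderOf_eq_prime_iff, pow_two, Nat.one_le_iff_ne_zero, Ne, Ne, ← sp_one_iff]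

theorem sp_isConj_iff [Finite F] {m : ℕ} {t s : Matrix.symplecticGroup (Fin m) F}
    (ht : t * t = 1) (hs : s * s = 1) :
    IsConj t s ↔ finrank F (LinearMap.range (spN t)) = finrank F (LinearMap.range (spN s)) ∧
      (IsAltInv (GLOrder.sympB m F) (spN t) ↔ IsAltInv (GLOrder.sympB m F) (spN s)) := by
  constructor
  · intro h
    obtain ⟨g, hg⟩ := isConj_iff.1 h
    let G : (Fin m ⊕ Fin m → F) →ₗ[F] (Fin m ⊕ Fin m → F) :=
      Matrix.mulVecLin (g : Matrix (Fin m ⊕ Fin m) (Fin m ⊕ Fin m) F)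
    let G' : (Fin m ⊕ Fin m → F) →ₗ[F] (Fin m ⊕ Fin m → F) :=
      Matrix.mulVecLin ((g⁻¹ : Matrix.symplecticGroup (Fin m) F) : Matrix (Fin m ⊕ Fin m) (Fin m ⊕ Fin m) F)
    have h1 : ∀ x, G' (G x) = x ∧ G (G' x) = x := fun x => by
      simp only [G, G', Matrix.mulVecLin_apply, Matrix.mulVec_mulVec, ← Submonoid.coe_mul,
        inv_mul_cancel, mul_inv_cancel, Submonoid.coe_one, Matrix.one_mulVec, and_self]
    let e : (Fin m ⊕ Fin m → F) ≃ₗ[F] (Fin m ⊕ Fin m → F) :=
      LinearEquiv.ofLinearMap G G' (LinearMap.ext fun x => (h1 x).2) (LinearMap.ext fun x => (h1 x).1)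
    have hc : ∀ x, spN s (e x) = e (spN t x) := fun x => by
      show spN s (G x) = G (spN t x)
      rw [spN_apply, spN_apply, map_add, ← hg]
      simp only [G, Matrix.mulVecLin_apply, Matrix.mulVec_mulVec, ← Submonoid.coe_mul,
        inv_mul_cancel_right]
    have hr : LinearMap.range (spN s) = (LinearMap.range (spN t)).map e.toLinearMap := by
      ext y
      constructor
      · rintro ⟨x, rfl⟩
        exact ⟨spN t (e.symm x), ⟨_, rfl⟩, by
          rw [LinearEquiv.coe_coe, ← hc, e.apply_symm_apply]⟩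
      · rintro ⟨_, ⟨x, rfl⟩, rfl⟩
        exact ⟨e x, hc x⟩
    refine ⟨by rw [hr, LinearEquiv.finrank_map_eq], fun ha x => ?_, fun ha x => ?_⟩
    · rw [← e.apply_symm_apply x, hc]
      exact (GLOrder.sympB_mulVec g _ _).trans (ha _)
    · have := ha (e x)
      rw [hc] at this
      exact (GLOrder.sympB_mulVec g _ _).symm.trans this
  · rintro ⟨h1, h2⟩
    obtain ⟨h, hh, hhN⟩ := exists_intertwiner_sp (isInvN_spN ht) (isInvN_spN hs) h1 h2
    obtain ⟨g, hg⟩ := exists_sp_of_equiv h.toLinearMap hh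
    refine isConj_iff.2 ⟨g, mul_inv_eq_iff_eq_mul.2 (Subtype.ext (Matrix.ext_iff_mulVec.2 fun x => ?_))⟩
    have := hhN x
    simp only [spN_apply, map_add, ← LinearEquiv.coe_coe, ← hg] at this
    rw [Submonoid.coe_mul, Submonoid.coe_mul, ← Matrix.mulVec_mulVec, ← Matrix.mulVec_mulVec]
    exact add_right_cancel this

theorem exists_sp_of_iso {m : ℕ} (t : IsoGrp (quadPlus m F)) (ht : t * t = 1) :
    ∃ g : Matrix.symplecticGroup (Fin m) F, g * g = 1 ∧ spN g = tN t := by
  obtain ⟨g, hg⟩ := exists_sp_of_equiv (ap t) fun x y => by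
    rw [sympB_eq_polar]; exact polar_ap t x y
  refine ⟨g, Subtype.ext (Matrix.ext_iff_mulVec.2 fun x => ?_), LinearMap.ext fun x => ?_⟩
  · rw [Submonoid.coe_mul, Submonoid.coe_one, Matrix.one_mulVec, ← Matrix.mulVec_mulVec, hg, hg,
      ap_ap_of_sq ht]
  · rw [spN_apply, tN_apply, hg]

end Cfsg.Agent.Forms.Invol
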