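import Cfsg.Agent.Lib.Forms.Involution
import Cfsg.Agent.Lib.InvCentralizer.Basic
/-
Involutions of orthogonal groups in characteristic two.
* `exists_frame_orth_alt`, `exists_frame_orth_nonalt` : normalised frames
* `exists_intertwiner_orth` : rank and the alternating flag determine the class in `O(Q)`
-/

set_option autoImplicit false

namespace Cfsg.Agent.Forms.Invol

open Module

variable {F V : Type*} [Field F] [CharP F 2] [AddCommGroup V] [Module F V]
variable {B : LinearMap.BilinForm F V} {Q : QuadraticForm F V} {N : V →ₗ[F] V}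
variable {ι : Type} [Fintype ι] [DecidableEq ι] {β : Matrix ι ι F} {u : ι → V}

omit [CharP F 2] in
theorem sing_polar {W : Submodule F V} (hW : ∀ w ∈ W, Q w = 0) {x y : V} (hx : x ∈ W)
    (hy : y ∈ W) : QuadraticMap.polar Q x y = 0 := by
  rw [QuadraticMap.polar, hW _ (W.add_mem hx hy), hW x hx, hW y hy, sub_zero, sub_zero]

theorem IsInvQ.map_add' (h : IsInvQ B Q N) (x y : V) : Q (x + y) = Q x + Q y + B x y := by
  rw [QuadraticMap.map_add (⇑Q), h.pol]

theorem IsInvQ.nondeg (h : IsInvQ B Q N) : (QuadraticMap.polarBilin Q).Nondegenerate := by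
  rw [show QuadraticMap.polarBilin Q = B from LinearMap.ext fun x => LinearMap.ext fun y => h.pol x y]
  exact h.nd

theorem IsInvQ.map_sum (h : IsInvQ B Q N) (huu : ∀ i j, B (u i) (u j) = 0) (a : ι → F) :
    Q (∑ i, a i • u i) = ∑ i, a i * a i * Q (u i) := by
  classical
  induction (Finset.univ : Finset ι) using Finset.induction_on with
  | empty => simp
  | insert i s hi ih =>
    rw [Finset.sum_insert hi, Finset.sum_insert hi, h.map_add', ih, QuadraticMap.map_smul, smul_eq_mul]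
    simp [huu, LinearMap.sum_apply]

theorem Frame.comb_quad (hN : IsInvQ B Q N) (hf : Frame B N β u)
    (huu : ∀ i j, B (u i) (u j) = 0) (p : (ι → F) × (ι → F)) :
    Q (hf.comb p) = ∑ i, p.1 i * p.1 i * Q (u i) + dotProduct (Matrix.vecMul p.2 β) p.2
      + dotProduct (Matrix.vecMul p.1 β) p.2 := by
  have h1 : ∀ a b : ι → F, B (∑ i, a i • u i) (N (∑ i, b i • u i))
      = dotProduct (Matrix.vecMul a β) b := fun a b => by
    simp only [_root_.map_sum N, map_smul N, _root_.map_sum (B _), map_smul (B _), hf.sum_apply,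
      smul_eq_mul, dotProduct]
    exact Finset.sum_congr rfl fun i _ => mul_comm _ _
  rw [hf.comb_apply, hN.map_add', hN.map_sum huu, hN.quad, h1, h1]

/-- Conjugacy in the orthogonal group from two frames with the same values. -/
theorem exists_intertwiner_of_frames_orth [FiniteDimensional F V] {N' : V →ₗ[F] V} {u' : ι → V}
    (hN : IsInvQ B Q N) (hN' : IsInvQ B Q N') (hf : Frame B N β u) (hf' : Frame B N' β u')
    (huu : ∀ i j, B (u i) (u j) = 0) (huu' : ∀ i j, B (u' i) (u' j) = 0)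
    (hQu : ∀ i, Q (u i) = Q (u' i)) :
    ∃ g : V ≃ₗ[F] V, (∀ x, Q (g x) = Q x) ∧ ∀ v, g (N v) = N' (g v) := by
  obtain ⟨r, hr⟩ := hf.comb.exists_leftInverse_of_injective
    (LinearMap.ker_eq_bot.2 (hf.comb_injective hN.toIsInvN huu))
  have hr' : ∀ p, r (hf.comb p) = p := fun p => LinearMap.congr_fun hr p
  obtain ⟨g, hg, hgX⟩ := witt_quadratic_map Q hN.nondeg (LinearMap.range hf.comb)
    (hf'.comb.comp r)
    (by
      rintro _ ⟨p, rfl⟩ h0
      rw [LinearMap.comp_apply, hr'] at h0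
      rw [show p = 0 from hf'.comb_injective hN'.toIsInvN huu' (h0.trans (map_zero _).symm),
        map_zero])
    (by
      rintro _ ⟨p, rfl⟩
      rw [LinearMap.comp_apply, hr', hf.comb_quad hN huu, hf'.comb_quad hN' huu']
      simp only [hQu])
  refine ⟨g, hg, intertwines_of_frames hN.toIsInvN hN'.toIsInvN hf hf' huu g (fun x y => ?_)
    fun p => by rw [hgX _ ⟨p, rfl⟩, LinearMap.comp_apply, hr']⟩
  rw [← hN.pol, ← hN.pol]
  exact polar_map_of_preserving hg x y

/-- Shifting a frame by elements of the range of `N`. -/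
theorem Frame.shift_range (hN : IsInvQ B Q N) (hf : Frame B N β u)
    (huu : ∀ i j, B (u i) (u j) = 0) (y : ι → V)
    (hy : ∀ i j, B (y i) (N (u j)) = B (y j) (N (u i))) :
    Frame B N β (fun i => u i + N (y i)) ∧
      (∀ i j, B (u i + N (y i)) (u j + N (y j)) = 0) ∧
      ∀ i, Q (u i + N (y i)) = Q (u i) + B (y i) (N (u i)) + B (y i) (N (y i)) := by
  refine ⟨hf.shift hN.toIsInvN _ fun i => hN.sq _, fun i j => ?_, fun i => ?_⟩
  · simp only [map_add, LinearMap.add_apply, hN.orth_range, huu, add_zero, zero_add]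
    rw [hN.comm (u i) (N (y j)), hN.adj, hN.adj, hy, CharTwo.add_self_eq_zero]
  · rw [hN.map_add', hN.quad, hN.symm' (u i) (y i)]
    ring

theorem exists_frame_orth_alt [FiniteDimensional F V] (hN : IsInvQ B Q N) (ha : IsAltInv B N) :
    ∃ j, finrank F (LinearMap.range N) = 2 * j ∧ ∃ u : Fin j ⊕ Fin j → V,
      Frame B N (altMat F j) u ∧ (∀ i i', B (u i) (u i') = 0) ∧ ∀ i, Q (u i) = 0 := by
  classical
  obtain ⟨j, hj, u₀, hu₀⟩ := exists_frame_alt hN.toIsInvN ha
  obtain ⟨u, hu, huu⟩ := exists_isotropic_frame hN.toIsInvN hu₀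
  choose y hy using fun i => hu.exists_dual fun l => if i = l then Q (u i) else 0
  obtain ⟨h1, h2, h3⟩ := hu.shift_range hN huu y fun i l => by
    rw [hy, hy]
    by_cases h : i = l
    · subst h; rfl
    · rw [if_neg h, if_neg (Ne.symm h)]
  refine ⟨j, hj, _, h1, h2, fun i => ?_⟩
  rw [h3, hy, if_pos rfl, ha, add_zero, CharTwo.add_self_eq_zero]

theorem exists_frame_orth_nonalt [Finite F] [FiniteDimensional F V] (hN : IsInvQ B Q N)
    (ha : ¬ IsAltInv B N) : ∃ n, finrank F (LinearMap.range N) = n + 1 ∧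
      ∃ u : Fin (n + 1) → V, Frame B N 1 u ∧ (∀ i j, B (u i) (u j) = 0) ∧
        ∀ i, i ≠ 0 → Q (u i) = 0 := by
  classical
  obtain ⟨n, hn⟩ : ∃ n, finrank F (LinearMap.range N) = n + 1 := by
    refine Nat.exists_eq_succ_of_ne_zero fun h => ha fun x => ?_
    have h1 : N x ∈ LinearMap.range N := LinearMap.mem_range_self _ _
    rw [Submodule.finrank_eq_zero.1 h, Submodule.mem_bot] at h1
    rw [h1, map_zero]
  obtain ⟨u₀, hu₀⟩ := exists_frame_nonalt hN.toIsInvN ha hn
  obtain ⟨u, hu, huu⟩ := exists_isotropic_frame hN.toIsInvN hu₀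
  choose a ha' using fun i : Fin (n + 1) => exists_mul_self (Q (u i))
  let y : Fin (n + 1) → V := fun i =>
    if i = 0 then ∑ l, (if l = 0 then 0 else a l) • u l else a i • u 0
  have hy : ∀ i j, B (y i) (N (u j)) =
      if i = 0 then (if j = 0 then 0 else a j) else (if j = 0 then a i else 0) := fun i j => by
    by_cases hi : i = 0
    · simp only [y, if_pos hi]
      rw [hu.sum_apply, Matrix.vecMul_one]
    · simp [y, hi, hu.bu, Matrix.one_apply, eq_comm]
  obtain ⟨h1, h2, h3⟩ := hu.shift_range hN huu y fun i j => by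
    rw [hy, hy]
    by_cases hi : i = 0 <;> by_cases hj : j = 0 <;> simp [hi, hj]
  refine ⟨n, hn, _, h1, h2, fun i hi => ?_⟩
  rw [h3, hy, if_neg hi, if_neg hi]
  simp only [y, if_neg hi, map_smul, LinearMap.smul_apply, smul_eq_mul, hu.bu, Matrix.one_apply_eq,
    mul_one, add_zero, ha', CharTwo.add_self_eq_zero]

/-- A nonsingular vector orthogonal to a frame. -/
theorem Frame.exists_nonsingular_perp [FiniteDimensional F V] (hN : IsInvQ B Q N)
    (hf : Frame B N β u) (huu : ∀ i j, B (u i) (u j) = 0)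
    (hlt : 2 * Fintype.card ι < finrank F V) :
    ∃ k, N k = 0 ∧ (∀ j, B k (u j) = 0) ∧ Q k ≠ 0 := by
  classical
  let ψ : V →ₗ[F] (ι → F) × (ι → F) :=
    (LinearMap.pi fun j => B.flip (u j)).prod (LinearMap.pi fun j => B.flip (N (u j)))
  have hmem : ∀ k, k ∈ LinearMap.ker ψ ↔ (∀ j, B k (u j) = 0) ∧ ∀ j, B k (N (u j)) = 0 :=
    fun k => by simp [ψ, funext_iff]
  obtain ⟨k₀, hk₀, hk₀0⟩ := (Submodule.ne_bot_iff _).1
    (LinearMap.ker_ne_bot_of_finrank_lt (f := ψ) (by simpa [two_mul] using hlt))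
  by_contra! hall
  have hsing : ∀ k ∈ LinearMap.ker ψ, Q k = 0 := fun k hk =>
    hall k (hf.apply_eq_zero hN.toIsInvN ((hmem k).1 hk).2) ((hmem k).1 hk).1
  refine hk₀0 (hN.nd.1 k₀ fun v => ?_)
  obtain ⟨a, d, k, hk, hku, rfl⟩ := hf.decomp hN.toIsInvN huu v
  have hkker : k ∈ LinearMap.ker ψ := (hmem k).2 ⟨hku, fun j => by
    rw [← hN.adj, hk, map_zero, LinearMap.zero_apply]⟩
  have h0 := sing_polar hsing hk₀ hkker
  rw [hN.pol] at h0
  simp [((hmem k₀).1 hk₀).1, ((hmem k₀).1 hk₀).2, h0]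

/-- If possible the first value is zero as well. -/
theorem exists_frame_zero_of_lt [Finite F] [FiniteDimensional F V] {n : ℕ}
    {u : Fin (n + 1) → V} (hN : IsInvQ B Q N) (hf : Frame B N 1 u)
    (huu : ∀ i j, B (u i) (u j) = 0) (h0 : ∀ i, i ≠ 0 → Q (u i) = 0)
    (hlt : 2 * (n + 1) < finrank F V) :
    ∃ u' : Fin (n + 1) → V, Frame B N 1 u' ∧ (∀ i j, B (u' i) (u' j) = 0) ∧ ∀ i, Q (u' i) = 0 := by
  obtain ⟨k, hk, hku, hkQ⟩ := hf.exists_nonsingular_perp hN huu (by simpa using hlt)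
  obtain ⟨r, hr⟩ := exists_mul_self (Q (u 0) / Q k)
  refine ⟨fun i => u i + if i = 0 then r • k else 0, hf.shift hN.toIsInvN _ fun i => ?_,
    fun i j => ?_, fun i => ?_⟩
  · split_ifs <;> simp [hk]
  · by_cases hi : i = 0 <;> by_cases hj : j = 0 <;>
      simp [hi, hj, huu, hku, hN.comm _ k, hN.alt k]
  · by_cases hi : i = 0
    · subst hi
      simp only [↓reduceIte]
      rw [hN.map_add', map_smul (B (u 0)), hN.comm (u 0) k, hku, smul_zero, add_zero,
        QuadraticMap.map_smul, smul_eq_mul, hr, div_mul_cancel₀ _ hkQ, CharTwo.add_self_eq_zero]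
    · simp only [if_neg hi, add_zero, h0 i hi]

/-- Changing the first value by `z * z + z`. -/
theorem Frame.adjust_first {n : ℕ} {u : Fin (n + 1) → V} (hN : IsInvQ B Q N)
    (hf : Frame B N 1 u) (huu : ∀ i j, B (u i) (u j) = 0) (h0 : ∀ i, i ≠ 0 → Q (u i) = 0) (z : F) :
    ∃ u' : Fin (n + 1) → V, Frame B N 1 u' ∧ (∀ i j, B (u' i) (u' j) = 0) ∧
      (∀ i, i ≠ 0 → Q (u' i) = 0) ∧ Q (u' 0) = Q (u 0) + (z * z + z) := by
  obtain ⟨h1, h2, h3⟩ := hf.shift_range hN huu (fun i => if i = 0 then z • u 0 else 0) fun i j => by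
    by_cases hi : i = 0 <;> by_cases hj : j = 0 <;>
      simp [hi, hj, hf.bu, Matrix.one_apply, Ne.symm, eq_comm]
  refine ⟨_, h1, h2, fun i hi => ?_, ?_⟩
  · rw [h3, if_neg hi, h0 i hi]
    simp
  · rw [h3, if_pos rfl]
    simp only [map_smul, LinearMap.smul_apply, smul_eq_mul, hf.bu, Matrix.one_apply_eq, mul_one]
    ring

/-- The plus and the minus case exclude each other when the frame spans everything. -/
theorem not_both_types [Finite F] [FiniteDimensional F V] {N' : V →ₗ[F] V} {n : ℕ}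
    {u u' : Fin (n + 1) → V} (hN : IsInvQ B Q N) (hN' : IsInvQ B Q N')
    (hf : Frame B N 1 u) (hf' : Frame B N' 1 u')
    (huu : ∀ i j, B (u i) (u j) = 0) (huu' : ∀ i j, B (u' i) (u' j) = 0)
    (hz : ∀ i, Q (u i) = 0) (h0' : ∀ i, i ≠ 0 → Q (u' i) = 0)
    (hc : ∀ z : F, z * z + z ≠ Q (u' 0)) (hdim : finrank F V = 2 * (n + 1)) : False := by
  have hli : ∀ {M : V →ₗ[F] V} {w : Fin (n + 1) → V} (_ : IsInvQ B Q M) (hw : Frame B M 1 w),
      (∀ i j, B (w i) (w j) = 0) → LinearIndependent F w := by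
    intro M w hM hw hww
    rw [Fintype.linearIndependent_iff]
    intro g hg
    have h1 : hw.comb (g, 0) = hw.comb 0 := by
      rw [map_zero, hw.comb_apply]
      simp [hg]
    exact congrFun (congrArg Prod.fst (hw.comb_injective hM.toIsInvN hww h1))
  -- the span of `u` is singular of dimension `n + 1`
  set W₁ := Submodule.span F (Set.range u) with hW₁
  have hd1 : finrank F W₁ = n + 1 := by
    rw [hW₁, finrank_span_eq_card (hli hN hf huu), Fintype.card_fin]
  have hs1 : ∀ w ∈ W₁, Q w = 0 := fun w hw => by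
    obtain ⟨a, rfl⟩ := (Submodule.mem_span_range_iff_exists_fun F).1 hw
    simp [hN.map_sum huu, hz]
  -- the span of `u' (succ)` is maximal singular of dimension `n`
  set W₂ := Submodule.span F (Set.range fun i : Fin n => u' i.succ) with hW₂
  have hd2 : finrank F W₂ = n := by
    rw [hW₂]
    exact (finrank_span_eq_card ((hli hN' hf' huu').comp _ (Fin.succ_injective n))).trans (Fintype.card_fin n)
  have hs2 : ∀ w ∈ W₂, Q w = 0 := fun w hw => by
    obtain ⟨a, rfl⟩ := (Submodule.mem_span_range_iff_exists_fun F).1 hw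
    rw [show ∑ i, a i • u' i.succ = ∑ i, (Fin.cons 0 a : Fin (n + 1) → F) i • u' i by
      rw [Fin.sum_univ_succ]; simp, hN'.map_sum huu', Fin.sum_univ_succ]
    simp [h0' _ (Fin.succ_ne_zero _)]
  have h := maximal_singular_finrank_eq Q hN.nondeg W₁ W₂ hs1 hs2 ?_ ?_
  · omega
  · intro W hle hW
    have := two_mul_finrank_singular_le Q hN.nondeg W hW
    exact (Submodule.eq_of_le_of_finrank_le hle (by omega)).symm
  · intro W hle hW
    refine le_antisymm (fun w hw => ?_) hle
    have hsurj : Function.Surjective hf'.comb :=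
      (LinearMap.injective_iff_surjective_of_finrank_eq_finrank (by simp [hdim, two_mul])).1
        (hf'.comb_injective hN'.toIsInvN huu')
    obtain ⟨⟨a, d⟩, rfl⟩ := hsurj w
    have hd : ∀ j : Fin n, d j.succ = 0 := fun j => by
      have h1 := sing_polar hW hw
        (hle (Submodule.subset_span ⟨j, rfl⟩))
      beta_reduce at h1
      rw [hN'.pol, show u' j.succ = hf'.comb (Pi.single j.succ 1, 0) by
        simp [hf'.comb_apply, Pi.single_apply], hf'.comb_pair hN'.toIsInvN huu'] at h1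
      simpa using h1
    have hq := hW _ hw
    rw [hf'.comb_quad hN' huu'] at hq
    simp [Fin.sum_univ_succ, dotProduct, h0' _ (Fin.succ_ne_zero _), hd] at hq
    have ha0 : a 0 = 0 := by
      by_contra ha
      refine hc (d 0 / a 0) ?_
      field_simp
      linear_combination hq - (a 0 ^ 2 * Q (u' 0)) * (CharTwo.two_eq_zero (R := F))
    have hd0 : d 0 = 0 := by
      rw [ha0] at hq
      simpa using hq
    rw [hf'.comb_apply, Fin.sum_univ_succ, Fin.sum_univ_succ]
    simp only [ha0, hd0, hd, zero_smul, zero_add, Finset.sum_const_zero, map_zero, add_zero]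
    exact Submodule.sum_mem _ fun i _ => Submodule.smul_mem _ _ (Submodule.subset_span ⟨i, rfl⟩)

/-- Classes of involutions of the orthogonal group. -/
theorem exists_intertwiner_orth [Finite F] [FiniteDimensional F V] {N' : V →ₗ[F] V}
    (hN : IsInvQ B Q N) (hN' : IsInvQ B Q N')
    (hs : finrank F (LinearMap.range N) = finrank F (LinearMap.range N'))
    (ha : IsAltInv B N ↔ IsAltInv B N') :
    ∃ g : V ≃ₗ[F] V, (∀ x, Q (g x) = Q x) ∧ ∀ v, g (N v) = N' (g v) := by
  by_cases h : IsAltInv B N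
  · obtain ⟨j, hj, u, hu, huu, hQ⟩ := exists_frame_orth_alt hN h
    obtain ⟨j', hj', u', hu', huu', hQ'⟩ := exists_frame_orth_alt hN' (ha.1 h)
    obtain rfl : j = j' := by omega
    exact exists_intertwiner_of_frames_orth hN hN' hu hu' huu huu' fun i => by rw [hQ, hQ']
  obtain ⟨n, hn, u, hu, huu, hQ⟩ := exists_frame_orth_nonalt hN h
  obtain ⟨n', hn', u', hu', huu', hQ'⟩ := exists_frame_orth_nonalt hN' fun h' => h (ha.2 h')
  obtain rfl : n = n' := by omega
  have hle := hN.toIsInvN.two_mul_rank_le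
  by_cases hlt : 2 * (n + 1) < finrank F V
  · obtain ⟨w, hw, hww, hwQ⟩ := exists_frame_zero_of_lt hN hu huu hQ hlt
    obtain ⟨w', hw', hww', hwQ'⟩ := exists_frame_zero_of_lt hN' hu' huu' hQ' hlt
    exact exists_intertwiner_of_frames_orth hN hN' hw hw' hww hww' fun i => by rw [hwQ, hwQ']
  have hdim : finrank F V = 2 * (n + 1) := by omega
  have hP : ∀ x : F, (x ∈ InvCentralizer.asImage F) ↔ ∃ z, z * z + z = x := fun x => by
    simp only [← pow_two]; rfl
  by_cases hsum : Q (u 0) + Q (u' 0) ∈ InvCentralizer.asImage F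
  · obtain ⟨z, hz⟩ := (hP _).1 hsum
    obtain ⟨w, hw, hww, hw0, hw1⟩ := hu.adjust_first hN huu hQ z
    refine exists_intertwiner_of_frames_orth hN hN' hw hu' hww huu' fun i => ?_
    by_cases hi : i = 0
    · subst hi
      rw [hw1, hz, ← add_assoc, CharTwo.add_self_eq_zero, zero_add]
    · rw [hw0 i hi, hQ' i hi]
  exfalso
  rw [AddSubgroup.add_mem_iff_of_index_two InvCentralizer.index_asImage] at hsum
  have step : ∀ {M M' : V →ₗ[F] V} {w w' : Fin (n + 1) → V}, IsInvQ B Q M → IsInvQ B Q M' →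
      Frame B M 1 w → Frame B M' 1 w' → (∀ i j, B (w i) (w j) = 0) → (∀ i j, B (w' i) (w' j) = 0) →
      (∀ i, i ≠ 0 → Q (w i) = 0) → (∀ i, i ≠ 0 → Q (w' i) = 0) →
      Q (w 0) ∈ InvCentralizer.asImage F → ¬ Q (w' 0) ∈ InvCentralizer.asImage F → False := by
    intro M M' w w' hM hM' hw hw' hww hww' h0 h0' hin hout
    obtain ⟨z, hz⟩ := (hP _).1 hin
    obtain ⟨x, hx, hxx, hx0, hx1⟩ := hw.adjust_first hM hww h0 z
    refine not_both_types hM hM' hx hw' hxx hww' (fun i => ?_) h0' (fun z hz => hout ((hP _).2 ⟨z, hz⟩))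
      hdim
    by_cases hi : i = 0
    · subst hi
      rw [hx1, hz, CharTwo.add_self_eq_zero]
    · exact hx0 i hi
  by_cases hin : Q (u 0) ∈ InvCentralizer.asImage F
  · exact step hN hN' hu hu' huu huu' hQ hQ' hin fun h' => hsum (iff_of_true hin h')
  · exact step hN' hN hu' hu huu' huu hQ' hQ
      (by_contra fun h' => hsum (iff_of_false hin h')) hin

end Cfsg.Agent.Forms.Invol
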