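import Cfsg.Agent.Lib.Forms.Symplectic
import Cfsg.Agent.Lib.InvolAlg.Basic
/-
Conjugacy of semisimple isometries of bilinear and quadratic forms over finite fields.
* `exists_norm_intertwiner` : on a space where `A² - 1` is invertible any `A`-invariant form of the same
  parity is `B (x ·) (x ·)` with `x` commuting with `A`
* `isCompl_range_ker` : `T = A^k - 1` has complementary range and kernel for order prime to `p`
* `exists_isometry_intertwiner` : the isometric intertwiner on the range of `A² - 1`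
* `alternating_conj`, `quadratic_conj` : semisimple isometries (of odd order in the quadratic case)
  conjugate in `GL` are conjugate by an isometry
-/

set_option autoImplicit false

namespace Cfsg.Agent.Forms

open Module

variable {F V : Type*} [Field F] [AddCommGroup V] [Module F V] [FiniteDimensional F V]

/-- The adjoint of `f` for a non-degenerate form. -/
noncomputable def adjB (B : LinearMap.BilinForm F V) (hB : B.Nondegenerate) (f : V →ₗ[F] V) :
    V →ₗ[F] V :=
  (B.toDual hB).symm.toLinearMap.comp ((f.dualMap).comp (B.toDual hB).toLinearMap)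

theorem adjB_spec (B : LinearMap.BilinForm F V) (hB : B.Nondegenerate) (f : V →ₗ[F] V) (u v : V) :
    B (adjB B hB f u) v = B u (f v) := by
  simp only [adjB, LinearMap.comp_apply, LinearEquiv.coe_coe]
  rw [LinearMap.BilinForm.apply_toDual_symm_apply, LinearMap.dualMap_apply,
    LinearMap.BilinForm.toDual_def]

theorem adjB_eq {B : LinearMap.BilinForm F V} (hB : B.Nondegenerate) {f g : V →ₗ[F] V}
    (h : ∀ u v, B (g u) v = B u (f v)) : adjB B hB f = g :=
  LinearMap.ext fun u => sub_eq_zero.1 (hB.1 _ fun v => by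
    rw [map_sub, LinearMap.sub_apply, adjB_spec, h, sub_self])

/-- On a space where `A² - 1` is invertible, invariant forms of equal parity differ by a norm. -/
theorem exists_norm_intertwiner [Finite F] (B B' : LinearMap.BilinForm F V) (hB : B.Nondegenerate)
    (hB' : B'.Nondegenerate) {ε : F} (hε : ε * ε = 1) (hBs : ∀ u v, B u v = ε * B v u)
    (hB's : ∀ u v, B' u v = ε * B' v u) (A : V ≃ₗ[F] V) {N : ℕ} (hN : A ^ (N + 1) = 1)
    (hA : ∀ u v, B (A u) (A v) = B u v) (hA' : ∀ u v, B' (A u) (A v) = B' u v)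
    (hreg : ∀ v, A (A v) = v → v = 0) :
    ∃ x : V ≃ₗ[F] V, (∀ v, x (A v) = A (x v)) ∧ ∀ u v, B (x u) (x v) = B' u v := by
  classical
  haveI : Finite V := Module.finite_of_finite F
  haveI : Finite (Module.End F V) := Finite.of_injective (fun f => (f : V → V)) DFunLike.coe_injective
  let h : (Module.End F V) := (B.toDual hB).symm.toLinearMap.comp B'
  have hh : ∀ u v, B (h u) v = B' u v := fun u v => by
    show B ((B.toDual hB).symm (B' u)) v = B' u v
    rw [LinearMap.BilinForm.apply_toDual_symm_apply]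
  have hhinj : Function.Injective h := by
    rw [injective_iff_map_eq_zero]
    intro u hu
    refine hB'.1 u fun v => ?_
    rw [← hh, hu, map_zero, LinearMap.zero_apply]
  let a : (Module.End F V) := A.toLinearMap
  have hah : h * a = a * h := LinearMap.ext fun u => sub_eq_zero.1 (hB.1 _ fun v => by
    obtain ⟨w, rfl⟩ := A.surjective v
    show B (h (A u) - A (h u)) (A w) = 0
    rw [map_sub, LinearMap.sub_apply, hh, hA', hA, hh, sub_self])
  let S := Algebra.adjoin F ({a, h} : Set (Module.End F V))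
  letI : CommRing S := Algebra.adjoinCommRingOfComm F (by
    rintro b (rfl | rfl) c (rfl | rfl)
    · rfl
    · exact hah.symm
    · exact hah
    · rfl)
  haveI : Finite S := Finite.of_injective _ Subtype.val_injective
  have hadd : ∀ f g, adjB B hB (f + g) = adjB B hB f + adjB B hB g := fun f g => adjB_eq hB
    fun u v => by simp [adjB_spec]
  have hmul : ∀ f g : (Module.End F V), adjB B hB (f * g) = adjB B hB g * adjB B hB f := fun f g => adjB_eq hB
    fun u v => by simp [Module.End.mul_apply, adjB_spec]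
  have halg : ∀ r : F, adjB B hB (algebraMap F (Module.End F V) r) = algebraMap F (Module.End F V) r := fun r => adjB_eq hB
    fun u v => by simp [Module.algebraMap_end_apply]
  have hone : adjB B hB (1 : (Module.End F V)) = 1 := adjB_eq hB fun u v => rfl
  have hzero : adjB B hB (0 : (Module.End F V)) = 0 := adjB_eq hB fun u v => by simp
  have hinv : adjB B hB a = a ^ N := adjB_eq hB fun u v => by
    have h1 : a ((a ^ N) u) = u := by
      have h2 : (a ^ (N + 1)) u = u := by
        have : (a ^ (N + 1)) = ((A ^ (N + 1) : V ≃ₗ[F] V) : V →ₗ[F] V) :=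
          (map_pow (LinearEquiv.automorphismGroup.toLinearMapMonoidHom (R := F) (M := V)) A (N + 1)).symm
        rw [this, hN]
        rfl
      rwa [pow_succ', Module.End.mul_apply] at h2
    rw [← hA ((a ^ N) u) v, show A ((a ^ N) u) = u from h1]
    rfl
  have hadjh : adjB B hB h = h := adjB_eq hB fun u v => by
    rw [hh, hBs u, hh, ← hB's u v]
  have hadj2 : ∀ f, adjB B hB (adjB B hB f) = f := fun f => adjB_eq hB fun u v => by
    rw [hBs u, adjB_spec, hBs v, ← mul_assoc, hε, one_mul]
  have hclosed : ∀ x ∈ S, adjB B hB x ∈ S := by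
    intro x hx
    induction hx using Algebra.adjoin_induction with
    | mem y hy =>
      rcases hy with hy | hy
      · subst hy
        rw [hinv]
        exact Subalgebra.pow_mem _ (Algebra.subset_adjoin (Set.mem_insert _ _)) _
      · rw [Set.mem_singleton_iff.1 hy, hadjh]
        exact Algebra.subset_adjoin (Set.mem_insert_of_mem _ (Set.mem_singleton _))
    | algebraMap r => rw [halg]; exact Subalgebra.algebraMap_mem _ _
    | add a b _ _ ha hb => rw [hadd]; exact add_mem ha hb
    | mul a b _ _ ha hb => rw [hmul]; exact mul_mem hb ha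
  let τ : S →+* S :=
    { toFun := fun b => ⟨adjB B hB b.1, hclosed _ b.2⟩
      map_one' := Subtype.ext hone
      map_mul' := fun b c => Subtype.ext (by
        show adjB B hB (b.1 * c.1) = adjB B hB b.1 * adjB B hB c.1
        rw [hmul]
        exact congrArg Subtype.val (mul_comm (⟨_, hclosed _ c.2⟩ : S) ⟨_, hclosed _ b.2⟩))
      map_zero' := Subtype.ext hzero
      map_add' := fun b c => Subtype.ext (hadd _ _) }
  let z : S := ⟨a, Algebra.subset_adjoin (Or.inl rfl)⟩
  have hunit : ∀ s : S, Function.Injective (s.1 : V → V) → IsUnit s := fun s hs => by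
    rw [IsUnit.isUnit_iff_mulLeft_bijective, ← Finite.injective_iff_bijective]
    intro b c hbc
    refine Subtype.ext (LinearMap.ext fun v => hs ?_)
    exact congrArg (fun t : S => t.1 v) hbc
  have hz : IsUnit (τ z - z) := by
    refine hunit _ ((injective_iff_map_eq_zero (τ z - z).1).2 fun v hv => ?_)
    have hv' : (a ^ N) v = a v := by
      have : adjB B hB a v - a v = 0 := hv
      rw [hinv, sub_eq_zero] at this
      exact this
    refine hreg v ?_
    show a (a v) = v
    rw [← hv', ← Module.End.mul_apply, ← pow_succ']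
    have : (a ^ (N + 1)) = ((A ^ (N + 1) : V ≃ₗ[F] V) : V →ₗ[F] V) :=
      (map_pow (LinearEquiv.automorphismGroup.toLinearMapMonoidHom (R := F) (M := V)) A (N + 1)).symm
    rw [this, hN]
    rfl
  let r : S := ⟨h, Algebra.subset_adjoin (Or.inr rfl)⟩
  obtain ⟨x, hx, hxe⟩ := InvolAlg.exists_norm_eq τ (fun b => Subtype.ext (hadj2 b.1)) z hz r
    (hunit r hhinj) (Subtype.ext hadjh)
  have hxinj : Function.Injective (x.1 : V → V) := fun v w hvw => by
    obtain ⟨y, hy⟩ := hx.exists_left_inv
    have := congrArg (fun t : S => t.1) hy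
    have hy' : ∀ v, y.1 (x.1 v) = v := fun v => LinearMap.congr_fun this v
    rw [← hy' v, hvw, hy' w]
  refine ⟨LinearEquiv.ofInjectiveEndo x.1 hxinj, fun v => ?_, fun u v => ?_⟩
  · exact congrArg (fun t : S => t.1 v) (mul_comm x z)
  · show B (x.1 u) (x.1 v) = B' u v
    rw [← adjB_spec B hB, ← hh]
    exact congrArg (fun t : S => B (t.1 u) v) hxe

/-- For `T = A - 1`, `A` of order prime to `p`, range and kernel are complementary. -/
theorem isCompl_range_ker (A : V ≃ₗ[F] V) {N : ℕ} (hN : A ^ N = 1) (hNF : (N : F) ≠ 0) :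
    IsCompl (LinearMap.range ((A : V →ₗ[F] V) - 1)) (LinearMap.ker ((A : V →ₗ[F] V) - 1)) := by
  have hdisj : Disjoint (LinearMap.range ((A : V →ₗ[F] V) - 1))
      (LinearMap.ker ((A : V →ₗ[F] V) - 1)) := by
    rw [Submodule.disjoint_def]
    rintro v ⟨w, rfl⟩ hv
    rw [LinearMap.mem_ker] at hv
    set d := ((A : V →ₗ[F] V) - 1) w with hd
    have hAd : A d = d := sub_eq_zero.1 hv
    have hAw : A w = w + d := by rw [hd]; simp
    have hpow : ∀ k : ℕ, (A ^ k) w = w + (k : F) • d := by
      intro k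
      induction k with
      | zero => simp
      | succ k ih =>
        rw [pow_succ', LinearEquiv.mul_apply, ih, map_add, map_smul, hAd, hAw]
        push_cast
        rw [add_smul, one_smul]
        abel
    have h := hpow N
    rw [hN] at h
    have h' : (N : F) • d = 0 := by
      have h'' : w = w + (N : F) • d := h
      exact (add_eq_left.1 h''.symm)
    exact (smul_eq_zero.1 h').resolve_left hNF
  refine ⟨hdisj, ?_⟩
  rw [codisjoint_iff]
  refine Submodule.eq_top_of_finrank_eq ?_
  have h1 := Submodule.finrank_sup_add_finrank_inf_eq (LinearMap.range ((A : V →ₗ[F] V) - 1))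
    (LinearMap.ker ((A : V →ₗ[F] V) - 1))
  rw [hdisj.eq_bot, finrank_bot, LinearMap.finrank_range_add_finrank_ker] at h1
  omega

variable (B : LinearMap.BilinForm F V)

/-- The range of `A² - 1`. -/
abbrev movedSpace (A : V ≃ₗ[F] V) : Submodule F V :=
  LinearMap.range (((A ^ 2 : V ≃ₗ[F] V) : V →ₗ[F] V) - 1)

theorem movedSpace_orth {A : V ≃ₗ[F] V} (hA : ∀ u v, B (A u) (A v) = B u v) {v w : V}
    (hv : A (A v) = v) (hw : w ∈ movedSpace A) : B v w = 0 := by
  obtain ⟨u, rfl⟩ := hw
  show B v (A (A u) - u) = 0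
  rw [map_sub]
  conv_lhs => arg 1; rw [← hv, hA, hA]
  exact sub_self _

theorem movedSpace_map {A A' g : V ≃ₗ[F] V} (hg : ∀ v, g (A v) = A' (g v)) :
    (movedSpace A).map g.toLinearMap = movedSpace A' := by
  ext w
  constructor
  · rintro ⟨_, ⟨u, rfl⟩, rfl⟩
    refine ⟨g u, ?_⟩
    show A' (A' (g u)) - g u = g (A (A u) - u)
    rw [map_sub, hg, hg]
  · rintro ⟨u, rfl⟩
    refine ⟨_, ⟨g.symm u, rfl⟩, ?_⟩
    show g (A (A (g.symm u)) - g.symm u) = A' (A' u) - u
    rw [map_sub, hg, hg, LinearEquiv.apply_symm_apply]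

/-- Decomposition along `A² - 1`. -/
theorem movedSpace_decomp {A : V ≃ₗ[F] V} {N : ℕ} (hN : A ^ N = 1) (hNF : (N : F) ≠ 0) (v : V) :
    ∃ u ∈ movedSpace A, ∃ w, A (A w) = w ∧ v = u + w := by
  have hc := isCompl_range_ker (A ^ 2) (N := N) (by rw [← pow_mul, mul_comm, pow_mul, hN, one_pow]) hNF
  have hv : v ∈ LinearMap.range (((A ^ 2 : V ≃ₗ[F] V) : V →ₗ[F] V) - 1)
      ⊔ LinearMap.ker (((A ^ 2 : V ≃ₗ[F] V) : V →ₗ[F] V) - 1) := by
    rw [hc.sup_eq_top]; exact Submodule.mem_top
  obtain ⟨u, hu, w, hw, rfl⟩ := Submodule.mem_sup.1 hv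
  exact ⟨u, hu, w, sub_eq_zero.1 hw, rfl⟩

theorem movedSpace_fixed {A : V ≃ₗ[F] V} {N : ℕ} (hN : A ^ N = 1) (hNF : (N : F) ≠ 0) {v : V}
    (hv : v ∈ movedSpace A) (h : A (A v) = v) : v = 0 :=
  Submodule.disjoint_def.1 (isCompl_range_ker (A ^ 2) (N := N)
    (by rw [← pow_mul, mul_comm, pow_mul, hN, one_pow]) hNF).disjoint v hv (sub_eq_zero.2 h)

theorem movedSpace_apply_mem (A : V ≃ₗ[F] V) {v : V} (hv : v ∈ movedSpace A) :
    A v ∈ movedSpace A := by
  obtain ⟨u, rfl⟩ := hv
  refine ⟨A u, ?_⟩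
  show A (A (A u)) - A u = A (A (A u) - u)
  rw [map_sub]

theorem movedSpace_nondegenerate (hB : B.Nondegenerate) {ε : F} (hBs : ∀ u v, B u v = ε * B v u)
    {A : V ≃ₗ[F] V} (hA : ∀ u v, B (A u) (A v) = B u v) {N : ℕ} (hN : A ^ N = 1)
    (hNF : (N : F) ≠ 0) : (B.restrict (movedSpace A)).Nondegenerate := by
  have key : ∀ x ∈ movedSpace A, (∀ y ∈ movedSpace A, B x y = 0) → x = 0 := by
    intro x hx h
    refine hB.1 x fun y => ?_
    obtain ⟨u, hu, w, hw, rfl⟩ := movedSpace_decomp hN hNF y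
    rw [map_add, h u hu, hBs, movedSpace_orth B hA hw hx, mul_zero, add_zero]
  refine ⟨fun x hx => Subtype.ext (key x x.2 fun y hy => hx ⟨y, hy⟩), fun x hx => Subtype.ext
    (key x x.2 fun y hy => ?_)⟩
  rw [hBs]
  exact mul_eq_zero_of_right _ (hx ⟨y, hy⟩)

/-- The isometric intertwiner on the range of `A² - 1`. -/
theorem exists_isometry_intertwiner [Finite F] (hB : B.Nondegenerate) {ε : F} (hε : ε * ε = 1)
    (hBs : ∀ u v, B u v = ε * B v u) (A A' g : V ≃ₗ[F] V) (hA : ∀ u v, B (A u) (A v) = B u v)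
    (hA' : ∀ u v, B (A' u) (A' v) = B u v) (hg : ∀ v, g (A v) = A' (g v)) {N : ℕ}
    (hN : A ^ (N + 1) = 1) (hN' : A' ^ (N + 1) = 1) (hNF : ((N + 1 : ℕ) : F) ≠ 0) :
    ∃ φ : movedSpace A →ₗ[F] V, Function.Injective φ ∧
      LinearMap.range φ = movedSpace A' ∧ (∀ u v, B (φ u) (φ v) = B u v) ∧
      ∀ u : movedSpace A, φ ⟨A u, movedSpace_apply_mem A u.2⟩ = A' (φ u) := by
  set U := movedSpace A with hU
  let a : U ≃ₗ[F] U := LinearEquiv.ofInjectiveEndo
    ((A : V →ₗ[F] V).restrict (p := U) (q := U) fun v hv => movedSpace_apply_mem A hv)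
    (fun u v huv => Subtype.ext (A.injective (congrArg Subtype.val huv)))
  have ha : ∀ u : U, (a u : V) = A (u : V) := fun u => rfl
  have hapow : ∀ (k : ℕ) (u : U), ((a ^ k) u : V) = (A ^ k) (u : V) := by
    intro k u
    induction k with
    | zero => rfl
    | succ k ih => rw [pow_succ', LinearEquiv.mul_apply, pow_succ', LinearEquiv.mul_apply, ha, ih]
  let B₀ : LinearMap.BilinForm F U := B.restrict U
  let gU : U →ₗ[F] V := g.toLinearMap.comp U.subtype
  let B₁ : LinearMap.BilinForm F U := B.compl₁₂ gU gU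
  have hB₁ : ∀ u v, B₁ u v = B (g u) (g v) := fun u v => rfl
  have hmap := movedSpace_map hg
  have hB₁nd : B₁.Nondegenerate := by
    have hnd := movedSpace_nondegenerate B hB hBs hA' hN' hNF
    have hin : ∀ u : U, g (u : V) ∈ movedSpace A' := fun u => hmap ▸ ⟨u, u.2, rfl⟩
    have hout : ∀ w : movedSpace A', ∃ u : U, g (u : V) = (w : V) := fun w => by
      have hw : (w : V) ∈ U.map g.toLinearMap := hmap.symm ▸ w.2
      obtain ⟨u, hu, he⟩ := hw
      exact ⟨⟨u, hu⟩, he⟩
    refine ⟨fun u hu => ?_, fun u hu => ?_⟩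
    · have := hnd.1 ⟨g u, hin u⟩ fun w => by
        obtain ⟨v, hv⟩ := hout w
        show B (g u) (w : V) = 0
        rw [← hv]
        exact hu v
      exact Subtype.ext (g.map_eq_zero_iff.1 (congrArg Subtype.val this))
    · have := hnd.2 ⟨g u, hin u⟩ fun w => by
        obtain ⟨v, hv⟩ := hout w
        show B (w : V) (g u) = 0
        rw [← hv]
        exact hu v
      exact Subtype.ext (g.map_eq_zero_iff.1 (congrArg Subtype.val this))
  obtain ⟨x, hxa, hxB⟩ := exists_norm_intertwiner B₀ B₁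
    (movedSpace_nondegenerate B hB hBs hA hN hNF) hB₁nd hε (fun u v => hBs u v)
    (fun u v => hBs _ _) a (N := N)
    (LinearEquiv.ext fun u => Subtype.ext (by rw [hapow, hN]; rfl))
    (fun u v => hA u v) (fun u v => by rw [hB₁, hB₁, ha, ha, hg, hg, hA'])
    (fun u hu => Subtype.ext (movedSpace_fixed hN hNF u.2
      (by rw [← ha, ← ha]; exact congrArg Subtype.val hu)))
  refine ⟨gU.comp x.symm.toLinearMap, (g.injective.comp Subtype.val_injective).comp x.symm.injective,
    ?_, fun u v => ?_, fun u => ?_⟩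
  · rw [LinearMap.range_comp, LinearEquiv.range, Submodule.map_top, LinearMap.range_comp,
      Submodule.range_subtype]
    exact hmap
  · show B₁ (x.symm u) (x.symm v) = _
    rw [← hxB, LinearEquiv.apply_symm_apply, LinearEquiv.apply_symm_apply]
    rfl
  · have h1 : x.symm (a u) = a (x.symm u) := by
      apply x.injective
      rw [hxa, LinearEquiv.apply_symm_apply, LinearEquiv.apply_symm_apply]
    show g (x.symm (a u) : V) = A' (g (x.symm u : V))
    rw [h1, ha, hg]

/-- An intertwining isometry fixing complements pointwise is a conjugator. -/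
theorem conj_of_extension {A A' g : V ≃ₗ[F] V} (X : Submodule F V)
    (hX : ∀ x ∈ X, g (A x) = A' (g x)) (hdec : ∀ v, ∃ x ∈ X, ∃ w, A w = w ∧ v = x + w
      ∧ A' (g w) = g w) (v : V) : g (A v) = A' (g v) := by
  obtain ⟨x, hx, w, hw, rfl, hw'⟩ := hdec v
  rw [map_add, map_add, map_add, map_add, hX x hx, hw, hw']

/-- Semisimple isometries of odd order of a non-degenerate quadratic form. -/
theorem quadratic_conj [Finite F] (Q : QuadraticForm F V)
    (hQ : (QuadraticMap.polarBilin Q).Nondegenerate) (A A' g : V ≃ₗ[F] V)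
    (hA : ∀ v, Q (A v) = Q v) (hA' : ∀ v, Q (A' v) = Q v) (hg : ∀ v, g (A v) = A' (g v))
    {N : ℕ} (hN : A ^ (N + 1) = 1) (hN' : A' ^ (N + 1) = 1) (hNF : ((N + 1 : ℕ) : F) ≠ 0)
    (hodd : Odd (N + 1)) :
    ∃ h : V ≃ₗ[F] V, (∀ v, Q (h v) = Q v) ∧ ∀ v, h (A v) = A' (h v) := by
  let B : LinearMap.BilinForm F V := QuadraticMap.polarBilin Q
  obtain ⟨φ, hinj, hrange, hiso, hφA⟩ := exists_isometry_intertwiner B hQ (ε := 1) (one_mul 1)
    (fun u v => by rw [one_mul]; exact QuadraticMap.polar_comm _ u v) A A' g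
    (fun u v => polar_map_of_preserving (g := A) hA u v)
    (fun u v => polar_map_of_preserving (g := A') hA' u v) hg hN hN' hNF
  have hQφ : ∀ u, Q (φ u) = Q (u : V) := by
    have hadd : ∀ u v, Q (φ (u + v)) - Q ((u + v : movedSpace A) : V)
        = (Q (φ u) - Q (u : V)) + (Q (φ v) - Q (v : V)) := fun u v => by
      rw [map_add, Submodule.coe_add, QuadraticMap.map_add (⇑Q), QuadraticMap.map_add (⇑Q),
        show QuadraticMap.polar Q (φ u) (φ v) = QuadraticMap.polar Q (u : V) v from hiso u v]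
      ring
    have hinv : ∀ u : movedSpace A, Q (φ ⟨A u, movedSpace_apply_mem A u.2⟩) - Q (A (u : V))
        = Q (φ u) - Q (u : V) := fun u => by
      rw [hφA, hA', hA]
    rintro ⟨_, ⟨w, rfl⟩⟩
    obtain ⟨u₀, hu₀, w₀, hw₀, rfl⟩ := movedSpace_decomp hN hNF w
    have e : (⟨(((A ^ 2 : V ≃ₗ[F] V) : V →ₗ[F] V) - 1) (u₀ + w₀),
          LinearMap.mem_range_self _ _⟩ : movedSpace A)
        + ⟨u₀, hu₀⟩ = ⟨A (A u₀), movedSpace_apply_mem A (movedSpace_apply_mem A hu₀)⟩ := by
      apply Subtype.ext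
      show (A (A (u₀ + w₀)) - (u₀ + w₀)) + u₀ = A (A u₀)
      rw [map_add, map_add, hw₀]
      abel
    have h1 := hadd ⟨_, LinearMap.mem_range_self (((A ^ 2 : V ≃ₗ[F] V) : V →ₗ[F] V) - 1) (u₀ + w₀)⟩
      ⟨u₀, hu₀⟩
    rw [e] at h1
    have h2 := hinv ⟨A u₀, movedSpace_apply_mem A hu₀⟩
    have h3 := hinv ⟨u₀, hu₀⟩
    simp only at h1 h2 h3
    linear_combination -h1 + h2 + h3
  obtain ⟨ψ, hψ⟩ := LinearMap.exists_extend φ
  have hψ' : ∀ u : movedSpace A, ψ u = φ u := fun u => LinearMap.congr_fun hψ u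
  obtain ⟨h, hh, hhU⟩ := witt_quadratic_map Q hQ (movedSpace A) ψ
    (fun x hx h0 => by
      rw [hψ' ⟨x, hx⟩] at h0
      exact congrArg Subtype.val (hinj (h0.trans φ.map_zero.symm)))
    (fun x hx => by rw [hψ' ⟨x, hx⟩]; exact hQφ ⟨x, hx⟩)
  refine ⟨h, hh, conj_of_extension (movedSpace A) (fun x hx => ?_) fun v => ?_⟩
  · rw [hhU x hx, hhU (A x) (movedSpace_apply_mem A hx), hψ' ⟨x, hx⟩,
      hψ' ⟨A x, movedSpace_apply_mem A hx⟩]
    exact hφA ⟨x, hx⟩
  · have hsq : ∀ (C : V ≃ₗ[F] V) (w : V), C ^ (N + 1) = 1 → C (C w) = w → C w = w := by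
      intro C w hC hw
      obtain ⟨k, hk⟩ := hodd
      have hpow : ∀ j : ℕ, (C ^ (2 * j)) w = w := by
        intro j
        induction j with
        | zero => rfl
        | succ j ih =>
          rw [show 2 * (j + 1) = 2 * j + 1 + 1 by ring, pow_succ, pow_succ, LinearEquiv.mul_apply,
            LinearEquiv.mul_apply, hw, ih]
      have h1 : (C ^ (N + 1)) w = C w := by rw [hk, pow_succ', LinearEquiv.mul_apply, hpow]
      rw [hC] at h1
      exact h1.symm
    obtain ⟨u, hu, w, hw, rfl⟩ := movedSpace_decomp hN hNF v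
    refine ⟨u, hu, w, hsq A w hN hw, rfl, hsq A' _ hN' ?_⟩
    -- `h w` is orthogonal to the moved space of `A'`
    obtain ⟨u', hu', w', hw', heq⟩ := movedSpace_decomp hN' hNF (h w)
    suffices u' = 0 by rw [heq, this, zero_add]; exact hw'
    have hnd := movedSpace_nondegenerate B hQ (ε := 1)
      (fun u v => by rw [one_mul]; exact QuadraticMap.polar_comm _ u v)
      (fun u v => polar_map_of_preserving (g := A') hA' u v) hN' hNF
    refine congrArg Subtype.val (hnd.2 ⟨u', hu'⟩ fun y => ?_)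
    have hy : (y : V) ∈ LinearMap.range φ := hrange.symm ▸ y.2
    obtain ⟨t, ht⟩ := hy
    show B (y : V) u' = 0
    have h0 : B (y : V) (h w) = 0 := by
      rw [← ht, ← hψ' t, ← hhU t t.2]
      show QuadraticMap.polar Q (h t) (h w) = 0
      rw [polar_map_of_preserving hh, QuadraticMap.polar_comm]
      exact movedSpace_orth B (fun u v => polar_map_of_preserving (g := A) hA u v) hw t.2
    have h1 : B (y : V) w' = 0 := by
      show QuadraticMap.polar Q (y : V) w' = 0
      rw [QuadraticMap.polar_comm]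
      exact movedSpace_orth B (fun u v => polar_map_of_preserving (g := A') hA' u v) hw' y.2
    rw [heq, map_add, h1, add_zero] at h0
    exact h0

/-- A non-degenerate pair of subspaces of an alternating space of equal dimension are isometric. -/
theorem exists_isometry_subspaces (hA : B.IsAlt) (W W' : Submodule F V)
    (hW : (B.restrict W).Nondegenerate) (hW' : (B.restrict W').Nondegenerate)
    (hd : Module.finrank F W = Module.finrank F W') :
    ∃ e : W ≃ₗ[F] W', ∀ u v : W, B (e u : V) (e v : V) = B u v := by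
  obtain ⟨m, k, e, he⟩ := exists_symplectic_equiv (B.restrict W) fun x => hA x
  obtain ⟨m', k', e', he'⟩ := exists_symplectic_equiv (B.restrict W') fun x => hA x
  have hk : ∀ (W : Submodule F V) (_ : (B.restrict W).Nondegenerate) (m k : ℕ)
      (e : ((Fin m ⊕ Fin m) ⊕ Fin k → F) ≃ₗ[F] W),
      (∀ x y, (B.restrict W) (e x) (e y) = altStd m k x y) → k = 0 := by
    intro W hW m k e he
    by_contra hk
    have h := hW.1 (e (Pi.single (.inr ⟨0, Nat.pos_of_ne_zero hk⟩) 1)) fun y => by
      obtain ⟨z, rfl⟩ := e.surjective y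
      rw [he]
      simp [altStd]
    have h' := congrFun (e.map_eq_zero_iff.1 h) (.inr ⟨0, Nat.pos_of_ne_zero hk⟩)
    simp at h'
  obtain rfl := hk W hW m k e he
  obtain rfl := hk W' hW' m' k' e' he'
  obtain rfl : m = m' := by
    have h1 := e.finrank_eq
    have h2 := e'.finrank_eq
    simp at h1 h2
    omega
  refine ⟨e.symm.trans e', fun u v => ?_⟩
  obtain ⟨x, rfl⟩ := e.surjective u
  obtain ⟨y, rfl⟩ := e.surjective v
  rw [LinearEquiv.trans_apply, LinearEquiv.trans_apply, LinearEquiv.symm_apply_apply,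
    LinearEquiv.symm_apply_apply]
  exact (he' x y).trans (he x y).symm

/-- The `c`-eigenspace. -/
abbrev eigSub (A : V ≃ₗ[F] V) (c : F) : Submodule F V :=
  LinearMap.ker ((A : V →ₗ[F] V) - c • 1)

theorem mem_eigSub {A : V ≃ₗ[F] V} {c : F} {v : V} : v ∈ eigSub A c ↔ A v = c • v := by
  rw [LinearMap.mem_ker, LinearMap.sub_apply, sub_eq_zero]
  exact Iff.rfl

/-- Semisimple isometries of a non-degenerate alternating form. -/
theorem alternating_conj [Finite F] (hB : B.Nondegenerate) (halt : B.IsAlt)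
    (A A' g : V ≃ₗ[F] V) (hA : ∀ u v, B (A u) (A v) = B u v)
    (hA' : ∀ u v, B (A' u) (A' v) = B u v) (hg : ∀ v, g (A v) = A' (g v))
    {N : ℕ} (hN : A ^ (N + 1) = 1) (hN' : A' ^ (N + 1) = 1) (hNF : ((N + 1 : ℕ) : F) ≠ 0) :
    ∃ h : V ≃ₗ[F] V, (∀ u v, B (h u) (h v) = B u v) ∧ ∀ v, h (A v) = A' (h v) := by
  have hBs : ∀ u v, B u v = (-1 : F) * B v u := fun u v => by
    rw [neg_one_mul]; exact (LinearMap.IsAlt.neg halt v u).symm
  obtain ⟨φ, hinj, hrange, hiso, hφA⟩ := exists_isometry_intertwiner B hB (ε := -1) (by ring) hBs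
    A A' g hA hA' hg hN hN' hNF
  -- the `(-1)`-eigenspaces, in odd characteristic
  obtain ⟨Wm, Wm', hWm, hWm', e, he, hplus, hplus', hbot⟩ : ∃ (Wm Wm' : Submodule F V),
      (∀ x ∈ Wm, A x = -x) ∧ (∀ x ∈ Wm', A' x = -x) ∧ ∃ e : Wm ≃ₗ[F] Wm',
      (∀ u v : Wm, B (e u : V) (e v : V) = B u v) ∧
      (∀ w, A (A w) = w → ∃ a ∈ Wm, ∃ b, A b = b ∧ w = a + b) ∧
      (∀ w, A' (A' w) = w → (∀ a ∈ Wm', B a w = 0) → A' w = w) ∧ ((2 : F) = 0 → Wm = ⊥) := by
    by_cases h2 : (2 : F) = 0
    · have hfix : ∀ (C : V ≃ₗ[F] V), C ^ (N + 1) = 1 → ∀ w, C (C w) = w → C w = w := by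
        intro C hC w hw
        have hd := (isCompl_range_ker C (N := N + 1) hC hNF).disjoint
        have h1 : C w - w ∈ LinearMap.range ((C : V →ₗ[F] V) - 1) := ⟨w, rfl⟩
        have h2' : C w - w ∈ LinearMap.ker ((C : V →ₗ[F] V) - 1) := by
          rw [LinearMap.mem_ker]
          show C (C w - w) - (C w - w) = 0
          rw [map_sub, hw]
          have : w - C w - (C w - w) = (2 : F) • (w - C w) := by rw [two_smul]; abel
          rw [this, h2, zero_smul]
        exact sub_eq_zero.1 (Submodule.disjoint_def.1 hd _ h1 h2')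
      exact ⟨⊥, ⊥, fun x hx => by simp [(Submodule.mem_bot F).1 hx],
        fun x hx => by simp [(Submodule.mem_bot F).1 hx], LinearEquiv.refl F _, fun u v => rfl,
        fun w hw => ⟨0, Submodule.zero_mem _, w, hfix A hN w hw, (zero_add w).symm⟩,
        fun w hw _ => hfix A' hN' w hw, fun _ => rfl⟩
    · have hsplit : ∀ (C : V ≃ₗ[F] V) w, C (C w) = w →
          ∃ a ∈ eigSub C (-1), ∃ b, C b = b ∧ w = a + b := by
        intro C w hw
        refine ⟨(2 : F)⁻¹ • (w - C w), ?_, (2 : F)⁻¹ • (w + C w), ?_, ?_⟩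
        · rw [mem_eigSub, map_smul, map_sub, hw, neg_one_smul, ← smul_neg, neg_sub]
        · rw [map_smul, map_add, hw, add_comm]
        · rw [← smul_add, show w - C w + (w + C w) = (2 : F) • w by rw [two_smul]; abel, smul_smul,
            inv_mul_cancel₀ h2, one_smul]
      have hnd : ∀ C : V ≃ₗ[F] V, (∀ u v, B (C u) (C v) = B u v) → C ^ (N + 1) = 1 →
          (B.restrict (eigSub C (-1))).Nondegenerate := by
        intro C hC hCN
        have key : ∀ x ∈ eigSub C (-1), (∀ y ∈ eigSub C (-1), B x y = 0) → x = 0 := by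
          intro x hx h
          refine hB.1 x fun y => ?_
          have hx' := mem_eigSub.1 hx
          obtain ⟨u, hu, w, hw, rfl⟩ := movedSpace_decomp hCN hNF y
          obtain ⟨a, ha, b, hb, rfl⟩ := hsplit C w hw
          have hxu : B x u = 0 := movedSpace_orth B hC (by rw [hx', map_smul, hx', smul_smul]; simp) hu
          have hxb : B x b = 0 := by
            have h' := hC x b
            rw [hx', hb, map_smul, LinearMap.smul_apply, neg_one_smul] at h'
            have h'' : (2 : F) * B x b = 0 := by linear_combination -h'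
            exact (mul_eq_zero.1 h'').resolve_left h2
          rw [map_add, map_add, hxu, h a ha, hxb, add_zero, add_zero]
        exact ⟨fun x hx => Subtype.ext (key x x.2 fun y hy => hx ⟨y, hy⟩),
          fun x hx => Subtype.ext (key x x.2 fun y hy => by
            rw [hBs]; exact mul_eq_zero_of_right _ (hx ⟨y, hy⟩))⟩
      have hmap : (eigSub A (-1)).map g.toLinearMap = eigSub A' (-1) := by
        ext w
        constructor
        · rintro ⟨x, hx, rfl⟩
          rw [mem_eigSub]
          show A' (g x) = _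
          rw [← hg, mem_eigSub.1 hx, map_smul]
          rfl
        · intro hw
          refine ⟨g.symm w, mem_eigSub.2 (g.injective ?_), g.apply_symm_apply w⟩
          rw [hg, map_smul, g.apply_symm_apply]
          exact mem_eigSub.1 hw
      obtain ⟨e, he⟩ := exists_isometry_subspaces B halt _ _ (hnd A hA hN) (hnd A' hA' hN')
        (by rw [← hmap]; exact (LinearEquiv.finrank_map_eq g _).symm)
      refine ⟨_, _, fun x hx => by rw [mem_eigSub.1 hx, neg_one_smul],
        fun x hx => by rw [mem_eigSub.1 hx, neg_one_smul], e, he, hsplit A, fun w hw horth => ?_,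
        fun h => absurd h h2⟩
      obtain ⟨a, ha, b, hb, rfl⟩ := hsplit A' w hw
      have : a = 0 := congrArg Subtype.val ((hnd A' hA' hN').2 ⟨a, ha⟩ fun y => by
        show B (y : V) a = 0
        have h' := horth y y.2
        have h'' := hA' (y : V) b
        rw [mem_eigSub.1 y.2, hb, map_smul, LinearMap.smul_apply, neg_one_smul] at h''
        have h3 : (2 : F) * B (y : V) b = 0 := by linear_combination -h''
        rw [map_add, (mul_eq_zero.1 h3).resolve_left h2, add_zero] at h'
        exact h')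
      rw [this, zero_add, hb]
  have hsq : ∀ x ∈ Wm, A (A x) = x := fun x hx => by rw [hWm x hx, map_neg, hWm x hx, neg_neg]
  have hsq' : ∀ x ∈ Wm', A' (A' x) = x := fun x hx => by
    rw [hWm' x hx, map_neg, hWm' x hx, neg_neg]
  let incl : (movedSpace A × Wm) →ₗ[F] V := (movedSpace A).subtype.coprod Wm.subtype
  let tgt : (movedSpace A × Wm) →ₗ[F] V := φ.coprod (Wm'.subtype.comp e.toLinearMap)
  have hincl : Function.Injective incl := by
    rw [injective_iff_map_eq_zero]
    rintro ⟨u, w⟩ h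
    have h' : (u : V) + w = 0 := h
    have hu0 : (u : V) = 0 := movedSpace_fixed hN hNF u.2 (by
      rw [eq_neg_of_add_eq_zero_left h', map_neg, map_neg, hsq w w.2])
    rw [hu0, zero_add] at h'
    exact Prod.ext (Subtype.ext hu0) (Subtype.ext h')
  obtain ⟨inv, hinv⟩ := incl.exists_leftInverse_of_injective (LinearMap.ker_eq_bot.2 hincl)
  have hinv' : ∀ p, inv (incl p) = p := fun p => LinearMap.congr_fun hinv p
  let ψ : V →ₗ[F] V := tgt.comp inv
  have hψ : ∀ p, ψ (incl p) = φ p.1 + (e p.2 : V) := fun p => by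
    show tgt (inv (incl p)) = _
    rw [hinv']
    rfl
  have hφmem : ∀ u, φ u ∈ movedSpace A' := fun u => hrange ▸ LinearMap.mem_range_self φ u
  obtain ⟨h, hh, hhX⟩ := witt_alternating_map B hB halt (LinearMap.range incl) ψ
    (by
      rintro _ ⟨p, rfl⟩ h0
      rw [hψ] at h0
      have hu0 : φ p.1 = 0 := movedSpace_fixed hN' hNF (hφmem p.1) (by
        rw [eq_neg_of_add_eq_zero_left h0, map_neg, map_neg, hsq' _ (e p.2).2])
      rw [hu0, zero_add] at h0
      have hp : p = 0 := Prod.ext (hinj (hu0.trans φ.map_zero.symm))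
        (e.map_eq_zero_iff.1 (Subtype.ext h0))
      rw [hp, map_zero])
    (by
      rintro _ ⟨p, rfl⟩ _ ⟨q, rfl⟩
      rw [hψ, hψ]
      have e1 : B (φ p.1) (e q.2 : V) = 0 := by
        rw [hBs, movedSpace_orth B hA' (hsq' _ (e q.2).2) (hφmem p.1), mul_zero]
      have e2 : B (e p.2 : V) (φ q.1) = 0 := movedSpace_orth B hA' (hsq' _ (e p.2).2) (hφmem q.1)
      have e3 : B (p.1 : V) (q.2 : V) = 0 := by
        rw [hBs, movedSpace_orth B hA (hsq _ q.2.2) p.1.2, mul_zero]
      have e4 : B (p.2 : V) (q.1 : V) = 0 := movedSpace_orth B hA (hsq _ p.2.2) q.1.2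
      show B (φ p.1 + e p.2) (φ q.1 + e q.2) = B ((p.1 : V) + p.2) ((q.1 : V) + q.2)
      simp [e1, e2, e3, e4, hiso, he])
  refine ⟨h, hh, conj_of_extension (LinearMap.range incl) ?_ fun v => ?_⟩
  · rintro _ ⟨⟨u, w⟩, rfl⟩
    have hAi : A (incl (u, w)) = incl (⟨A u, movedSpace_apply_mem A u.2⟩, -w) := by
      show A ((u : V) + w) = A u + -(w : V)
      rw [map_add, hWm w w.2]
    rw [hAi, hhX _ ⟨_, rfl⟩, hhX _ ⟨_, rfl⟩, hψ, hψ, hφA, map_add, map_neg,
      hWm' _ (e w).2]
    rfl
  · obtain ⟨u, hu, w, hw, rfl⟩ := movedSpace_decomp hN hNF v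
    obtain ⟨a, ha, b, hb, rfl⟩ := hplus w hw
    refine ⟨u + a, ⟨(⟨u, hu⟩, ⟨a, ha⟩), rfl⟩, b, hb, (add_assoc u a b).symm, ?_⟩
    have hb0 : ∀ p, B (ψ (incl p)) (h b) = 0 := fun p => by
      rw [← hhX _ ⟨p, rfl⟩, hh]
      show B ((p.1 : V) + p.2) b = 0
      rw [map_add, LinearMap.add_apply, hBs (p.1 : V) b,
        movedSpace_orth B hA (by rw [hb, hb]) p.1.2, mul_zero, zero_add]
      by_cases h2 : (2 : F) = 0
      · have hp : (p.2 : V) = 0 := by
          exact (Submodule.mem_bot F).1 ((hbot h2) ▸ p.2.2)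
        rw [hp, map_zero, LinearMap.zero_apply]
      · have h' := hA (p.2 : V) b
        rw [hWm _ p.2.2, hb, map_neg, LinearMap.neg_apply] at h'
        have h'' : (2 : F) * B (p.2 : V) b = 0 := by linear_combination -h'
        exact (mul_eq_zero.1 h'').resolve_left h2
    obtain ⟨u', hu', w', hw', heq⟩ := movedSpace_decomp hN' hNF (h b)
    have hu0 : u' = 0 := by
      have hnd := movedSpace_nondegenerate B hB hBs hA' hN' hNF
      refine congrArg Subtype.val (hnd.2 ⟨u', hu'⟩ fun y => ?_)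
      have hy : (y : V) ∈ LinearMap.range φ := hrange.symm ▸ y.2
      obtain ⟨t, ht⟩ := hy
      have h0 := hb0 (t, 0)
      rw [hψ] at h0
      simp only [map_zero, Submodule.coe_zero, add_zero, ht, heq, map_add] at h0
      rw [hBs (y : V) w', movedSpace_orth B hA' hw' y.2, mul_zero, add_zero] at h0
      exact h0
    have hbw : h b = w' := by rw [heq, hu0, zero_add]
    rw [hbw]
    refine hplus' w' hw' fun a' ha' => ?_
    have h0 := hb0 (0, e.symm ⟨a', ha'⟩)
    rw [hψ, hbw] at h0
    simpa using h0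

end Cfsg.Agent.Forms
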