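import Cfsg.Agent.Lib.Forms.RegularSymplectic
import Cfsg.Agent.S2573
/-
Regular unipotent elements of `Sp_2m(q)`, `q` odd.
* `cay U` : `(U - 1) * (U + 1)⁻¹`
* `isConj_iff_sqType`, `exists_flip`, `card_centralizer`
-/

set_option autoImplicit false
set_option linter.unusedSectionVars false

namespace Cfsg.Agent.Forms.Regular

open Module

variable {F : Type*} [Field F] {V : Type*} [AddCommGroup V] [Module F V]

/-- The Cayley transform. -/
noncomputable def cay (U : Module.End F V) : Module.End F V := (U - 1) * Ring.inverse (U + 1)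

theorem isUnit_add_one (h2 : (2 : F) ≠ 0) {U : Module.End F V} (hU : IsNilpotent (U - 1)) :
    IsUnit (U + 1) := by
  rw [show U + 1 = algebraMap F (Module.End F V) 2 + (U - 1) by
    rw [map_ofNat, show (2 : Module.End F V) = 1 + 1 from one_add_one_eq_two.symm]; abel]
  exact hU.isUnit_add_left_of_commute ((isUnit_iff_ne_zero.2 h2).map _) (Algebra.commutes 2 (U - 1)).symm

theorem cay_spec {U : Module.End F V} (hu : IsUnit (U + 1)) :
    (1 - cay U) * U = 1 + cay U ∧ Commute (U - 1) (Ring.inverse (U + 1)) := by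
  obtain ⟨W, hW⟩ := hu
  have hcW : Commute (U - 1) (W : Module.End F V) := by
    rw [hW]
    exact ((Commute.refl U).sub_left (Commute.one_left U)).add_right (Commute.one_right _)
  have hinv : Ring.inverse (U + 1) = ((W⁻¹ : (Module.End F V)ˣ) : Module.End F V) := by
    rw [← hW, Ring.inverse_unit]
  refine ⟨?_, by rw [hinv]; exact hcW.units_inv_right⟩
  rw [cay, hinv]
  set Wi : Module.End F V := ((W⁻¹ : (Module.End F V)ˣ) : Module.End F V)
  have h1 : Wi * (U + 1) = 1 := by rw [← hW]; exact Units.inv_mul W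
  have h2 : Wi * U = 1 - Wi := by rw [eq_sub_iff_add_eq]; rw [mul_add, mul_one] at h1; exact h1
  rw [sub_mul, one_mul, mul_assoc, h2, mul_sub, mul_one]
  abel

theorem cay_semiconj {h U U' : Module.End F V} (hu : IsUnit (U + 1)) (hu' : IsUnit (U' + 1))
    (hc : SemiconjBy h U U') : SemiconjBy h (cay U) (cay U') := by
  have h1 : SemiconjBy h (U - 1) (U' - 1) := hc.sub_right (SemiconjBy.one_right h)
  obtain ⟨W, hW⟩ := hu
  obtain ⟨W', hW'⟩ := hu'
  have h2 : SemiconjBy h (W : Module.End F V) (W' : Module.End F V) := by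
    rw [hW, hW']; exact hc.add_right (SemiconjBy.one_right h)
  rw [cay, cay, ← hW, ← hW', Ring.inverse_unit, Ring.inverse_unit]
  exact h1.mul_right h2.units_inv_right

theorem semiconj_of_cay {h U U' : Module.End F V} (hu : IsUnit (U + 1)) (hu' : IsUnit (U' + 1))
    (hn : IsNilpotent (cay U')) (hc : SemiconjBy h (cay U) (cay U')) : SemiconjBy h U U' := by
  refine hn.isUnit_one_sub.mul_right_injective ?_
  show (1 - cay U') * (h * U) = (1 - cay U') * (U' * h)
  rw [← mul_assoc, ← ((SemiconjBy.one_right h).sub_right hc).eq, mul_assoc, (cay_spec hu).1,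
    ← mul_assoc, (cay_spec hu').1, ((SemiconjBy.one_right h).add_right hc).eq]

variable {m : ℕ}

/-- The linear map of a symplectic matrix. -/
abbrev spLin (u : Matrix.symplecticGroup (Fin m) F) : Module.End F (Fin m ⊕ Fin m → F) :=
  Matrix.mulVecLin (u : Matrix (Fin m ⊕ Fin m) (Fin m ⊕ Fin m) F)

theorem spLin_mul (u v : Matrix.symplecticGroup (Fin m) F) : spLin (u * v) = spLin u * spLin v :=
  Matrix.mulVecLin_mul _ _

theorem spLin_injective : Function.Injective (spLin (F := F) (m := m)) := fun _ _ h =>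
  Subtype.ext (Matrix.ext_iff_mulVec.2 fun x => LinearMap.congr_fun h x)

/-- A regular unipotent element. -/
def IsRegUnip (u : Matrix.symplecticGroup (Fin m) F) : Prop :=
  ((u : Matrix (Fin m ⊕ Fin m) (Fin m ⊕ Fin m) F) - 1) ^ (2 * m) = 0 ∧
    ((u : Matrix (Fin m ⊕ Fin m) (Fin m ⊕ Fin m) F) - 1).rank = 2 * m - 1

theorem sympB_nd : (GLOrder.sympB m F).Nondegenerate :=
  ⟨GLOrder.sympB_nondeg, fun v hv => GLOrder.sympB_nondeg v fun u => by
    rw [GLOrder.sympB_swap, hv, neg_zero]⟩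

theorem regSkew_cay (h2 : (2 : F) ≠ 0) (hm : 1 ≤ m) {u : Matrix.symplecticGroup (Fin m) F}
    (hu : IsRegUnip u) : RegSkew (GLOrder.sympB m F) (cay (spLin u)) m := by
  set U := spLin u with hU
  set N := Matrix.mulVecLin ((u : Matrix (Fin m ⊕ Fin m) (Fin m ⊕ Fin m) F) - 1) with hN
  have hUN : U - 1 = N := LinearMap.ext fun x => by simp [hU, hN, Matrix.sub_mulVec]
  have hpow : N ^ (2 * m) = 0 := by
    rw [hN, ← S2573.mulVecLin_pow, hu.1, Matrix.mulVecLin_zero]
  have hnil : IsNilpotent (U - 1) := ⟨2 * m, by rw [hUN, hpow]⟩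
  have hcard : Fintype.card (Fin m ⊕ Fin m) = 2 * m := by simp [two_mul]
  have hne : N ^ (2 * m - 1) ≠ 0 := fun h0 => by
    have h1 := S2573.finrank_ker_pow_le N (S2573.ker_le_one _ hcard hu.2) (2 * m - 1)
    rw [h0, LinearMap.ker_zero, finrank_top, GLOrder.finrank_sympSpace] at h1
    omega
  have hunit := isUnit_add_one h2 hnil
  obtain ⟨-, hcomm⟩ := cay_spec hunit
  have hLpow : ∀ k, cay U ^ k = N ^ k * Ring.inverse (U + 1) ^ k := fun k => by
    rw [cay, hcomm.mul_pow, hUN]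
  refine ⟨sympB_nd, GLOrder.sympB_self, h2, hm, GLOrder.finrank_sympSpace, fun x y => ?_,
    by rw [hLpow, hpow, zero_mul], fun h0 => hne ?_⟩
  · obtain ⟨W, hW⟩ := hunit
    have hsol : ∀ x, ∃ a, x = U a + a ∧ cay U x = U a - a := fun x => by
      refine ⟨((W⁻¹ : (Module.End F (Fin m ⊕ Fin m → F))ˣ) : Module.End F (Fin m ⊕ Fin m → F)) x, ?_, ?_⟩
      · have := LinearMap.congr_fun (Units.mul_inv W) x
        rw [hW] at this
        exact this.symm
      · rw [cay, ← hW, Ring.inverse_unit]; rfl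
    obtain ⟨a, rfl, ha⟩ := hsol x
    obtain ⟨b, rfl, hb⟩ := hsol y
    rw [ha, hb]
    have hi : GLOrder.sympB m F (U a) (U b) = GLOrder.sympB m F a b := GLOrder.sympB_mulVec u a b
    simp only [map_add, map_sub, LinearMap.add_apply, LinearMap.sub_apply, hi]
    ring
  · rw [hLpow] at h0
    obtain ⟨W, hW⟩ := hunit
    rw [← hW, Ring.inverse_unit, ← Units.val_pow_eq_pow_val] at h0
    exact (Units.mul_left_eq_zero _).1 h0

theorem isUnit_spLin_add (h2 : (2 : F) ≠ 0) {u : Matrix.symplecticGroup (Fin m) F}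
    (hu : IsRegUnip u) : IsUnit (spLin u + 1) := by
  refine isUnit_add_one h2 ⟨2 * m, ?_⟩
  rw [show spLin u - 1 = Matrix.mulVecLin ((u : Matrix (Fin m ⊕ Fin m) (Fin m ⊕ Fin m) F) - 1) from
    LinearMap.ext fun x => by simp [Matrix.sub_mulVec], ← S2573.mulVecLin_pow, hu.1, Matrix.mulVecLin_zero]

theorem exists_sp_of_isometry (g : Module.End F (Fin m ⊕ Fin m → F))
    (hg : ∀ x y, GLOrder.sympB m F (g x) (g y) = GLOrder.sympB m F x y) :
    ∃ c : Matrix.symplecticGroup (Fin m) F, spLin c = g :=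
  ⟨⟨LinearMap.toMatrix' g, (GLOrder.mem_symplecticGroup_iff_preserves _).2 fun x y => by
    rw [LinearMap.toMatrix'_mulVec, LinearMap.toMatrix'_mulVec, hg]⟩,
    LinearMap.ext fun x => LinearMap.toMatrix'_mulVec g x⟩

theorem semiconj_iff (h2 : (2 : F) ≠ 0) (hm : 1 ≤ m) {u v c : Matrix.symplecticGroup (Fin m) F}
    (hu : IsRegUnip u) (hv : IsRegUnip v) :
    c * u = v * c ↔ SemiconjBy (spLin c) (cay (spLin u)) (cay (spLin v)) := by
  constructor
  · intro h
    refine cay_semiconj (isUnit_spLin_add h2 hu) (isUnit_spLin_add h2 hv) ?_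
    rw [SemiconjBy, ← spLin_mul, h, spLin_mul]
  · intro h
    refine spLin_injective ?_
    rw [spLin_mul, spLin_mul]
    exact semiconj_of_cay (isUnit_spLin_add h2 hu) (isUnit_spLin_add h2 hv)
      ⟨2 * m, (regSkew_cay h2 hm hv).nil⟩ h

theorem isConj_iff_sqType [Finite F] (h2 : (2 : F) ≠ 0) (hm : 1 ≤ m)
    {u v : Matrix.symplecticGroup (Fin m) F} (hu : IsRegUnip u) (hv : IsRegUnip v) :
    IsConj u v ↔ (IsSqType (GLOrder.sympB m F) (cay (spLin u)) m ↔
      IsSqType (GLOrder.sympB m F) (cay (spLin v)) m) := by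
  have key : ∀ {u v c : Matrix.symplecticGroup (Fin m) F}, IsRegUnip u → IsRegUnip v →
      c * u = v * c → IsSqType (GLOrder.sympB m F) (cay (spLin u)) m →
        IsSqType (GLOrder.sympB m F) (cay (spLin v)) m := by
    rintro u v c hu hv hc ⟨x, hx⟩
    refine ⟨spLin c x, ?_⟩
    have h1 := LinearMap.congr_fun (((semiconj_iff h2 hm hu hv).1 hc).pow_right (2 * m - 1)).eq x
    rw [Module.End.mul_apply, Module.End.mul_apply] at h1
    rw [← h1]
    exact (GLOrder.sympB_mulVec c _ _).trans hx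
  constructor
  · intro h
    obtain ⟨c, hc⟩ := isConj_iff.1 h
    have hc' : c * u = v * c := mul_inv_eq_iff_eq_mul.1 hc
    refine ⟨key hu hv hc', key hv hu (c := c⁻¹) ?_⟩
    rw [← hc]; group
  · intro h
    obtain ⟨g, hg, hgL⟩ := exists_intertwiner (regSkew_cay h2 hm hu) (regSkew_cay h2 hm hv) h
    obtain ⟨c, hc⟩ := exists_sp_of_isometry g.toLinearMap hg
    refine isConj_iff.2 ⟨c, mul_inv_eq_iff_eq_mul.2 ((semiconj_iff h2 hm hu hv).2 ?_)⟩
    rw [hc]
    exact LinearMap.ext hgL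

theorem exists_regUnip (hm : 1 ≤ m) : ∃ u : Matrix.symplecticGroup (Fin m) F, IsRegUnip u := by
  obtain ⟨l, rfl⟩ : ∃ l, m = l + 1 := ⟨m - 1, by omega⟩
  obtain ⟨A, hA⟩ := Unip.exists_symplectic_of_realizes (m := l + 1) (Unip.realizes_single_even (F := F) l)
    (by simp)
  refine ⟨A, ?_, by simpa using hA 1⟩
  have h0 := hA (2 * (l + 1))
  simp only [Multiset.map_singleton, Multiset.sum_singleton, Nat.sub_self] at h0
  rw [Matrix.rank, Submodule.finrank_eq_zero, LinearMap.range_eq_bot] at h0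
  exact Matrix.ext_iff_mulVec.2 fun v => by
    have := LinearMap.congr_fun h0 v
    simpa using this

/-- The other class. -/
theorem exists_flip [Finite F] (h2 : (2 : F) ≠ 0) (hm : 1 ≤ m) {u : Matrix.symplecticGroup (Fin m) F}
    (hu : IsRegUnip u) :
    ∃ v : Matrix.symplecticGroup (Fin m) F, IsRegUnip v ∧ ¬ IsConj u v := by
  classical
  haveI := Fintype.ofFinite F
  obtain ⟨α, hα⟩ := FiniteField.exists_nonsquare (F := F) (fun h => h2 (by
    haveI : CharP F 2 := ringChar.of_eq h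
    exact CharTwo.two_eq_zero))
  have hα0 : α ≠ 0 := fun h => hα (h ▸ IsSquare.zero)
  let D : Matrix (Fin m ⊕ Fin m) (Fin m ⊕ Fin m) F := Matrix.diagonal (Sum.elim (fun _ => α) fun _ => 1)
  let D' : Matrix (Fin m ⊕ Fin m) (Fin m ⊕ Fin m) F := Matrix.diagonal (Sum.elim (fun _ => α⁻¹) fun _ => 1)
  have hDD : D * D' = 1 ∧ D' * D = 1 := by
    simp only [D, D', Matrix.diagonal_mul_diagonal]
    constructor <;> (ext i j; rcases i with i | i <;> rcases j with j | j <;>
      simp [Matrix.diagonal_apply, Matrix.one_apply, hα0])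
  have hsim : ∀ x y, GLOrder.sympB m F (D.mulVec x) (D.mulVec y) = α * GLOrder.sympB m F x y := fun x y => by
    rw [GLOrder.sympB_apply, GLOrder.sympB_apply, Finset.mul_sum]
    refine Finset.sum_congr rfl fun i _ => ?_
    simp [D, Matrix.mulVec_diagonal]
    ring
  set A : Matrix (Fin m ⊕ Fin m) (Fin m ⊕ Fin m) F := (u : Matrix (Fin m ⊕ Fin m) (Fin m ⊕ Fin m) F) with hA
  have hDi : ∀ x, D.mulVec (D'.mulVec x) = x ∧ D'.mulVec (D.mulVec x) = x := fun x => by
    simp [Matrix.mulVec_mulVec, hDD.1, hDD.2]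
  let v : Matrix.symplecticGroup (Fin m) F := ⟨D * A * D', (GLOrder.mem_symplecticGroup_iff_preserves _).2 fun x y => by
    simp only [← Matrix.mulVec_mulVec]
    rw [hsim, GLOrder.sympB_mulVec, ← hsim, (hDi x).1, (hDi y).1]⟩
  let W : (Matrix (Fin m ⊕ Fin m) (Fin m ⊕ Fin m) F)ˣ := ⟨D, D', hDD.1, hDD.2⟩
  have hsub : (v : Matrix (Fin m ⊕ Fin m) (Fin m ⊕ Fin m) F) - 1 = D * (A - 1) * D' := by
    show D * A * D' - 1 = _
    rw [mul_sub, sub_mul, mul_one, hDD.1]
  have hv : IsRegUnip v := by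
    refine ⟨?_, ?_⟩
    · rw [hsub, show D * (A - 1) * D' = (W : Matrix _ _ F) * (A - 1) * ((W⁻¹ : (Matrix (Fin m ⊕ Fin m) (Fin m ⊕ Fin m) F)ˣ) : Matrix _ _ F) from rfl,
        Units.conj_pow, hA, hu.1, mul_zero, zero_mul]
    · rw [hsub, Matrix.rank_mul_eq_left_of_isUnit_det D' _ ((Matrix.isUnit_iff_isUnit_det _).1 (W⁻¹).isUnit),
        Matrix.rank_mul_eq_right_of_isUnit_det D _ ((Matrix.isUnit_iff_isUnit_det _).1 W.isUnit), hA, hu.2]
  refine ⟨v, hv, fun hconj => ?_⟩
  have hs := (isConj_iff_sqType h2 hm hu hv).1 hconj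
  have hsc : SemiconjBy (Matrix.mulVecLin D) (cay (spLin u)) (cay (spLin v)) := by
    refine cay_semiconj (isUnit_spLin_add h2 hu) (isUnit_spLin_add h2 hv) (LinearMap.ext fun x => ?_)
    show D.mulVec (A.mulVec x) = (D * A * D').mulVec (D.mulVec x)
    rw [← Matrix.mulVec_mulVec, ← Matrix.mulVec_mulVec, (hDi x).2]
  have h := regSkew_cay h2 hm hu
  have h' := regSkew_cay h2 hm hv
  obtain ⟨e, he⟩ := h.exists_gen
  have hcm := LinearMap.congr_fun (hsc.pow_right (2 * m - 1)).eq e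
  simp only [Module.End.mul_apply, Matrix.mulVecLin_apply] at hcm
  have he' : (cay (spLin v) ^ (2 * m - 1)) (D.mulVec e) ≠ 0 := by
    rw [← hcm]
    intro h0
    exact he (by rw [← (hDi ((cay (spLin u) ^ (2 * m - 1)) e)).2, h0, Matrix.mulVec_zero])
  rw [h.sqType_iff he, h'.sqType_iff he', ← hcm, hsim] at hs
  set β := GLOrder.sympB m F e ((cay (spLin u) ^ (2 * m - 1)) e)
  have hβ : β ≠ 0 := h.top_ne_zero he
  obtain ⟨r, hr⟩ := isSquare_div (mul_ne_zero hα0 hβ) hβ hs.symm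
  exact hα ⟨r, by rw [← hr, mul_div_cancel_right₀ _ hβ]⟩

theorem card_centralizer [Finite F] (h2 : (2 : F) ≠ 0) (hm : 1 ≤ m) {u : Matrix.symplecticGroup (Fin m) F}
    (hu : IsRegUnip u) :
    Nat.card ↥(Subgroup.centralizer ({u} : Set ↥(Matrix.symplecticGroup (Fin m) F)))
      = 2 * Nat.card F ^ m := by
  rw [← (regSkew_cay h2 hm hu).card_isometry_commutant]
  refine Nat.card_eq_of_bijective (fun c => ⟨spLin c.1,
    ((semiconj_iff h2 hm hu hu).1 (Subgroup.mem_centralizer_singleton_iff.1 c.2)).eq.symm,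
    GLOrder.sympB_mulVec c.1⟩) ⟨fun c d h => Subtype.ext (spLin_injective (congrArg Subtype.val h)), ?_⟩
  rintro ⟨x, hxc, hxi⟩
  obtain ⟨c, hc⟩ := exists_sp_of_isometry x hxi
  exact ⟨⟨c, Subgroup.mem_centralizer_singleton_iff.2 ((semiconj_iff h2 hm hu hu).2 (by rw [hc]; exact hxc.symm))⟩,
    Subtype.ext hc⟩

end Cfsg.Agent.Forms.Regular
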