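import Cfsg.Agent.Lib.Forms.UnipotentModels
/-
Regular nilpotent skew endomorphisms of a symplectic space, odd characteristic.
* `RegSkew B L m` : `L` skew, `L ^ (2m) = 0 ≠ L ^ (2m-1)` in dimension `2m`
* `card_isometry_commutant` : `2 q^m` isometries commute with `L`
* `IsSqType`, `exists_normal`, `exists_intertwiner` : two classes
-/

set_option autoImplicit false
set_option linter.unusedSectionVars false

namespace Cfsg.Agent.Forms.Regular

open Module

variable {F V : Type*} [Field F] [AddCommGroup V] [Module F V]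

/-- A skew nilpotent endomorphism with one chain. -/
structure RegSkew (B : LinearMap.BilinForm F V) (L : Module.End F V) (m : ℕ) : Prop where
  nd : B.Nondegenerate
  alt : B.IsAlt
  two : (2 : F) ≠ 0
  pos : 1 ≤ m
  dim : finrank F V = 2 * m
  skew : ∀ x y, B (L x) y = -B x (L y)
  nil : L ^ (2 * m) = 0
  reg : L ^ (2 * m - 1) ≠ 0

variable {B : LinearMap.BilinForm F V} {L : Module.End F V} {m : ℕ}

theorem RegSkew.adjoint (h : RegSkew B L m) (i : ℕ) : ∀ x y, B ((L ^ i) x) y = (-1) ^ i * B x ((L ^ i) y) := by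
  induction i with
  | zero => intro x y; simp
  | succ i ih =>
    intro x y
    rw [pow_succ, Module.End.mul_apply, ih, h.skew, pow_succ (-1 : F), ← Module.End.mul_apply,
      ← pow_succ', pow_succ]
    ring

theorem RegSkew.even_zero (h : RegSkew B L m) {i : ℕ} (hi : Even i) (x : V) : B x ((L ^ i) x) = 0 := by
  have h1 := h.adjoint i x x
  rw [Even.neg_one_pow hi, one_mul, ← LinearMap.IsAlt.neg h.alt x ((L ^ i) x)] at h1
  have h2 : (2 : F) * B x ((L ^ i) x) = 0 := by linear_combination -h1
  exact (mul_eq_zero.1 h2).resolve_left h.two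

theorem RegSkew.pow_zero_of_le (h : RegSkew B L m) {i : ℕ} (hi : 2 * m ≤ i) : L ^ i = 0 := by
  rw [← Nat.sub_add_cancel hi, pow_add, h.nil, mul_zero]

theorem RegSkew.exists_gen (h : RegSkew B L m) : ∃ e, (L ^ (2 * m - 1)) e ≠ 0 := by
  by_contra! hall
  exact h.reg (LinearMap.ext hall)

theorem RegSkew.indep (h : RegSkew B L m) {e : V} (he : (L ^ (2 * m - 1)) e ≠ 0) :
    LinearIndependent F fun i : Fin (2 * m) => (L ^ (i : ℕ)) e := by
  rw [Fintype.linearIndependent_iff]
  intro g hg
  suffices key : ∀ k : ℕ, ∀ i : Fin (2 * m), (i : ℕ) < k → g i = 0 from fun i => key _ i (Nat.lt_succ_self _)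
  intro k
  induction k with
  | zero => intro i hi; omega
  | succ k ih =>
    intro i hi
    rcases Nat.lt_or_ge (i : ℕ) k with hlt | hge
    · exact ih i hlt
    have hik : (i : ℕ) = k := by omega
    have h1 := congrArg (L ^ (2 * m - 1 - k)) hg
    rw [map_sum, map_zero, Finset.sum_eq_single i] at h1
    · rw [map_smul, ← Module.End.mul_apply, ← pow_add,
        show 2 * m - 1 - k + (i : ℕ) = 2 * m - 1 by omega] at h1
      exact (smul_eq_zero.1 h1).resolve_right he
    · intro j _ hj
      rcases Nat.lt_or_ge (j : ℕ) k with hjlt | hjge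
      · rw [ih j hjlt, zero_smul, map_zero]
      · have : (j : ℕ) ≠ k := fun h' => hj (Fin.ext (h'.trans hik.symm))
        rw [map_smul, ← Module.End.mul_apply, ← pow_add, h.pow_zero_of_le (by omega),
          LinearMap.zero_apply, smul_zero]
    · simp

theorem RegSkew.span_eq [FiniteDimensional F V] (h : RegSkew B L m) {e : V} (he : (L ^ (2 * m - 1)) e ≠ 0) :
    Submodule.span F (Set.range fun i : Fin (2 * m) => (L ^ (i : ℕ)) e) = ⊤ :=
  (h.indep he).span_eq_top_of_card_eq_finrank' (by rw [Fintype.card_fin, h.dim])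

theorem RegSkew.eq_zero_of_orth [FiniteDimensional F V] (h : RegSkew B L m) {e : V}
    (he : (L ^ (2 * m - 1)) e ≠ 0) {z : V} (hz : ∀ j, B e ((L ^ j) z) = 0) : z = 0 := by
  refine h.nd.2 z fun v => ?_
  have hv : v ∈ Submodule.span F (Set.range fun i : Fin (2 * m) => (L ^ (i : ℕ)) e) :=
    h.span_eq he ▸ Submodule.mem_top
  induction hv using Submodule.span_induction with
  | mem x hx => obtain ⟨i, rfl⟩ := hx; rw [h.adjoint, hz, mul_zero]
  | zero => simp
  | add x y _ _ hx hy => simp [hx, hy]
  | smul c x _ hx => simp [hx]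

theorem RegSkew.top_ne_zero [FiniteDimensional F V] (h : RegSkew B L m) {e : V}
    (he : (L ^ (2 * m - 1)) e ≠ 0) : B e ((L ^ (2 * m - 1)) e) ≠ 0 := by
  intro h0
  refine he (h.eq_zero_of_orth he fun j => ?_)
  rw [← Module.End.mul_apply, ← pow_add]
  rcases Nat.eq_zero_or_pos j with rfl | hj
  · rwa [zero_add]
  · rw [h.pow_zero_of_le (by omega), LinearMap.zero_apply, map_zero]

/-- Even polynomials in `L`. -/
def evP (L : Module.End F V) (m : ℕ) : (Fin m → F) →ₗ[F] Module.End F V :=
  Fintype.linearCombination F fun k : Fin m => L ^ (2 * (k : ℕ))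

theorem evP_apply (a : Fin m → F) : evP L m a = ∑ k, a k • L ^ (2 * (k : ℕ)) := by
  simp [evP, Fintype.linearCombination_apply]

theorem RegSkew.evP_apply_vec (a : Fin m → F) (v : V) :
    evP L m a v = ∑ k, a k • (L ^ (2 * (k : ℕ))) v := by
  simp [evP_apply, LinearMap.sum_apply]

theorem commute_evP (a : Fin m → F) : Commute L (evP L m a) := by
  rw [evP_apply]
  exact Commute.sum_right _ _ _ fun k _ => ((Commute.refl L).pow_right _).smul_right _

theorem RegSkew.adjoint_evP (h : RegSkew B L m) (a : Fin m → F) (x y : V) :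
    B (evP L m a x) y = B x (evP L m a y) := by
  simp [evP_apply, LinearMap.sum_apply, h.adjoint, Even.neg_one_pow (even_two_mul _)]

theorem RegSkew.adjoint_odd (h : RegSkew B L m) (a : Fin m → F) (x y : V) :
    B ((L * evP L m a) x) y = -B x ((L * evP L m a) y) := by
  rw [Module.End.mul_apply, h.skew, h.adjoint_evP, ← Module.End.mul_apply, ← (commute_evP a).eq]

/-- An element of the commutant is even plus odd. -/
theorem RegSkew.exists_even_odd [FiniteDimensional F V] (h : RegSkew B L m) {x : Module.End F V}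
    (hx : Commute L x) : ∃ a b : Fin m → F, x = evP L m a + L * evP L m b := by
  obtain ⟨e, he⟩ := h.exists_gen
  obtain ⟨c, hc⟩ := (Submodule.mem_span_range_iff_exists_fun F).1
    (h.span_eq he ▸ Submodule.mem_top : x e ∈ Submodule.span F (Set.range fun i : Fin (2 * m) => (L ^ (i : ℕ)) e))
  let a : Fin m → F := fun k => c ⟨2 * k, by omega⟩
  let b : Fin m → F := fun k => c ⟨2 * k + 1, by omega⟩
  refine ⟨a, b, ?_⟩
  set y := evP L m a + L * evP L m b with hy
  have hyc : Commute L y :=
    (commute_evP a).add_right ((Commute.refl L).mul_right (commute_evP b))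
  have he' : x e = y e := by
    rw [← hc, hy, LinearMap.add_apply, Module.End.mul_apply, RegSkew.evP_apply_vec,
      RegSkew.evP_apply_vec, map_sum, ← Finset.sum_add_distrib]
    let σ : Fin m × Fin 2 ≃ Fin (2 * m) := finProdFinEquiv.trans (finCongr (Nat.mul_comm m 2))
    rw [← σ.sum_comp, Fintype.sum_prod_type]
    refine Finset.sum_congr rfl fun k _ => ?_
    rw [Fin.sum_univ_two]
    have e0 : σ (k, 0) = ⟨2 * k, by omega⟩ := Fin.ext (by simp [σ])
    have e1 : σ (k, 1) = ⟨2 * k + 1, by omega⟩ := Fin.ext (by simp [σ, Nat.add_comm])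
    rw [e0, e1, map_smul, ← Module.End.mul_apply, ← pow_succ']
  refine LinearMap.ext fun v => ?_
  have hv : v ∈ Submodule.span F (Set.range fun i : Fin (2 * m) => (L ^ (i : ℕ)) e) :=
    h.span_eq he ▸ Submodule.mem_top
  induction hv using Submodule.span_induction with
  | mem v hv =>
    obtain ⟨i, rfl⟩ := hv
    show x ((L ^ (i : ℕ)) e) = y ((L ^ (i : ℕ)) e)
    rw [← Module.End.mul_apply, ← Module.End.mul_apply, ← (hx.pow_left _).eq, ← (hyc.pow_left _).eq,
      Module.End.mul_apply, Module.End.mul_apply, he']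
  | zero => simp
  | add u v _ _ hu hv => rw [map_add, map_add, hu, hv]
  | smul c v _ hv => rw [map_smul, map_smul, hv]

theorem RegSkew.evP_injective [FiniteDimensional F V] (h : RegSkew B L m) :
    Function.Injective fun b : Fin m → F => L * evP L m b := by
  obtain ⟨e, he⟩ := h.exists_gen
  intro b b' hbb
  have h0 : (L * evP L m (b - b')) e = 0 := by
    rw [map_sub, mul_sub, LinearMap.sub_apply]
    exact sub_eq_zero.2 (LinearMap.congr_fun hbb e)
  rw [Module.End.mul_apply, RegSkew.evP_apply_vec, map_sum] at h0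
  simp only [map_smul, ← Module.End.mul_apply, ← pow_succ'] at h0
  have hli := (h.indep he).comp (fun k : Fin m => (⟨2 * k + 1, by omega⟩ : Fin (2 * m)))
    (fun k k' hk => Fin.ext (by simpa using hk))
  exact sub_eq_zero.1 (funext (Fintype.linearIndependent_iff.1 hli _ h0))

/-- Square roots of unipotent elements in a finite ring. -/
theorem exists_unique_sqrt {R : Type*} [CommRing R] [Finite R] (h2 : IsUnit (2 : R)) :
    (∀ a : R, IsNilpotent a → ∃ b, IsNilpotent b ∧ (1 + b) * (1 + b) = 1 + a) ∧
      ∀ b c : R, IsNilpotent b → IsNilpotent c → (1 + b) * (1 + b) = (1 + c) * (1 + c) → b = c := by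
  have huniq : ∀ b c : R, IsNilpotent b → IsNilpotent c → (1 + b) * (1 + b) = (1 + c) * (1 + c) → b = c := by
    intro b c hb hc hbc
    have hu : IsUnit (2 + (b + c)) :=
      IsNilpotent.isUnit_add_left_of_commute (Commute.isNilpotent_add (Commute.all b c) hb hc) h2 (Commute.all _ _)
    exact sub_eq_zero.1 (hu.mul_right_eq_zero.1 (by linear_combination hbc))
  refine ⟨fun a ha => ?_, huniq⟩
  let f : {b : R // IsNilpotent b} → {b : R // IsNilpotent b} := fun b =>
    ⟨b.1 * (2 + b.1), Commute.isNilpotent_mul_right (Commute.all _ _) b.2⟩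
  have hf : Function.Injective f := fun b c hbc =>
    Subtype.ext (huniq _ _ b.2 c.2 (by
      have := congrArg Subtype.val hbc
      simp only [f] at this
      linear_combination this))
  obtain ⟨b, hb⟩ := (Finite.injective_iff_surjective.1 hf) ⟨a, ha⟩
  exact ⟨b.1, b.2, by linear_combination congrArg Subtype.val hb⟩

theorem evP_mem_adjoin (a : Fin m → F) : evP L m a ∈ Algebra.adjoin F ({L * L} : Set (Module.End F V)) := by
  rw [evP_apply]
  refine Subalgebra.sum_mem _ fun k _ => Subalgebra.smul_mem _ ?_ _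
  rw [pow_mul, pow_two]
  exact Subalgebra.pow_mem _ (Algebra.subset_adjoin (Set.mem_singleton (L * L))) _

theorem exists_evP_of_mem (hnil : L ^ (2 * m) = 0) {x : Module.End F V}
    (hx : x ∈ Algebra.adjoin F ({L * L} : Set (Module.End F V))) : ∃ a : Fin m → F, x = evP L m a := by
  rw [Algebra.adjoin_singleton_eq_range_aeval] at hx
  obtain ⟨p, rfl⟩ := hx
  refine ⟨fun k => p.coeff k, ?_⟩
  change Polynomial.aeval (L * L) p = _
  rw [evP_apply, Polynomial.aeval_eq_sum_range' (n := max m (p.natDegree + 1)) (by omega),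
    Fin.sum_univ_eq_sum_range (fun k => p.coeff k • L ^ (2 * k))]
  rw [Finset.sum_subset (Finset.range_mono (le_max_left m (p.natDegree + 1)))]
  · exact Finset.sum_congr rfl fun k _ => by rw [pow_mul, pow_two]
  · intro k _ hk
    rw [Finset.mem_range] at hk
    rw [show 2 * k = 2 * m + (2 * k - 2 * m) by omega, pow_add, hnil, zero_mul, smul_zero]

theorem adjoin_decomp (hnil : L ^ (2 * m) = 0) (x : Algebra.adjoin F ({L * L} : Set (Module.End F V))) :
    ∃ (c : F) (z : Algebra.adjoin F ({L * L} : Set (Module.End F V))),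
      IsNilpotent z ∧ x = algebraMap F _ c + z := by
  obtain ⟨p, hp⟩ : ∃ p : Polynomial F, Polynomial.aeval (L * L) p = (x : Module.End F V) := by
    exact (Algebra.adjoin_singleton_eq_range_aeval F (L * L)).le x.2
  set s : Algebra.adjoin F ({L * L} : Set (Module.End F V)) := ⟨L * L, Algebra.subset_adjoin (Set.mem_singleton (L * L))⟩
  have hs : IsNilpotent s := ⟨m, Subtype.ext (by
    show (L * L) ^ m = 0
    rw [← pow_two, ← pow_mul, hnil])⟩
  have hx : x = Polynomial.aeval s p := Subtype.ext (by rw [← hp, Polynomial.aeval_subalgebra_coe])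
  refine ⟨p.coeff 0, s * Polynomial.aeval s p.divX,
    Commute.isNilpotent_mul_right (Commute.all _ _) hs, ?_⟩
  conv_lhs => rw [hx, ← Polynomial.divX_mul_X_add p]
  rw [map_add, map_mul, Polynomial.aeval_X, Polynomial.aeval_C, add_comm, mul_comm]

theorem RegSkew.card_isometry_commutant [Finite F] [FiniteDimensional F V] (h : RegSkew B L m) :
    Nat.card {x : Module.End F V // Commute L x ∧ ∀ u v, B (x u) (x v) = B u v}
      = 2 * Nat.card F ^ m := by
  classical
  haveI : Finite V := Module.finite_of_finite F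
  haveI : Finite (Module.End F V) := Finite.of_injective (fun f => (f : V → V)) DFunLike.coe_injective
  let R := Algebra.adjoin F ({L * L} : Set (Module.End F V))
  letI : CommRing R := Algebra.adjoinCommRingOfComm F (by
    rintro _ rfl _ rfl; rfl)
  haveI : Finite R := Finite.of_injective _ Subtype.val_injective
  haveI hne : Nontrivial V := by
    obtain ⟨e, he⟩ := h.exists_gen
    exact ⟨⟨_, 0, he⟩⟩
  haveI : Nontrivial R := ⟨⟨1, 0, fun h10 => by
    obtain ⟨e, he⟩ := h.exists_gen
    have := congrArg (fun t : R => (t : Module.End F V) ((L ^ (2 * m - 1)) e)) h10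
    exact he this⟩⟩
  have h2R : IsUnit (2 : R) := by
    have := (isUnit_iff_ne_zero.2 h.two).map (algebraMap F R)
    rwa [map_ofNat] at this
  obtain ⟨hex, huniq⟩ := exists_unique_sqrt h2R
  let O : (Fin m → F) → Module.End F V := fun b => L * evP L m b
  have hOsq : ∀ b, O b * O b ∈ R := fun b => by
    have e1 : O b * O b = L * L * (evP L m b * evP L m b) := by
      simp only [O]
      rw [mul_assoc, ← mul_assoc (evP L m b), ← (commute_evP b).eq]
      simp only [mul_assoc]
    rw [e1]
    exact Subalgebra.mul_mem _ (Algebra.subset_adjoin (Set.mem_singleton (L * L)))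
      (Subalgebra.mul_mem _ (evP_mem_adjoin b) (evP_mem_adjoin b))
  have hOnil : ∀ b, IsNilpotent (⟨O b * O b, hOsq b⟩ : R) := fun b => by
    refine ⟨2 * m, Subtype.ext ?_⟩
    show (O b * O b) ^ (2 * m) = 0
    rw [← pow_two, ← pow_mul, (commute_evP b).mul_pow, h.pow_zero_of_le (by omega), zero_mul]
  choose β hβn hβ using fun b => hex _ (hOnil b)
  have hadjR : ∀ (s : R) (x y : V), B ((s : Module.End F V) x) y = B x ((s : Module.End F V) y) :=
    fun s x y => by
      obtain ⟨a, ha⟩ := exists_evP_of_mem h.nil s.2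
      rw [ha, h.adjoint_evP]
  have hadjO : ∀ b x y, B (O b x) y = -B x (O b y) := fun b => h.adjoint_odd b
  have hcomR : ∀ (s : R), Commute L (s : Module.End F V) := fun s => by
    obtain ⟨a, ha⟩ := exists_evP_of_mem h.nil s.2
    rw [ha]; exact commute_evP a
  have hcomO : ∀ b, Commute L (O b) := fun b => (Commute.refl L).mul_right (commute_evP b)
  have hcomRO : ∀ (s : R) b, Commute (s : Module.End F V) (O b) := fun s b => by
    refine (hcomR s).symm.mul_right ?_
    have := mul_comm s ⟨evP L m b, evP_mem_adjoin b⟩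
    exact congrArg Subtype.val this
  let eps : Bool → R := fun s => if s then 1 else -1
  let xs : Bool × (Fin m → F) → Module.End F V := fun p =>
    ((eps p.1 * (1 + β p.2) : R) : Module.End F V) + O p.2
  have hiso : ∀ (E : R) b, (∀ u v, B (((E : Module.End F V) + O b) u) (((E : Module.End F V) + O b) v) = B u v)
      ↔ ((E * E : R) : Module.End F V) = 1 + O b * O b := by
    intro E b
    have key : ∀ u v, B (((E : Module.End F V) + O b) u) (((E : Module.End F V) + O b) v)
        = B u ((((E * E : R) : Module.End F V) - O b * O b) v) := by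
      intro u v
      have hc := LinearMap.congr_fun (hcomRO E b).eq v
      simp only [Module.End.mul_apply] at hc
      simp only [LinearMap.add_apply, map_add, hadjR, hadjO, LinearMap.sub_apply, map_sub,
        Subalgebra.coe_mul, Module.End.mul_apply, hc]
      ring
    constructor
    · intro hi
      rw [← sub_eq_iff_eq_add]
      refine LinearMap.ext fun v => sub_eq_zero.1 (h.nd.2 _ fun u => ?_)
      rw [map_sub, ← key, hi, Module.End.one_apply, sub_self]
    · intro hE u v
      rw [key, hE, add_sub_cancel_right, Module.End.one_apply]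
  have heps : ∀ s, eps s * eps s = 1 := fun s => by cases s <;> simp [eps]
  have hxs : ∀ p, Commute L (xs p) ∧ ∀ u v, B (xs p u) (xs p v) = B u v := fun p => by
    refine ⟨(hcomR _).add_right (hcomO _), (hiso _ _).2 ?_⟩
    rw [mul_mul_mul_comm, heps, one_mul, hβ]
    rfl
  have hsep : ∀ (E E' : R) b b', (E : Module.End F V) + O b = (E' : Module.End F V) + O b' → E = E' ∧ b = b' := by
    intro E E' b b' heq
    have hb : b = b' := h.evP_injective (by
      refine LinearMap.ext fun v => sub_eq_zero.1 (h.nd.2 _ fun u => ?_)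
      have h1 := congrArg (fun f : Module.End F V => B u (f v)) heq
      have h2 := congrArg (fun f : Module.End F V => B (f u) v) heq
      simp only [LinearMap.add_apply, map_add, hadjR, hadjO] at h1 h2
      have h3 : (2 : F) * (B u (O b v) - B u (O b' v)) = 0 := by linear_combination h1 - h2
      rw [map_sub]
      exact (mul_eq_zero.1 h3).resolve_left h.two)
    subst hb
    exact ⟨Subtype.ext (add_right_cancel heq), rfl⟩
  rw [show 2 * Nat.card F ^ m = Nat.card (Bool × (Fin m → F)) by
    rw [Nat.card_prod, Nat.card_fun, Nat.card_eq_fintype_card (α := Bool), Fintype.card_bool,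
      Nat.card_eq_fintype_card (α := Fin m), Fintype.card_fin]]
  symm
  refine Nat.card_eq_of_bijective (fun p => ⟨xs p, hxs p⟩) ⟨?_, ?_⟩
  · rintro ⟨s, b⟩ ⟨s', b'⟩ hh
    obtain ⟨h1, rfl⟩ := hsep _ _ _ _ (congrArg Subtype.val hh)
    have hu : IsUnit (1 + β b) := (hβn b).isUnit_one_add
    have h3 := hu.mul_left_injective h1
    have h4 : (1 : R) ≠ -1 := fun h' => h2R.ne_zero (by linear_combination h')
    cases s <;> cases s' <;> simp [eps] at h3 ⊢
    · exact h4 h3.symm
    · exact h4 h3
  · rintro ⟨x, hxc, hxi⟩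
    obtain ⟨a, b, rfl⟩ := h.exists_even_odd hxc
    set E : R := ⟨evP L m a, evP_mem_adjoin a⟩
    have hE : E * E = 1 + ⟨O b * O b, hOsq b⟩ := Subtype.ext ((hiso E b).1 hxi)
    obtain ⟨c, z, hz, hEz⟩ := adjoin_decomp h.nil E
    have hc : c * c = 1 := by
      by_contra hc
      have hn : IsNilpotent (algebraMap F R (c * c - 1)) := by
        rw [show algebraMap F R (c * c - 1)
          = ⟨O b * O b, hOsq b⟩ - z * (2 * algebraMap F R c + z) by
            rw [map_sub, map_mul, map_one]; rw [hEz] at hE; linear_combination hE]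
        exact Commute.isNilpotent_sub (Commute.all _ _) (hOnil b)
          (Commute.isNilpotent_mul_right (Commute.all _ _) hz)
      exact hn.not_isUnit ((isUnit_iff_ne_zero.2 (sub_ne_zero.2 hc)).map _)
    have hcu : algebraMap F R c * algebraMap F R c = 1 := by rw [← map_mul, hc, map_one]
    have hz' : algebraMap F R c * z = β b := huniq _ _
      (Commute.isNilpotent_mul_left (Commute.all _ _) hz) (hβn b) (by
        rw [hβ, ← hE, hEz]
        linear_combination (-1 + z * z) * hcu)
    obtain ⟨s, hs⟩ : ∃ s, eps s = algebraMap F R c := by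
      rcases mul_self_eq_one_iff.1 hc with rfl | rfl
      · exact ⟨true, by simp [eps]⟩
      · exact ⟨false, by simp [eps]⟩
    refine ⟨(s, b), Subtype.ext ?_⟩
    show ((eps s * (1 + β b) : R) : Module.End F V) + O b = evP L m a + O b
    rw [hs, ← hz', mul_add, mul_one, ← mul_assoc, hcu, one_mul, ← hEz]

/-! ### Classes -/

/-- The invariant. -/
def IsSqType (B : LinearMap.BilinForm F V) (L : Module.End F V) (m : ℕ) : Prop :=
  ∃ v, B v ((L ^ (2 * m - 1)) v) = 1

theorem RegSkew.sqType_iff [FiniteDimensional F V] (h : RegSkew B L m) {e : V}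
    (he : (L ^ (2 * m - 1)) e ≠ 0) : IsSqType B L m ↔ IsSquare (B e ((L ^ (2 * m - 1)) e)) := by
  set β := B e ((L ^ (2 * m - 1)) e) with hβ
  have hm := h.pos
  constructor
  · rintro ⟨v, hv⟩
    obtain ⟨c, rfl⟩ := (Submodule.mem_span_range_iff_exists_fun F).1
      (h.span_eq he ▸ Submodule.mem_top : v ∈ Submodule.span F (Set.range fun i : Fin (2 * m) => (L ^ (i : ℕ)) e))
    let i₀ : Fin (2 * m) := ⟨0, by omega⟩
    have h1 : (L ^ (2 * m - 1)) (∑ i, c i • (L ^ (i : ℕ)) e) = c i₀ • (L ^ (2 * m - 1)) e := by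
      rw [map_sum, Finset.sum_eq_single i₀]
      · simp [i₀]
      · intro i _ hi
        have : (i : ℕ) ≠ 0 := fun h' => hi (Fin.ext h')
        rw [map_smul, ← Module.End.mul_apply, ← pow_add, h.pow_zero_of_le (by omega),
          LinearMap.zero_apply, smul_zero]
      · simp
    rw [h1, map_smul, map_sum, LinearMap.sum_apply, Finset.sum_eq_single i₀] at hv
    · simp only [i₀, map_smul, pow_zero, Module.End.one_apply, LinearMap.smul_apply, smul_eq_mul] at hv
      refine ⟨(c i₀)⁻¹, ?_⟩
      have hc0 : c i₀ ≠ 0 := fun h0 => by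
        rw [show c ⟨0, by omega⟩ = c i₀ from rfl, h0] at hv
        simp at hv
      rw [show c ⟨0, by omega⟩ = c i₀ from rfl] at hv
      field_simp
      linear_combination hv
    · intro i _ hi
      have : (i : ℕ) ≠ 0 := fun h' => hi (Fin.ext h')
      rw [map_smul, LinearMap.smul_apply, h.adjoint, ← Module.End.mul_apply, ← pow_add,
        h.pow_zero_of_le (by omega), LinearMap.zero_apply, map_zero, mul_zero, smul_zero]
    · simp
  · rintro ⟨r, hr⟩
    have hr0 : r ≠ 0 := fun h0 => h.top_ne_zero he (by rw [← hβ, hr, h0, mul_zero])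
    refine ⟨r⁻¹ • e, ?_⟩
    simp only [map_smul, LinearMap.smul_apply, smul_eq_mul, ← hβ, hr]
    field_simp

/-- Normalised generator. -/
theorem RegSkew.exists_normal [Finite F] [FiniteDimensional F V] (h : RegSkew B L m) :
    ∃ e, (L ^ (2 * m - 1)) e ≠ 0 ∧ ∀ j, j ≠ 2 * m - 1 → B e ((L ^ j) e) = 0 := by
  classical
  obtain ⟨e, he⟩ := h.exists_gen
  set β := B e ((L ^ (2 * m - 1)) e)
  let T : (Fin m → F) →ₗ[F] (Fin m → F) := LinearMap.pi fun k =>
    ((B e).comp ((L ^ (2 * (k : ℕ) + 1)))).comp ((LinearMap.applyₗ e).comp (evP L m))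
  have hT : ∀ a k, T a k = B e ((L ^ (2 * (k : ℕ) + 1)) (evP L m a e)) := fun a k => rfl
  have hTinj : Function.Injective T := by
    rw [injective_iff_map_eq_zero]
    intro a ha
    have hz : evP L m a e = 0 := h.eq_zero_of_orth he fun j => by
      rcases Nat.even_or_odd j with hj | ⟨k, rfl⟩
      · rw [RegSkew.evP_apply_vec, map_sum, map_sum]
        refine Finset.sum_eq_zero fun k _ => ?_
        rw [map_smul, map_smul, ← Module.End.mul_apply, ← pow_add,
          h.even_zero (hj.add (even_two_mul _)), smul_zero]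
      · by_cases hk : k < m
        · have := congrFun ha ⟨k, hk⟩
          rwa [hT] at this
        · rw [h.pow_zero_of_le (by omega), LinearMap.zero_apply, map_zero]
    rw [RegSkew.evP_apply_vec] at hz
    exact funext (Fintype.linearIndependent_iff.1 ((h.indep he).comp
      (fun k : Fin m => (⟨2 * k, by omega⟩ : Fin (2 * m))) fun k k' hk => Fin.ext (by simpa using hk)) _ hz)
  have hpos := h.pos
  obtain ⟨a, ha⟩ := (LinearMap.injective_iff_surjective.1 hTinj) fun k => if (k : ℕ) = m - 1 then β else 0
  let R := Algebra.adjoin F ({L * L} : Set (Module.End F V))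
  haveI : Finite V := Module.finite_of_finite F
  haveI : Finite (Module.End F V) := Finite.of_injective (fun f => (f : V → V)) DFunLike.coe_injective
  letI : CommRing R := Algebra.adjoinCommRingOfComm F (by
    rintro _ rfl _ rfl; rfl)
  haveI : Finite R := Finite.of_injective _ Subtype.val_injective
  have h2R : IsUnit (2 : R) := by
    have := (isUnit_iff_ne_zero.2 h.two).map (algebraMap F R)
    rwa [map_ofNat] at this
  set S : R := ⟨evP L m a, evP_mem_adjoin a⟩
  obtain ⟨c, z, hz, hS⟩ := adjoin_decomp h.nil S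
  have hc : c = a ⟨0, hpos⟩ ∧ c = 1 := by
    have h1 := congrFun ha ⟨m - 1, by omega⟩
    rw [hT, if_pos rfl, RegSkew.evP_apply_vec, map_sum, map_sum,
      Finset.sum_eq_single (⟨0, hpos⟩ : Fin m)] at h1
    · simp only [Nat.mul_zero, pow_zero, Module.End.one_apply, map_smul, smul_eq_mul,
        show 2 * (m - 1) + 1 = 2 * m - 1 by omega] at h1
      have ha0 : a ⟨0, hpos⟩ = 1 := mul_right_cancel₀ (h.top_ne_zero he) (by rw [h1, one_mul])
      -- compare at the top of the chain
      have h2 : (S : Module.End F V) ((L ^ (2 * m - 1)) e) = a ⟨0, hpos⟩ • (L ^ (2 * m - 1)) e := by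
        show evP L m a _ = _
        rw [RegSkew.evP_apply_vec, Finset.sum_eq_single (⟨0, hpos⟩ : Fin m)]
        · simp
        · intro k _ hk
          have : (k : ℕ) ≠ 0 := fun h' => hk (Fin.ext h')
          rw [← Module.End.mul_apply, ← pow_add, h.pow_zero_of_le (by omega), LinearMap.zero_apply,
            smul_zero]
        · simp
      obtain ⟨N, hN⟩ := hz
      have hzN : ((z : Module.End F V) ^ N) = 0 := congrArg Subtype.val hN
      have h3 : (z : Module.End F V) ((L ^ (2 * m - 1)) e)
          = (a ⟨0, hpos⟩ - c) • (L ^ (2 * m - 1)) e := by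
        rw [sub_smul, ← h2, hS]
        simp [Subalgebra.coe_add, Module.algebraMap_end_apply]
      have h4 : ∀ k : ℕ, ((z : Module.End F V) ^ k) ((L ^ (2 * m - 1)) e)
          = (a ⟨0, hpos⟩ - c) ^ k • (L ^ (2 * m - 1)) e := by
        intro k
        induction k with
        | zero => simp
        | succ k ih => rw [pow_succ', Module.End.mul_apply, ih, map_smul, h3, smul_smul, pow_succ]
      have h5 := h4 N
      rw [hzN, LinearMap.zero_apply, eq_comm, smul_eq_zero, or_iff_left he] at h5
      have h6 := sub_eq_zero.1 (pow_eq_zero_iff'.1 h5).1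
      exact ⟨h6.symm, h6.symm.trans ha0⟩
    · intro k _ hk
      have : (k : ℕ) ≠ 0 := fun h' => hk (Fin.ext h')
      rw [map_smul, map_smul, ← Module.End.mul_apply, ← pow_add,
        h.pow_zero_of_le (by simp only; omega), LinearMap.zero_apply, map_zero, smul_zero]
    · simp
  rw [hc.2, map_one] at hS
  obtain ⟨b, hb, hbs⟩ := (exists_unique_sqrt h2R).1 z hz
  set w : Module.End F V := ((1 + b : R) : Module.End F V)
  obtain ⟨a', ha'⟩ := exists_evP_of_mem h.nil (1 + b : R).2
  have hwc : Commute L w := by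
    show Commute L ((1 + b : R) : Module.End F V)
    rw [ha']; exact commute_evP a'
  have hwadj : ∀ x y, B (w x) y = B x (w y) := fun x y => by
    show B (((1 + b : R) : Module.End F V) x) y = B x (((1 + b : R) : Module.End F V) y)
    rw [ha', h.adjoint_evP]
  have hww : w * w = evP L m a := by
    rw [show w * w = (((1 + b) * (1 + b) : R) : Module.End F V) from rfl, hbs, ← hS]
  have hval : ∀ j, B (w e) ((L ^ j) (w e)) = B e ((L ^ j) (evP L m a e)) := fun j => by
    rw [hwadj, ← hww]
    simp only [← Module.End.mul_apply]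
    rw [← mul_assoc, ← (hwc.pow_left j).eq, mul_assoc]
  have htop : B (w e) ((L ^ (2 * m - 1)) (w e)) = β := by
    have h1 := congrFun ha ⟨m - 1, by omega⟩
    rw [hT, if_pos rfl] at h1
    rw [hval, ← h1]
    simp only [show 2 * (m - 1) + 1 = 2 * m - 1 by omega]
  refine ⟨w e, fun h0 => h.top_ne_zero he (by rw [show B e _ = β from rfl, ← htop, h0, map_zero]), fun j hj => ?_⟩
  rcases Nat.even_or_odd j with hje | ⟨k, rfl⟩
  · exact h.even_zero hje _
  · by_cases hk : k < m
    · have h1 := congrFun ha ⟨k, hk⟩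
      rw [hT, if_neg (fun h' : k = m - 1 => hj (by omega))] at h1
      rw [hval, h1]
    · rw [h.pow_zero_of_le (by omega), LinearMap.zero_apply, map_zero]

theorem isSquare_div {F : Type*} [Field F] [Finite F] {a b : F} (ha : a ≠ 0) (hb : b ≠ 0)
    (h : IsSquare a ↔ IsSquare b) : IsSquare (a / b) := by
  haveI := Fintype.ofFinite F
  classical
  rcases em (IsSquare a) with hsa | hsa
  · exact hsa.div (h.1 hsa)
  · have h1 := (quadraticChar_neg_one_iff_not_isSquare (F := F)).2 hsa
    have h2 := (quadraticChar_neg_one_iff_not_isSquare (F := F)).2 (fun h' => hsa (h.2 h'))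
    rw [← quadraticChar_one_iff_isSquare (div_ne_zero ha hb)]
    have h3 : quadraticChar F (a / b) * quadraticChar F b = quadraticChar F a := by
      rw [← map_mul, div_mul_cancel₀ _ hb]
    rw [h1, h2] at h3
    linarith

/-- Equal invariants give isometric intertwiners. -/
theorem exists_intertwiner [Finite F] [FiniteDimensional F V] {L' : Module.End F V}
    (h : RegSkew B L m) (h' : RegSkew B L' m) (hiff : IsSqType B L m ↔ IsSqType B L' m) :
    ∃ g : V ≃ₗ[F] V, (∀ x y, B (g x) (g y) = B x y) ∧ ∀ x, g (L x) = L' (g x) := by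
  obtain ⟨e, he, hn⟩ := h.exists_normal
  obtain ⟨e₁, he₁, hn₁⟩ := h'.exists_normal
  rw [h.sqType_iff he, h'.sqType_iff he₁] at hiff
  obtain ⟨r, hr⟩ := isSquare_div (h.top_ne_zero he) (h'.top_ne_zero he₁) hiff
  have hr0 : r ≠ 0 := fun h0 => div_ne_zero (h.top_ne_zero he) (h'.top_ne_zero he₁) (by rw [hr, h0, mul_zero])
  set e' := r • e₁ with he'def
  have he' : (L' ^ (2 * m - 1)) e' ≠ 0 := by
    rw [he'def, map_smul]; exact smul_ne_zero hr0 he₁
  have hmom : ∀ j, B e' ((L' ^ j) e') = B e ((L ^ j) e) := fun j => by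
    simp only [he'def, map_smul, LinearMap.smul_apply, smul_eq_mul]
    by_cases hj : j = 2 * m - 1
    · subst hj
      rw [← mul_assoc, ← hr, div_mul_cancel₀ _ (h'.top_ne_zero he₁)]
    · rw [hn₁ j hj, hn j hj, mul_zero, mul_zero]
  let b := Basis.mk (h.indep he) (h.span_eq he).ge
  let b' := Basis.mk (h'.indep he') (h'.span_eq he').ge
  let g := b.equiv b' (Equiv.refl _)
  have hg : ∀ i : Fin (2 * m), g ((L ^ (i : ℕ)) e) = (L' ^ (i : ℕ)) e' := fun i => by
    have := b.equiv_apply i b' (Equiv.refl _)
    simpa [b, b', g] using this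
  have hg' : ∀ j, g ((L ^ j) e) = (L' ^ j) e' := fun j => by
    by_cases hj : j < 2 * m
    · exact hg ⟨j, hj⟩
    · rw [h.pow_zero_of_le (by omega), h'.pow_zero_of_le (by omega), LinearMap.zero_apply,
        LinearMap.zero_apply, map_zero]
  refine ⟨g, fun x y => ?_, fun x => ?_⟩
  · have key : B.compl₁₂ g.toLinearMap g.toLinearMap = B :=
      LinearMap.ext_basis b b fun i j => by
        simp only [b, Basis.mk_apply, LinearMap.compl₁₂_apply, LinearEquiv.coe_coe, hg']
        rw [h'.adjoint, h.adjoint, ← Module.End.mul_apply, ← pow_add, hmom, ← Module.End.mul_apply,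
          ← pow_add]
    exact LinearMap.congr_fun₂ key x y
  · have key : g.toLinearMap.comp L = L'.comp g.toLinearMap := b.ext fun i => by
      simp only [b, Basis.mk_apply, LinearMap.comp_apply, LinearEquiv.coe_coe]
      rw [← Module.End.mul_apply, ← pow_succ', hg', hg', ← Module.End.mul_apply, ← pow_succ']
    exact LinearMap.congr_fun key x

end Cfsg.Agent.Forms.Regular
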