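import Cfsg.Agent.Lib.Forms.AntiInvolution
import Cfsg.Agent.Lib.Jordan.Centralizer

/-!
# The commutant of a unipotent isometry of given type, with its adjoint involution

`T = 1 + NT F d` preserves the `ε`-hermitian matrix `H` (`ad T * H * T = H`, `ad M = (M.map θ)ᵀ`).
* `A d`, `π d`                : the commutant and its projection to `∏ Mat_{a_D}` (surjective, nil kernel)
* `σ`, `isAnti_σ`             : the adjoint for `H`
* `G d H D`                   : the form on the multiplicity space of the size `D`; `isUnit_G`, `ad_G`, `G_mul_π_σ`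
* `range_π`                   : the image of the isometries is `∏ U(G D)`
* `card_ker`, `card_ker_sq`   : orders of the kernel and of its fixed points
-/

set_option autoImplicit false

open Matrix
open scoped Classical MatrixGroups

namespace Cfsg.Agent.Forms.UnipCent

variable {F : Type*} [Field F]

section ad

variable (θ : F →+* F)

/-- The `θ`-transpose. -/
def ad {m n : Type*} (M : Matrix m n F) : Matrix n m F := (M.map θ)ᵀ

theorem ad_apply {m n : Type*} (M : Matrix m n F) (i : n) (j : m) : ad θ M i j = θ (M j i) := rfl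

theorem ad_mul {l m n : Type*} [Fintype m] (M : Matrix l m F) (N : Matrix m n F) :
    ad θ (M * N) = ad θ N * ad θ M := by
  rw [ad, ad, ad, Matrix.map_mul, Matrix.transpose_mul]

theorem ad_one {m : Type*} [DecidableEq m] : ad θ (1 : Matrix m m F) = 1 := by
  rw [ad, Matrix.map_one _ (map_zero _) (map_one _), Matrix.transpose_one]

theorem ad_zero {m n : Type*} : ad θ (0 : Matrix m n F) = 0 := by
  ext i j; simp [ad_apply]

theorem ad_add {m n : Type*} (M N : Matrix m n F) : ad θ (M + N) = ad θ M + ad θ N := by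
  ext i j; simp [ad_apply]

theorem ad_smul {m n : Type*} (c : F) (M : Matrix m n F) : ad θ (c • M) = θ c • ad θ M := by
  ext i j; simp [ad_apply]

theorem ad_ad (hθ : ∀ a, θ (θ a) = a) {m n : Type*} (M : Matrix m n F) : ad θ (ad θ M) = M := by
  ext i j; simp [ad_apply, hθ]

theorem ad_pow {m : Type*} [Fintype m] [DecidableEq m] (M : Matrix m m F) (r : ℕ) :
    ad θ (M ^ r) = ad θ M ^ r := by
  induction r with
  | zero => rw [pow_zero, pow_zero, ad_one]
  | succ r ih => rw [pow_succ, pow_succ', ad_mul, ih]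

theorem isUnit_ad {m : Type*} [Fintype m] [DecidableEq m] {M : Matrix m m F} (h : IsUnit M) :
    IsUnit (ad θ M) := by
  obtain ⟨u, rfl⟩ := h
  exact IsUnit.of_mul_eq_one (ad θ ((u⁻¹ : GL m F) : Matrix m m F)) (by rw [← ad_mul, Units.inv_mul, ad_one])

end ad

variable {κ : Type} [Fintype κ] [DecidableEq κ] (d : κ → ℕ)

/-- The index set. -/
abbrev Ix : Type := (k : κ) × Fin (d k)

variable (F) in
/-- The commutant of the model. -/
abbrev A : Subalgebra F (Matrix (Ix d) (Ix d) F) := Subalgebra.centralizer F {Jordan.NT F d}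

theorem mem_A {M : Matrix (Ix d) (Ix d) F} : M ∈ A F d ↔ M * Jordan.NT F d = Jordan.NT F d * M := by
  rw [Subalgebra.mem_centralizer_iff]
  exact ⟨fun h => (h _ rfl).symm, fun h g hg => by rw [Set.mem_singleton_iff.mp hg, h]⟩

theorem apply_ne_zero {M : Matrix (Ix d) (Ix d) F} (hM : M ∈ A F d) {l : κ} {i : Fin (d l)} {k : κ} {j : Fin (d k)}
    (h : M ⟨l, i⟩ ⟨k, j⟩ ≠ 0) : (j : ℕ) ≤ i ∧ d l - 1 - i + j < d k := by
  rw [← Jordan.mat_coord d M ((mem_A d).mp hM), Jordan.mat_apply] at h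
  by_contra hc
  exact h (dif_neg hc)

variable (hd : ∀ k, 1 ≤ d k)

/-- The top of a block. -/
abbrev o (k : κ) : (Ix d) := ⟨k, ⟨0, hd k⟩⟩

/-- The multiplicity space of a size. -/
abbrev Fb (D : ↥(Finset.univ.image d)) : Type := Jordan.Fib d (D : ℕ)

/-- The block at the tops. -/
def topBlock (D : ↥(Finset.univ.image d)) (M : Matrix (Ix d) (Ix d) F) : Matrix (Fb d D) (Fb d D) F :=
  Matrix.of fun l k => M (o d hd l.1) (o d hd k.1)

theorem topBlock_mul (D : ↥(Finset.univ.image d)) {M N : Matrix (Ix d) (Ix d) F} (hM : M ∈ A F d) (hN : N ∈ A F d) :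
    topBlock d hd D (M * N) = topBlock d hd D M * topBlock d hd D N := by
  ext l k
  simp only [topBlock, Matrix.of_apply, Matrix.mul_apply]
  refine (Fintype.sum_of_injective (fun x : Fb d D => o d hd x.1) ?_ _ _ ?_ (fun _ => rfl)).symm
  · intro x y h
    exact Subtype.ext (congrArg Sigma.fst h)
  · rintro ⟨x, i⟩ hx
    by_contra hne
    obtain ⟨h1, h2⟩ := apply_ne_zero d hM (left_ne_zero_of_mul hne)
    obtain ⟨h3, h4⟩ := apply_ne_zero d hN (right_ne_zero_of_mul hne)
    simp only at h1 h2 h3 h4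
    have hl := l.2; have hk := k.2; have := hd x
    exact hx ⟨⟨x, by omega⟩, Jordan.mk_eq_mk.mpr ⟨rfl, by simp only; omega⟩⟩

/-- The projection to the semisimple quotient. -/
def π : A F d →+* ((D : ↥(Finset.univ.image d)) → Matrix (Fb d D) (Fb d D) F) where
  toFun M D := topBlock d hd D M.1
  map_one' := by
    funext D; ext l k
    show (1 : Matrix (Ix d) (Ix d) F) (o d hd l.1) (o d hd k.1) = (1 : Matrix (Fb d D) (Fb d D) F) l k
    by_cases h : l = k
    · subst h; rw [Matrix.one_apply_eq, Matrix.one_apply_eq]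
    · rw [Matrix.one_apply_ne h, Matrix.one_apply_ne]
      exact fun e => h (Subtype.ext (congrArg Sigma.fst e))
  map_mul' M N := funext fun D => topBlock_mul d hd D M.2 N.2
  map_zero' := rfl
  map_add' _ _ := rfl

theorem π_apply (M : A F d) (D : ↥(Finset.univ.image d)) (l k : Fb d D) :
    π d hd M D l k = M.1 (o d hd l.1) (o d hd k.1) := rfl

theorem π_smul (c : F) (M : A F d) : π d hd (c • M) = c • π d hd M := rfl

theorem blockMat_coord (M : A F d) (D : ↥(Finset.univ.image d)) :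
    Jordan.blockMat d (Jordan.coord d M.1) D hd = π d hd M D := by
  ext l k
  show M.1 _ _ = M.1 _ _
  have := l.2; have := hd l.1
  exact congrArg (fun x => M.1 x (o d hd k.1)) (Jordan.mk_eq_mk.mpr ⟨rfl, by simp only; omega⟩)

theorem π_mat (c : Jordan.Idx d → F) (D : ↥(Finset.univ.image d)) :
    π d hd ⟨Jordan.mat d c, (mem_A d).mpr (Jordan.mat_commute d c)⟩ D = Jordan.blockMat d c D hd := by
  rw [← blockMat_coord, Jordan.coord_mat]

theorem π_surjective : Function.Surjective (π (F := F) d hd) := by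
  intro B
  let c : Jordan.Idx d → F := fun s =>
    if h : Jordan.IsDiag d s then
      B ((Jordan.diagEquiv d hd ⟨s, h⟩).1) (Jordan.diagEquiv d hd ⟨s, h⟩).2.1 (Jordan.diagEquiv d hd ⟨s, h⟩).2.2
    else 0
  refine ⟨⟨Jordan.mat d c, (mem_A d).mpr (Jordan.mat_commute d c)⟩, funext fun D => ?_⟩
  rw [π_mat]
  ext l k
  have h1 : Jordan.IsDiag d ((Jordan.diagEquiv d hd).symm ⟨D, l, k⟩).1 := ((Jordan.diagEquiv d hd).symm ⟨D, l, k⟩).2
  show c ((Jordan.diagEquiv d hd).symm ⟨D, l, k⟩).1 = B D l k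
  simp only [c, dif_pos h1]
  rw [show (⟨((Jordan.diagEquiv d hd).symm ⟨D, l, k⟩).1, h1⟩ : {s : Jordan.Idx d // Jordan.IsDiag d s}) =
    (Jordan.diagEquiv d hd).symm ⟨D, l, k⟩ from rfl, Equiv.apply_symm_apply]

theorem π_eq_zero_iff (M : A F d) :
    π d hd M = 0 ↔ ∀ s, Jordan.IsDiag d s → Jordan.coord d M.1 s = 0 := by
  constructor
  · intro h s hs
    have h1 : Jordan.blockMat d (Jordan.coord d M.1) (Jordan.diagEquiv d hd ⟨s, hs⟩).1 hd = 0 := by
      rw [blockMat_coord, h]; rfl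
    have h2 := congrFun (congrFun h1 (Jordan.diagEquiv d hd ⟨s, hs⟩).2.1) (Jordan.diagEquiv d hd ⟨s, hs⟩).2.2
    have h3 : ((Jordan.diagEquiv d hd).symm (Jordan.diagEquiv d hd ⟨s, hs⟩)).1 = s := by rw [Equiv.symm_apply_apply]
    rw [← h3]
    exact h2
  · intro h
    funext D
    rw [← blockMat_coord]
    ext l k
    exact h _ ((Jordan.diagEquiv d hd).symm ⟨D, l, k⟩).2

theorem isNilpotent_of_π_eq_zero (M : A F d) (hM : π d hd M = 0) : IsNilpotent M := by
  obtain ⟨R, hR⟩ : ∃ R, ∀ k, d k ≤ R := ⟨Finset.univ.sup d, fun k => Finset.le_sup (Finset.mem_univ k)⟩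
  let w : (Ix d) → ℕ := fun x => (x.2 : ℕ) * (R + 1) + (R - d x.1)
  have hstep : ∀ x y : (Ix d), M.1 x y ≠ 0 → w y < w x := by
    rintro ⟨l, i⟩ ⟨k, j⟩ hne
    obtain ⟨h1, h2⟩ := apply_ne_zero d M.2 hne
    simp only [w]
    have := hR l; have := hR k; have := i.2; have := j.2
    rcases h1.lt_or_eq with h | h
    · have : ((j : ℕ) + 1) * (R + 1) ≤ (i : ℕ) * (R + 1) := Nat.mul_le_mul_right _ h
      rw [add_mul, one_mul] at this
      omega
    · have hm : (j : ℕ) * (R + 1) = (i : ℕ) * (R + 1) := by rw [h]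
      rcases lt_trichotomy (d l) (d k) with hlt | heq | hgt
      · omega
      · exfalso
        refine hne ?_
        rw [← Jordan.mat_coord d M.1 ((mem_A d).mp M.2), Jordan.mat_apply, dif_pos ⟨h1, h2⟩]
        refine (π_eq_zero_iff d hd M).mp hM _ ⟨heq.symm, ?_⟩
        show d l - 1 - (i : ℕ) + j = d k - 1
        omega
      · omega
  have hpow : ∀ (r : ℕ) (x y : (Ix d)), (M.1 ^ r) x y ≠ 0 → w y + r ≤ w x := by
    intro r
    induction r with
    | zero =>
      intro x y h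
      rw [pow_zero] at h
      obtain rfl : x = y := by by_contra hne; exact h (Matrix.one_apply_ne hne)
      omega
    | succ r ih =>
      intro x y h
      rw [pow_succ, Matrix.mul_apply] at h
      obtain ⟨z, -, hz⟩ := Finset.exists_ne_zero_of_sum_ne_zero h
      have := ih x z (left_ne_zero_of_mul hz)
      have := hstep z y (right_ne_zero_of_mul hz)
      omega
  refine ⟨Finset.univ.sup w + 1, Subtype.ext ?_⟩
  rw [SubmonoidClass.coe_pow]
  ext x y
  by_contra hne
  have := hpow _ x y hne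
  have := Finset.le_sup (f := w) (Finset.mem_univ x)
  omega

/-- The kernel in coordinates. -/
theorem card_ker :
    Nat.card {M : A F d // π d hd M = 0} = Nat.card F ^ Fintype.card {s : Jordan.Idx d // ¬ Jordan.IsDiag d s} := by
  rw [← Nat.card_eq_fintype_card (α := {s : Jordan.Idx d // ¬ Jordan.IsDiag d s}), ← Nat.card_fun]
  refine Nat.card_congr
    { toFun := fun M s => Jordan.coord d M.1.1 s.1
      invFun := fun c => ⟨⟨Jordan.mat d (fun s => if h : Jordan.IsDiag d s then 0 else c ⟨s, h⟩),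
        (mem_A d).mpr (Jordan.mat_commute d _)⟩, (π_eq_zero_iff d hd _).mpr fun s hs => by
          rw [Jordan.coord_mat, dif_pos hs]⟩
      left_inv := fun M => ?_
      right_inv := fun c => funext fun s => by
        simp only
        rw [Jordan.coord_mat, dif_neg s.2] }
  refine Subtype.ext (Subtype.ext ?_)
  simp only
  refine Eq.trans (congrArg (Jordan.mat d) (funext fun s => ?_)) (Jordan.mat_coord d M.1.1 ((mem_A d).mp M.1.2))
  by_cases h : Jordan.IsDiag d s
  · rw [dif_pos h, (π_eq_zero_iff d hd M.1).mp M.2 s h]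
  · rw [dif_neg h]

/-! ### The forms -/

section Form

variable (θ : F →+* F) (hθ : ∀ a, θ (θ a) = a) (ε : F) (H : GL (Ix d) F)
  (hH : ad θ (H : Matrix (Ix d) (Ix d) F) = ε • (H : Matrix (Ix d) (Ix d) F))
  (hT : ad θ (1 + Jordan.NT F d) * (H : Matrix (Ix d) (Ix d) F) * (1 + Jordan.NT F d) = (H : Matrix (Ix d) (Ix d) F))


/-- The form on the multiplicity space. -/
def G (D : ↥(Finset.univ.image d)) : Matrix (Fb d D) (Fb d D) F :=
  topBlock d hd D ((H : Matrix (Ix d) (Ix d) F) * (Jordan.NT F d) ^ ((D : ℕ) - 1))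

include hT

theorem H_mul_N : (H : Matrix (Ix d) (Ix d) F) * (Jordan.NT F d) = -(ad θ (Jordan.NT F d) * (H : Matrix (Ix d) (Ix d) F) * (1 + (Jordan.NT F d))) := by
  have h := hT
  rw [ad_add, ad_one] at h
  have h' : (H : Matrix (Ix d) (Ix d) F) * (Jordan.NT F d) + ad θ (Jordan.NT F d) * (H : Matrix (Ix d) (Ix d) F) * (1 + (Jordan.NT F d)) = 0 := by
    refine add_left_cancel (a := (H : Matrix (Ix d) (Ix d) F)) ?_
    rw [add_zero]
    refine Eq.trans ?_ h
    noncomm_ring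
  exact eq_neg_of_add_eq_zero_left h'

theorem H_mul_N_pow (r : ℕ) :
    (H : Matrix (Ix d) (Ix d) F) * (Jordan.NT F d) ^ r = (-1 : F) ^ r • (ad θ (Jordan.NT F d) ^ r * (H : Matrix (Ix d) (Ix d) F) * (1 + (Jordan.NT F d)) ^ r) := by
  induction r with
  | zero => simp
  | succ r ih =>
    have hc : Commute ((1 + (Jordan.NT F d)) ^ r) (Jordan.NT F d) := ((Commute.one_left (Jordan.NT F d)).add_left (Commute.refl (Jordan.NT F d))).pow_left r
    rw [pow_succ, ← mul_assoc, ih, smul_mul_assoc, mul_assoc (ad θ (Jordan.NT F d) ^ r * (H : Matrix (Ix d) (Ix d) F)), hc.eq, ← mul_assoc,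
      mul_assoc (ad θ (Jordan.NT F d) ^ r), H_mul_N d θ H hT, pow_succ (-1 : F), mul_smul, neg_one_smul]
    congr 1
    rw [pow_succ (ad θ (Jordan.NT F d)), pow_succ' (1 + (Jordan.NT F d))]
    noncomm_ring

omit hT in
theorem ad_N_pow_apply (r : ℕ) (l : κ) (i : Fin (d l)) (hr : d l ≤ i + r) (z : (Ix d)) :
    (ad θ (Jordan.NT F d) ^ r) ⟨l, i⟩ z = 0 := by
  rw [← ad_pow, ad_apply, Jordan.NT_pow_apply, if_neg, map_zero]
  rintro ⟨h1, h2⟩
  obtain ⟨k, j⟩ := z
  simp only at h1 h2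
  subst h1
  have := j.2
  omega

theorem row_zero (r : ℕ) (l : κ) (i : Fin (d l)) (hr : d l ≤ i + r) (y : (Ix d)) :
    ((H : Matrix (Ix d) (Ix d) F) * (Jordan.NT F d) ^ r) ⟨l, i⟩ y = 0 := by
  rw [H_mul_N_pow d θ H hT, Matrix.smul_apply, mul_assoc, Matrix.mul_apply]
  rw [Finset.sum_eq_zero fun z _ => by rw [ad_N_pow_apply d θ r l i hr z, zero_mul], smul_zero]

omit hT in
theorem N_pow_apply_zero (r : ℕ) (k : κ) (j : Fin (d k)) (hr : d k ≤ j + r) (z : (Ix d)) :
    ((Jordan.NT F d) ^ r) z ⟨k, j⟩ = 0 := by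
  rw [Jordan.NT_pow_apply, if_neg]
  rintro ⟨h1, h2⟩
  obtain ⟨l, i⟩ := z
  simp only at h1 h2
  subst h1
  have := i.2
  omega

theorem col_zero (r : ℕ) (k : κ) (j : Fin (d k)) (hr : d k ≤ j + (r + 1)) (x : (Ix d)) :
    (ad θ (Jordan.NT F d) * (H : Matrix (Ix d) (Ix d) F) * (Jordan.NT F d) ^ r) x ⟨k, j⟩ = 0 := by
  have h0 : ∀ (M : Matrix (Ix d) (Ix d) F), (M * (Jordan.NT F d) ^ (r + 1)) x ⟨k, j⟩ = 0 := fun M => by
    rw [Matrix.mul_apply]
    exact Finset.sum_eq_zero fun z _ => by rw [N_pow_apply_zero d (r + 1) k j hr z, mul_zero]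
  have h1 : ad θ (Jordan.NT F d) * (H : Matrix (Ix d) (Ix d) F) * (Jordan.NT F d) ^ r = -((H : Matrix (Ix d) (Ix d) F) * (Jordan.NT F d) ^ (r + 1)) + -(ad θ (Jordan.NT F d) * (H : Matrix (Ix d) (Ix d) F) * (Jordan.NT F d) ^ (r + 1)) := by
    rw [pow_succ' (Jordan.NT F d) r, ← mul_assoc (H : Matrix (Ix d) (Ix d) F), H_mul_N d θ H hT]
    noncomm_ring
  rw [h1, Matrix.add_apply, Matrix.neg_apply, Matrix.neg_apply, h0, h0, neg_zero, add_zero]

theorem row_succ_zero (r : ℕ) (k : κ) (j : Fin (d k)) (hr : d k ≤ j + (r + 1)) (l : κ) (i : Fin (d l)) (hi : 0 < (i : ℕ)) :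
    ((H : Matrix (Ix d) (Ix d) F) * (Jordan.NT F d) ^ r) ⟨l, i⟩ ⟨k, j⟩ = 0 := by
  have h := col_zero d θ H hT r k j hr ⟨l, ⟨(i : ℕ) - 1, by omega⟩⟩
  rw [mul_assoc, Matrix.mul_apply, Finset.sum_eq_single ⟨l, i⟩] at h
  · rw [ad_apply, Jordan.NT_apply, if_pos ⟨rfl, by simp only; omega⟩, map_one, one_mul] at h
    exact h
  · rintro ⟨x, u⟩ _ hne
    rw [ad_apply, Jordan.NT_apply, if_neg, map_zero, zero_mul]
    rintro ⟨h1, h2⟩
    simp only at h1 h2
    exact hne (Jordan.mk_eq_mk.mpr ⟨h1, by omega⟩)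
  · simp

/-- The sesquilinear identity of the tops. -/
theorem topBlock_sandwich (D : ↥(Finset.univ.image d)) (M M' : A F d) :
    topBlock d hd D (ad θ M'.1 * (H : Matrix (Ix d) (Ix d) F) * M.1 * (Jordan.NT F d) ^ ((D : ℕ) - 1)) =
      ad θ (π d hd M' D) * G d hd H D * π d hd M D := by
  have hD : 1 ≤ (D : ℕ) := by
    obtain ⟨x, -, hx⟩ := Finset.mem_image.mp D.2
    have := hd x; omega
  set r := (D : ℕ) - 1 with hr
  have hc : M.1 * (Jordan.NT F d) ^ r = (Jordan.NT F d) ^ r * M.1 :=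
    (Commute.pow_right ((mem_A d).mp M.2 : Commute M.1 (Jordan.NT F d)) r).eq
  rw [mul_assoc, hc, mul_assoc, ← mul_assoc (H : Matrix (Ix d) (Ix d) F), ← mul_assoc]
  ext l k
  simp only [topBlock, Matrix.of_apply, Matrix.mul_apply]
  refine (Fintype.sum_of_injective (fun x : Fb d D => o d hd x.1) ?_ _ _ ?_ ?_).symm
  · intro x y h
    exact Subtype.ext (congrArg Sigma.fst h)
  · rintro ⟨x, i⟩ hx
    by_contra hne
    obtain ⟨z, -, hz⟩ := Finset.exists_ne_zero_of_sum_ne_zero (left_ne_zero_of_mul hne)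
    obtain ⟨h1, h2⟩ := apply_ne_zero d M.2 (right_ne_zero_of_mul hne)
    have hk := k.2
    have hi := i.2
    simp only at h1 h2
    obtain ⟨z1, z2⟩ := z
    have hA : ((H : Matrix (Ix d) (Ix d) F) * (Jordan.NT F d) ^ r) ⟨z1, z2⟩ ⟨x, i⟩ ≠ 0 := by
      rw [Matrix.mul_apply]
      exact right_ne_zero_of_mul hz
    -- the column must be the bottom of its block
    have e1 : (i : ℕ) + (D : ℕ) = d x := by
      by_contra hc'
      exact hA (by
        rw [Matrix.mul_apply]
        exact Finset.sum_eq_zero fun y _ => by rw [N_pow_apply_zero d r x i (by omega) y, mul_zero])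
    by_cases hxD : d x = (D : ℕ)
    · exact hx ⟨⟨x, hxD⟩, Jordan.mk_eq_mk.mpr ⟨rfl, by simp only; omega⟩⟩
    · -- a longer block
      obtain ⟨h3, h4⟩ := apply_ne_zero d M'.2 (l := z1) (i := z2) (k := l.1) (j := ⟨0, hd l.1⟩)
        (fun h => (left_ne_zero_of_mul hz) (by rw [ad_apply, h, map_zero]))
      have hl := l.2
      simp only at h3 h4
      have e : ((H : Matrix (Ix d) (Ix d) F) * (Jordan.NT F d) ^ r) ⟨z1, z2⟩ ⟨x, i⟩ = ((H : Matrix (Ix d) (Ix d) F) * (Jordan.NT F d) ^ (r + i)) ⟨z1, z2⟩ ⟨x, ⟨0, hd x⟩⟩ := by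
        rw [pow_add, ← mul_assoc, Matrix.mul_apply (M := (H : Matrix (Ix d) (Ix d) F) * (Jordan.NT F d) ^ r)]
        symm
        rw [Finset.sum_eq_single ⟨x, i⟩]
        · rw [Jordan.NT_pow_apply, if_pos ⟨rfl, by simp⟩, mul_one]
        · rintro ⟨y1, y2⟩ _ hne'
          rw [Jordan.NT_pow_apply, if_neg, mul_zero]
          rintro ⟨e2, e3⟩
          simp only at e2 e3
          exact hne' (Jordan.mk_eq_mk.mpr ⟨e2, by simp at e3; omega⟩)
        · simp
      exact hA (e.trans (row_zero d θ H hT (r + i) z1 z2 (by omega) _))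
  · intro x
    rw [π_apply]
    congr 1
    refine Fintype.sum_of_injective (fun y : Fb d D => o d hd y.1) ?_ _ _ ?_ ?_
    · intro y y' h
      exact Subtype.ext (congrArg Sigma.fst h)
    · rintro ⟨z1, z2⟩ hz
      by_contra hne
      have hA : ((H : Matrix (Ix d) (Ix d) F) * (Jordan.NT F d) ^ r) ⟨z1, z2⟩ (o d hd x.1) ≠ 0 := by
        rw [Matrix.mul_apply]; exact right_ne_zero_of_mul hne
      obtain ⟨h3, h4⟩ := apply_ne_zero d M'.2 (l := z1) (i := z2) (k := l.1) (j := ⟨0, hd l.1⟩)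
        (fun h => (left_ne_zero_of_mul hne) (by rw [ad_apply, h, map_zero]))
      have hl := l.2
      have := x.2
      simp only at h3 h4
      rcases Nat.eq_zero_or_pos (z2 : ℕ) with h0 | h0
      · by_cases hzD : d z1 = (D : ℕ)
        · exact hz ⟨⟨z1, hzD⟩, Jordan.mk_eq_mk.mpr ⟨rfl, by simp only; omega⟩⟩
        · exact hA (row_zero d θ H hT r z1 z2 (by omega) _)
      · exact hA (row_succ_zero d θ H hT r x.1 ⟨0, hd x.1⟩ (by simp only; omega) z1 z2 h0)
    · intro y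
      simp only [G, topBlock, Matrix.of_apply, ad_apply, π_apply, Matrix.mul_apply]
      rfl

theorem isUnit_G (D : ↥(Finset.univ.image d)) : IsUnit (G d hd H D) := by
  let Gh : Matrix κ κ F := Matrix.of fun l k => ((H : Matrix (Ix d) (Ix d) F) * (Jordan.NT F d) ^ (d k - 1)) (o d hd l) (o d hd k)
  have htri : Matrix.BlockTriangular Gh (fun k => OrderDual.toDual (d k)) := by
    intro l k hlk
    have hlt : d l < d k := OrderDual.toDual_lt_toDual.mp hlk
    exact row_zero d θ H hT _ l ⟨0, hd l⟩ (by simp only; omega) _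
  have hdet : Gh.det ≠ 0 := by
    intro h0
    obtain ⟨c, hc, hc0⟩ := Matrix.exists_mulVec_eq_zero_iff.mpr h0
    let x : (Ix d) → F := fun z => if (z.2 : ℕ) + 1 = d z.1 then c z.1 else 0
    have hHx : (H : Matrix (Ix d) (Ix d) F) *ᵥ x = 0 := by
      funext z
      have hsum : ((H : Matrix (Ix d) (Ix d) F) *ᵥ x) z = ∑ k, ((H : Matrix (Ix d) (Ix d) F) * (Jordan.NT F d) ^ (d k - 1)) z (o d hd k) * c k := by
        rw [Matrix.mulVec, dotProduct]
        refine (Fintype.sum_of_injective (fun k => (⟨k, ⟨d k - 1, by have := hd k; omega⟩⟩ : (Ix d))) ?_ _ _ ?_ ?_).symm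
        · intro a b h; exact congrArg Sigma.fst h
        · rintro ⟨k, j⟩ hj
          simp only [x]
          rw [if_neg, mul_zero]
          intro e
          exact hj ⟨k, Jordan.mk_eq_mk.mpr ⟨rfl, by simp only; omega⟩⟩
        · intro k
          have := hd k
          simp only [x]
          rw [if_pos (by omega), Matrix.mul_apply, Finset.sum_eq_single ⟨k, ⟨d k - 1, by omega⟩⟩]
          · rw [Jordan.NT_pow_apply, if_pos ⟨rfl, by simp⟩, mul_one]
          · rintro ⟨y1, y2⟩ _ hne'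
            rw [Jordan.NT_pow_apply, if_neg, mul_zero]
            rintro ⟨e2, e3⟩
            simp only at e2 e3
            exact hne' (Jordan.mk_eq_mk.mpr ⟨e2, by simpa using e3⟩)
          · simp
      obtain ⟨l, i⟩ := z
      rw [hsum]
      rcases Nat.eq_zero_or_pos (i : ℕ) with h | h
      · have h' : (⟨l, i⟩ : (Ix d)) = o d hd l := Jordan.mk_eq_mk.mpr ⟨rfl, h⟩
        rw [h']
        exact congrFun hc0 l
      · refine Finset.sum_eq_zero fun k _ => ?_
        rw [row_succ_zero d θ H hT _ k ⟨0, hd k⟩ (by simp only; omega) l i h, zero_mul]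
    have hx0 : x = 0 := by
      have := congrArg (((H⁻¹ : GL (Ix d) F) : Matrix (Ix d) (Ix d) F) *ᵥ ·) hHx
      simpa [Matrix.mulVec_mulVec] using this
    refine hc (funext fun k => ?_)
    have h1 := congrFun hx0 ⟨k, ⟨d k - 1, by have := hd k; omega⟩⟩
    have := hd k
    simp only [x] at h1
    rwa [if_pos (by omega)] at h1
  rw [htri.det, Finset.prod_ne_zero_iff] at hdet
  obtain ⟨x, -, hx⟩ := Finset.mem_image.mp D.2
  have h := hdet (OrderDual.toDual (D : ℕ)) (Finset.mem_image.mpr ⟨x, Finset.mem_univ _, by rw [hx]⟩)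
  let e : Fb d D ≃ {k // OrderDual.toDual (d k) = OrderDual.toDual (D : ℕ)} :=
    Equiv.subtypeEquivRight fun k => OrderDual.toDual_inj.symm
  have hmat : G d hd H D = (Gh.toSquareBlock (fun k => OrderDual.toDual (d k)) (OrderDual.toDual (D : ℕ))).submatrix e e := by
    ext l k
    simp only [G, topBlock, Gh, Matrix.toSquareBlock_def, Matrix.submatrix_apply, Matrix.of_apply]
    show _ = ((H : Matrix (Ix d) (Ix d) F) * (Jordan.NT F d) ^ (d k.1 - 1)) (o d hd l.1) (o d hd k.1)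
    rw [k.2]
  rw [hmat, Matrix.isUnit_iff_isUnit_det, Matrix.det_submatrix_equiv_self]
  exact isUnit_iff_ne_zero.mpr h

omit hT in
theorem ad_N_pow_row (r : ℕ) (l : κ) (i : Fin (d l)) (hr : d l ≤ i + (r + 1))
    (hT : ad θ (1 + Jordan.NT F d) * (H : Matrix (Ix d) (Ix d) F) * (1 + Jordan.NT F d) = (H : Matrix (Ix d) (Ix d) F)) (j : ℕ) :
    ∀ y, (ad θ (Jordan.NT F d) ^ r * (H : Matrix (Ix d) (Ix d) F) * (1 + (Jordan.NT F d)) ^ j) ⟨l, i⟩ y = (ad θ (Jordan.NT F d) ^ r * (H : Matrix (Ix d) (Ix d) F)) ⟨l, i⟩ y := by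
  induction j with
  | zero => simp
  | succ j ih =>
    intro y
    have e : ad θ (Jordan.NT F d) ^ r * (H : Matrix (Ix d) (Ix d) F) * (1 + (Jordan.NT F d)) ^ (j + 1) =
        ad θ (Jordan.NT F d) ^ r * (H : Matrix (Ix d) (Ix d) F) * (1 + (Jordan.NT F d)) ^ j + -(ad θ (Jordan.NT F d) ^ (r + 1) * ((H : Matrix (Ix d) (Ix d) F) * (1 + (Jordan.NT F d)) ^ (j + 1))) := by
      have h1 : ad θ (Jordan.NT F d) ^ r * ((H : Matrix (Ix d) (Ix d) F) * (Jordan.NT F d)) * (1 + (Jordan.NT F d)) ^ j = -(ad θ (Jordan.NT F d) ^ (r + 1) * ((H : Matrix (Ix d) (Ix d) F) * (1 + (Jordan.NT F d)) ^ (j + 1))) := by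
        rw [H_mul_N d θ H hT, pow_succ (ad θ (Jordan.NT F d)), pow_succ' (1 + (Jordan.NT F d))]
        noncomm_ring
      rw [← h1, pow_succ' (1 + (Jordan.NT F d))]
      noncomm_ring
    have hz : (ad θ (Jordan.NT F d) ^ (r + 1) * ((H : Matrix (Ix d) (Ix d) F) * (1 + (Jordan.NT F d)) ^ (j + 1))) ⟨l, i⟩ y = 0 := by
      rw [Matrix.mul_apply]
      exact Finset.sum_eq_zero fun z _ => by rw [ad_N_pow_apply d θ (r + 1) l i hr z, zero_mul]
    rw [e, Matrix.add_apply, Matrix.neg_apply, hz, neg_zero, add_zero, ih]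

include hH

theorem ad_G (D : ↥(Finset.univ.image d)) :
    ad θ (G d hd H D) = (ε * (-1) ^ ((D : ℕ) - 1)) • G d hd H D := by
  ext l k
  set r := (D : ℕ) - 1
  have h1 : ((H : Matrix (Ix d) (Ix d) F) * (Jordan.NT F d) ^ r) (o d hd l.1) (o d hd k.1) = (-1 : F) ^ r * (ad θ (Jordan.NT F d) ^ r * (H : Matrix (Ix d) (Ix d) F)) (o d hd l.1) (o d hd k.1) := by
    rw [H_mul_N_pow d θ H hT, Matrix.smul_apply, smul_eq_mul,
      ad_N_pow_row d θ H r l.1 ⟨0, hd l.1⟩ (by have := l.2; simp only [r]; omega) hT r]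
  rw [ad_apply, Matrix.smul_apply, smul_eq_mul]
  show θ (((H : Matrix (Ix d) (Ix d) F) * (Jordan.NT F d) ^ r) (o d hd k.1) (o d hd l.1)) = _ * ((H : Matrix (Ix d) (Ix d) F) * (Jordan.NT F d) ^ r) (o d hd l.1) (o d hd k.1)
  have h2 : ad θ ((H : Matrix (Ix d) (Ix d) F) * (Jordan.NT F d) ^ r) = ε • (ad θ (Jordan.NT F d) ^ r * (H : Matrix (Ix d) (Ix d) F)) := by
    rw [ad_mul, ad_pow, hH, Matrix.mul_smul]
  have h3 := congrFun (congrFun h2 (o d hd l.1)) (o d hd k.1)
  rw [ad_apply, Matrix.smul_apply, smul_eq_mul] at h3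
  rw [h3, h1, mul_assoc, ← mul_assoc ((-1 : F) ^ r), ← mul_pow]
  simp

omit hH

/-- The adjoint for `H`. -/
def σ (M : A F d) : A F d :=
  ⟨((H⁻¹ : GL (Ix d) F) : Matrix (Ix d) (Ix d) F) * ad θ M.1 * (H : Matrix (Ix d) (Ix d) F), by
    set T : Matrix (Ix d) (Ix d) F := 1 + (Jordan.NT F d) with hTdef
    set σ₀ : Matrix (Ix d) (Ix d) F → Matrix (Ix d) (Ix d) F := fun X => ((H⁻¹ : GL (Ix d) F) : Matrix (Ix d) (Ix d) F) * ad θ X * (H : Matrix (Ix d) (Ix d) F) with hσ₀
    have hmul : ∀ X Y, σ₀ (X * Y) = σ₀ Y * σ₀ X := fun X Y => by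
      simp only [hσ₀, ad_mul, mul_assoc, Units.mul_inv_cancel_left]
    have h1 : σ₀ T * T = 1 := by
      simp only [hσ₀, mul_assoc]
      rw [show ad θ T * ((H : Matrix (Ix d) (Ix d) F) * T) = (H : Matrix (Ix d) (Ix d) F) by rw [← mul_assoc, hT], Units.inv_mul]
    have h2 : T * σ₀ T = 1 := mul_eq_one_comm.mp h1
    have hMT : M.1 * T = T * M.1 := by
      rw [hTdef, mul_add, add_mul, mul_one, one_mul, (mem_A d).mp M.2]
    have h3 := congrArg σ₀ hMT
    rw [hmul, hmul] at h3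
    have h4 : σ₀ M.1 * T = T * σ₀ M.1 := by
      calc σ₀ M.1 * T = T * σ₀ T * σ₀ M.1 * T := by rw [h2, one_mul]
        _ = T * (σ₀ T * σ₀ M.1) * T := by noncomm_ring
        _ = T * (σ₀ M.1 * σ₀ T) * T := by rw [← h3]
        _ = T * σ₀ M.1 * (σ₀ T * T) := by noncomm_ring
        _ = _ := by rw [h1, mul_one]
    rw [hTdef, mul_add, add_mul, mul_one, one_mul, add_right_inj] at h4
    exact (mem_A d).mpr h4⟩

theorem σ_val (M : A F d) :
    (σ d θ H hT M).1 = ((H⁻¹ : GL (Ix d) F) : Matrix (Ix d) (Ix d) F) * ad θ M.1 * (H : Matrix (Ix d) (Ix d) F) := rfl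

theorem σ_smul (c : F) (M : A F d) : σ d θ H hT (c • M) = θ c • σ d θ H hT M := by
  apply Subtype.ext
  rw [σ_val, SetLike.val_smul, SetLike.val_smul, σ_val, ad_smul, Matrix.mul_smul, Matrix.smul_mul]

theorem G_mul_π_σ (D : ↥(Finset.univ.image d)) (M : A F d) :
    G d hd H D * π d hd (σ d θ H hT M) D = ad θ (π d hd M D) * G d hd H D := by
  have h1 := topBlock_sandwich d hd θ H hT D (σ d θ H hT M) 1
  have h2 := topBlock_sandwich d hd θ H hT D 1 M
  rw [show π d hd (1 : A F d) D = 1 from congrFun (π d hd).map_one D, ad_one, one_mul] at h1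
  rw [show π d hd (1 : A F d) D = 1 from congrFun (π d hd).map_one D, mul_one] at h2
  rw [← h1, ← h2]
  congr 1
  simp only [σ_val, OneMemClass.coe_one, ad_one, mul_one, one_mul, ← mul_assoc, Units.mul_inv]

include hθ hH in
theorem isAnti_σ (hε : ε * θ ε = 1) : AntiInv.IsAnti (σ d θ H hT) where
  add a b := Subtype.ext (by simp only [σ_val, Subalgebra.coe_add, ad_add, mul_add, add_mul])
  mul a b := Subtype.ext (by simp only [σ_val, Subalgebra.coe_mul, ad_mul, mul_assoc, Units.mul_inv_cancel_left])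
  invol a := Subtype.ext (by
    have hi : ad θ ((H⁻¹ : GL (Ix d) F) : Matrix (Ix d) (Ix d) F) = θ ε • ((H⁻¹ : GL (Ix d) F) : Matrix (Ix d) (Ix d) F) := by
      have h1 : ad θ (H : Matrix (Ix d) (Ix d) F) * ad θ ((H⁻¹ : GL (Ix d) F) : Matrix (Ix d) (Ix d) F) = 1 := by rw [← ad_mul, Units.inv_mul, ad_one]
      rw [hH] at h1
      have h2 : (ε • (H : Matrix (Ix d) (Ix d) F)) * (θ ε • ((H⁻¹ : GL (Ix d) F) : Matrix (Ix d) (Ix d) F)) = 1 := by
        rw [smul_mul_smul_comm, hε, Units.mul_inv, one_smul]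
      exact (left_inv_eq_right_inv (mul_eq_one_comm.mp h2) h1).symm
    rw [σ_val, σ_val, ad_mul, ad_mul, ad_ad θ hθ, hi, hH]
    simp only [Matrix.smul_mul, Matrix.mul_smul, mul_assoc, Units.inv_mul, mul_one, Units.inv_mul_cancel_left,
      smul_smul, mul_comm (θ ε) ε, hε, one_smul])

theorem π_σ_eq_zero (M : A F d) (hM : π d hd M = 0) : π d hd (σ d θ H hT M) = 0 := by
  funext D
  refine (isUnit_G d hd θ H hT D).mul_left_cancel ?_
  rw [G_mul_π_σ, hM, Pi.zero_apply, ad_zero, zero_mul, mul_zero]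

include hθ hH in
/-- The image of the isometries. -/
theorem range_π [Finite F] (hε : ε * θ ε = 1) (α : F) (hα : α + θ α = 1) :
    (Set.range fun g : {g : (A F d)ˣ // σ d θ H hT (g : A F d) * g = 1} => π d hd (g.1 : A F d)) =
      {B | ∀ D, ad θ (B D) * G d hd H D * B D = G d hd H D} := by
  have hA := isAnti_σ d θ hθ ε H hH hT hε
  ext B
  constructor
  · rintro ⟨⟨g, hg⟩, rfl⟩ D
    show ad θ (π d hd (g : A F d) D) * G d hd H D * π d hd (g : A F d) D = G d hd H D
    rw [← G_mul_π_σ d hd θ H hT D (g : A F d), mul_assoc, ← Pi.mul_apply, ← map_mul, hg, map_one, Pi.one_apply, mul_one]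
  · intro hB
    obtain ⟨x, rfl⟩ := π_surjective d hd B
    obtain ⟨g, hg, hgx⟩ := AntiInv.exists_lift hA (π d hd) (isNilpotent_of_π_eq_zero d hd)
      (α := algebraMap F (A F d) α) (fun z => Algebra.commutes α z) (by
        have e : σ d θ H hT (algebraMap F (A F d) α) = algebraMap F (A F d) (θ α) := by
          rw [Algebra.algebraMap_eq_smul_one, Algebra.algebraMap_eq_smul_one, σ_smul,
            AntiInv.map_one hA]
        rw [e, ← map_add, hα, map_one]) (x := x) (by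
        funext D
        refine (isUnit_G d hd θ H hT D).mul_left_cancel ?_
        rw [map_mul, Pi.mul_apply, ← mul_assoc, G_mul_π_σ, hB D, Pi.one_apply, mul_one])
    exact ⟨⟨g, hg⟩, hgx⟩

include hθ hH in
/-- The fixed points in the kernel, when `θ` moves a scalar. -/
theorem card_ker_sq [Finite F] (hε : ε * θ ε = 1) (a : F) (ha : θ a ≠ a) :
    Nat.card {M : A F d // π d hd M = 0 ∧ σ d θ H hT M = M} ^ 2 = Nat.card {M : A F d // π d hd M = 0} := by
  have hA := isAnti_σ d θ hθ ε H hH hT hε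
  set c := θ a - a with hc
  have hc0 : c ≠ 0 := sub_ne_zero.mpr ha
  have hθc : θ c = -c := by rw [hc, map_sub, hθ, neg_sub]
  rw [sq, ← Nat.card_prod]
  refine Nat.card_congr
    { toFun := fun x => ⟨x.1.1 + a • x.2.1, by rw [map_add, π_smul, x.1.2.1, x.2.2.1, smul_zero, add_zero]⟩
      invFun := fun M => (⟨M.1 - a • (c⁻¹ • (σ d θ H hT M.1 - M.1)), ?_, ?_⟩,
        ⟨c⁻¹ • (σ d θ H hT M.1 - M.1), ?_, ?_⟩)
      left_inv := fun x => ?_
      right_inv := fun M => Subtype.ext (sub_add_cancel _ _) }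
  · rw [map_sub, π_smul, π_smul, map_sub, π_σ_eq_zero d hd θ H hT _ M.2, M.2, sub_zero, smul_zero, smul_zero, sub_zero]
  · rw [AntiInv.map_sub hA, σ_smul, σ_smul, AntiInv.map_sub hA, hA.invol, map_inv₀, hθc]
    match_scalars <;> field_simp <;> rw [hc] <;> ring
  · rw [π_smul, map_sub, π_σ_eq_zero d hd θ H hT _ M.2, M.2, sub_zero, smul_zero]
  · rw [σ_smul, AntiInv.map_sub hA, hA.invol, map_inv₀, hθc]
    match_scalars <;> field_simp
  · obtain ⟨⟨s, hs, hs'⟩, ⟨t, ht, ht'⟩⟩ := x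
    have e : σ d θ H hT (s + a • t) - (s + a • t) = c • t := by
      rw [hA.add, hs', σ_smul, ht', hc, sub_smul]; abel
    refine Prod.ext (Subtype.ext ?_) (Subtype.ext ?_)
    · show s + a • t - a • (c⁻¹ • (σ d θ H hT (s + a • t) - (s + a • t))) = s
      rw [e, inv_smul_smul₀ hc0, add_sub_cancel_right]
    · show c⁻¹ • (σ d θ H hT (s + a • t) - (s + a • t)) = t
      rw [e, inv_smul_smul₀ hc0]

end Form

end Cfsg.Agent.Forms.UnipCent
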