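import Cfsg.Agent.Lib.Forms.UnipotentType
import Cfsg.Agent.Lib.RegUnip.SpBase
/-
Unipotent types in the symplectic and orthogonal matrix groups.
* `rank_pow_of_regular`, `realizes_single_even`
* `exists_symplectic_of_realizes`, `exists_quadratic_of_realizes`
-/

set_option autoImplicit false
set_option linter.unusedSectionVars false

namespace Cfsg.Agent.Forms.Unip

open Module Matrix

variable {F : Type*} [Field F]

theorem rank_pow_of_regular {ι : Type*} [Fintype ι] [DecidableEq ι] (N : Matrix ι ι F)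
    (hN : IsNilpotent N) (hreg : N ^ (Fintype.card ι - 1) ≠ 0) (r : ℕ) :
    (N ^ r).rank = Fintype.card ι - r := by
  set n := Fintype.card ι
  let σ := Fintype.equivFin ι
  set M : Matrix (Fin n) (Fin n) F := Matrix.reindexAlgEquiv F F σ N with hM
  obtain ⟨t, d, e, P, hd, hP⟩ := Jordan.exists_type M (hN.map _)
  set T : Matrix (Fin n) (Fin n) F := Matrix.reindex e e (Jordan.NT F d) with hT
  have hs : ∀ k, SemiconjBy (P : Matrix (Fin n) (Fin n) F) (T ^ k) (M ^ k) :=
    fun k => SemiconjBy.pow_right hP.symm k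
  have hdet : IsUnit (P : Matrix (Fin n) (Fin n) F).det := (Matrix.isUnit_iff_isUnit_det _).1 P.isUnit
  have hTp : ∀ k, T ^ k = Matrix.reindexAlgEquiv F F e (Jordan.NT F d ^ k) := fun k => by
    rw [map_pow]; rfl
  have hsum : ∑ k, d k = n := by simpa using Fintype.card_congr e
  obtain ⟨k₀, hk₀⟩ : ∃ k, ¬ d k ≤ n - 1 := by
    by_contra! hall
    apply hreg
    have h1 : T ^ (n - 1) = 0 := by rw [hTp, (Jordan.NT_pow_eq_zero_iff d (n - 1)).2 hall, map_zero]
    have h2 : M ^ (n - 1) * (P : Matrix (Fin n) (Fin n) F) = 0 := by rw [← (hs _).eq, h1, mul_zero]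
    rw [Units.mul_left_eq_zero, hM, ← map_pow, map_eq_zero_iff _ (AlgEquiv.injective _)] at h2
    exact h2
  have hall : ∀ k, k = k₀ := fun k => by
    by_contra hk
    have h1 : d k + d k₀ ≤ ∑ k, d k := by
      rw [← Finset.sum_pair hk]
      exact Finset.sum_le_sum_of_subset (Finset.subset_univ _)
    have := hd k
    omega
  have hu : (Finset.univ : Finset (Fin t)) = {k₀} :=
    Finset.ext fun k => by simp [hall k]
  rw [hu, Finset.sum_singleton] at hsum
  have h3 : (M ^ r).rank = (N ^ r).rank := by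
    rw [hM, ← map_pow, Matrix.coe_reindexAlgEquiv, Matrix.rank_reindex]
  rw [← h3, ← Matrix.rank_mul_eq_left_of_isUnit_det _ (M ^ r) hdet, ← (hs r).eq,
    Matrix.rank_mul_eq_right_of_isUnit_det _ _ hdet, hTp, Matrix.coe_reindexAlgEquiv,
    Matrix.rank_reindex, Jordan.rank_NT_pow, hu, Finset.sum_singleton, hsum]

/-- A single block of even size for an alternating form, any characteristic. -/
theorem realizes_single_even (l : ℕ) : Realizes F (-1 : F) {2 * (l + 1)} := by
  obtain ⟨hnil, hne⟩ := RegUnip.Sp.U_regular (F := F) (l := l)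
  have hc : Fintype.card (Fin (l + 1) ⊕ Fin (l + 1)) = 2 * (l + 1) := by simp [two_mul]
  refine ⟨Fin (l + 1) ⊕ Fin (l + 1), inferInstance, inferInstance, Matrix.J (Fin (l + 1)) F,
    (RegUnip.Sp.U F l).val, Matrix.isUnit_det_J _ _, ?_, fun _ i => ?_, ?_, by simp [two_mul], fun r => ?_⟩
  · rw [Matrix.J_transpose]; simp
  · rcases i with i | i <;> simp [Matrix.J]
  · refine SymplecticGroup.mem_iff'.1 ((GLOrder.mem_symplecticGroup_iff_preserves _).2 fun u v => ?_)
    rw [GLOrder.sympB_eq_neg_sympForm, GLOrder.sympB_eq_neg_sympForm]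
    exact congrArg Neg.neg ((Transvect.mem_spGL_iff.1 (RegUnip.Sp.U_mem (F := F) (l := l))) u v)
  · rw [rank_pow_of_regular _ hnil (by rw [hc]; exact hne), hc]
    simp

/-- Transport of a matrix with a bilinear form. -/
theorem exists_transport {ι κ : Type} [Fintype ι] [DecidableEq ι] [Fintype κ] [DecidableEq κ]
    (S A : Matrix ι ι F) (hA : Aᵀ * S * A = S) (e : (κ → F) ≃ₗ[F] (ι → F)) :
    ∃ C : Matrix κ κ F, (∀ r, ((C - 1) ^ r).rank = ((A - 1) ^ r).rank) ∧
      ∀ x y, Matrix.toLinearMap₂' F S (e (C *ᵥ x)) (e (C *ᵥ y))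
        = Matrix.toLinearMap₂' F S (e x) (e y) := by
  let g := e.symm.toLinearMap.comp ((Matrix.toLin' A).comp e.toLinearMap)
  refine ⟨LinearMap.toMatrix' g, fun r => ?_, fun x y => ?_⟩
  · have h1 : ∀ (k : ℕ) x, ((Matrix.toLin' (LinearMap.toMatrix' g - 1)) ^ k) x
        = e.symm (((Matrix.toLin' (A - 1)) ^ k) (e x)) := by
      intro k
      induction k with
      | zero => simp
      | succ k ih =>
        intro x
        rw [pow_succ', Module.End.mul_apply, ih, pow_succ', Module.End.mul_apply]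
        simp [g, map_sub, Matrix.sub_mulVec]
    have h2 : LinearMap.range ((Matrix.toLin' (LinearMap.toMatrix' g - 1)) ^ r)
        = (LinearMap.range ((Matrix.toLin' (A - 1)) ^ r)).map e.symm.toLinearMap := by
      ext z
      constructor
      · rintro ⟨x, rfl⟩
        exact ⟨_, ⟨e x, rfl⟩, (h1 r x).symm⟩
      · rintro ⟨_, ⟨x, rfl⟩, rfl⟩
        exact ⟨e.symm x, by rw [h1, e.apply_symm_apply]; rfl⟩
    have h3 : LinearMap.range (((LinearMap.toMatrix' g - 1) ^ r).mulVecLin)
        = (LinearMap.range (((A - 1) ^ r).mulVecLin)).map e.symm.toLinearMap := by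
      rw [← Matrix.toLin'_apply', ← Matrix.toLin'_apply', Matrix.toLin'_pow, Matrix.toLin'_pow]
      exact h2
    rw [Matrix.rank, Matrix.rank, h3, LinearEquiv.finrank_map_eq]
  · have h : ∀ x, e (LinearMap.toMatrix' g *ᵥ x) = A *ᵥ e x := fun x => by
      rw [LinearMap.toMatrix'_mulVec]; simp [g]
    rw [h, h, Matrix.toLinearMap₂'_apply', Matrix.toLinearMap₂'_apply', Matrix.mulVec_mulVec,
      Matrix.dotProduct_mulVec, Matrix.vecMul_mulVec, ← Matrix.dotProduct_mulVec, ← Matrix.mul_assoc, hA]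

theorem toLinearMap₂'_nondegenerate {ι : Type} [Fintype ι] [DecidableEq ι] {S : Matrix ι ι F}
    (hS : IsUnit S.det) : LinearMap.BilinForm.Nondegenerate (Matrix.toLinearMap₂' F S) :=
  LinearMap.BilinForm.nondegenerate_iff_det_ne_zero (Pi.basisFun F ι) |>.2 <| by
    have h : LinearMap.BilinForm.toMatrix (Pi.basisFun F ι) (Matrix.toLinearMap₂' F S) = S := by
      ext i j
      simp [LinearMap.BilinForm.toMatrix_apply, Matrix.toLinearMap₂'_apply']
    rw [h]; exact hS.ne_zero

theorem toLinearMap₂'_isAlt {ι : Type} [Fintype ι] [DecidableEq ι] {S : Matrix ι ι F}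
    (hS : Sᵀ = -S) (hd : ∀ i, S i i = 0) :
    LinearMap.BilinForm.IsAlt (Matrix.toLinearMap₂' F S) := by
  intro v
  rw [Matrix.toLinearMap₂'_apply']
  simp only [dotProduct, Matrix.mulVec, Finset.mul_sum]
  rw [← Finset.sum_product']
  refine Finset.sum_involution (fun p _ => p.swap) (fun p _ => ?_) (fun p _ hne h => hne ?_)
    (fun p _ => by simp) fun p _ => Prod.swap_swap p
  · have h1 : S p.2 p.1 = -S p.1 p.2 := congrFun (congrFun hS p.1) p.2
    simp only [Prod.fst_swap, Prod.snd_swap, h1]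
    ring
  · have h1 : p.2 = p.1 := congrArg Prod.fst h
    rw [h1, hd, zero_mul, mul_zero]

/-- Realised alternating types occur in the symplectic group. -/
theorem exists_symplectic_of_realizes {m : ℕ} {D : Multiset ℕ} (h : Realizes F (-1 : F) D)
    (hD : D.sum = 2 * m) : ∃ A : Matrix.symplecticGroup (Fin m) F, ∀ r,
      (((A : Matrix (Fin m ⊕ Fin m) (Fin m ⊕ Fin m) F) - 1) ^ r).rank = (D.map fun a => a - r).sum := by
  obtain ⟨ι, _, _, S, A, hS, hS1, hS2, hA, hc, hr⟩ := h
  have halt := toLinearMap₂'_isAlt (S := S) (by rw [hS1]; simp) (hS2 rfl)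
  obtain ⟨m', k, e, he⟩ := exists_symplectic_equiv _ halt
  obtain rfl : k = 0 := by
    by_contra hk
    have h1 : e (Pi.single (.inr ⟨0, Nat.pos_of_ne_zero hk⟩) 1) = 0 :=
      (toLinearMap₂'_nondegenerate hS).1 _ fun y => by
        obtain ⟨z, rfl⟩ := e.surjective y
        rw [he]
        simp [altStd]
    simpa using congrFun (e.map_eq_zero_iff.1 h1) (.inr ⟨0, Nat.pos_of_ne_zero hk⟩)
  obtain rfl : m' = m := by
    have := e.finrank_eq
    simp [hc, hD] at this
    omega
  let e' : (Fin m' ⊕ Fin m' → F) ≃ₗ[F] (ι → F) :=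
    (LinearEquiv.funCongrLeft F F (Equiv.sumEmpty (Fin m' ⊕ Fin m') (Fin 0))).trans e
  obtain ⟨C, hC, hCB⟩ := exists_transport S A hA e'
  refine ⟨⟨C, (GLOrder.mem_symplecticGroup_iff_preserves _).2 fun u v => ?_⟩, fun r => (hC r).trans (hr r)⟩
  have key : ∀ x y, Matrix.toLinearMap₂' F S (e' x) (e' y) = GLOrder.sympB m' F x y := fun x y => by
    show Matrix.toLinearMap₂' F S (e _) (e _) = _
    rw [he, GLOrder.sympB_apply]
    simp [altStd, LinearEquiv.funCongrLeft_apply]
  rw [← key, ← key]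
  exact hCB u v

/-- Realised symmetric types occur in an orthogonal group (odd characteristic). -/
theorem exists_quadratic_of_realizes (h2 : (2 : F) ≠ 0) {n : ℕ} {D : Multiset ℕ}
    (h : Realizes F (1 : F) D) (hD : D.sum = n) :
    ∃ (Q : QuadraticForm F (Fin n → F)) (C : Matrix (Fin n) (Fin n) F),
      (QuadraticMap.polarBilin Q).Nondegenerate ∧ (∀ v, Q (C *ᵥ v) = Q v) ∧
        ∀ r, ((C - 1) ^ r).rank = (D.map fun a => a - r).sum := by
  obtain ⟨ι, _, _, S, A, hS, hS1, -, hA, hc, hr⟩ := h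
  let e : (Fin n → F) ≃ₗ[F] (ι → F) :=
    LinearEquiv.funCongrLeft F F (Fintype.equivFinOfCardEq (hc.trans hD))
  obtain ⟨C, hC, hCB⟩ := exists_transport S A hA e
  let B : LinearMap.BilinForm F (ι → F) := Matrix.toLinearMap₂' F S
  have hsymm : ∀ u v, B u v = B v u := fun u v => by
    simp only [B, Matrix.toLinearMap₂'_apply']
    rw [dotProduct_comm v, Matrix.dotProduct_mulVec, ← Matrix.mulVec_transpose, hS1, one_smul]
  let Q : QuadraticForm F (Fin n → F) :=
    LinearMap.BilinMap.toQuadraticMap ((2 : F)⁻¹ • B.compl₁₂ e.toLinearMap e.toLinearMap)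
  have hpol : ∀ x y, QuadraticMap.polar Q x y = B (e x) (e y) := fun x y => by
    rw [LinearMap.BilinMap.polar_toQuadraticMap]
    simp only [LinearMap.smul_apply, LinearMap.compl₁₂_apply, LinearEquiv.coe_coe, smul_eq_mul,
      hsymm (e y) (e x)]
    field_simp
    ring
  refine ⟨Q, C, ?_, fun v => ?_, fun r => (hC r).trans (hr r)⟩
  · rw [nondegenerate_polarBilin_iff]
    intro x hx
    refine e.map_eq_zero_iff.1 ((toLinearMap₂'_nondegenerate hS).1 _ fun y => ?_)
    have := hx (e.symm y)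
    rwa [hpol, e.apply_symm_apply] at this
  · simp only [Q, LinearMap.BilinMap.toQuadraticMap_apply, LinearMap.smul_apply,
      LinearMap.compl₁₂_apply, LinearEquiv.coe_coe]
    exact congrArg _ (hCB v v)

end Cfsg.Agent.Forms.Unip
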