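import Cfsg.Agent.Lib.Forms.UnipotentCentralizer
import Cfsg.Agent.Lib.Forms.Diag
import Cfsg.Agent.Lib.Forms.Symplectic
import Cfsg.Agent.Lib.Forms.UnipotentModels

/-!
# Forms preserved by a unipotent matrix of given type, up to the commutant (odd characteristic)

`H` is `ε`-symmetric (`Hᵀ = ε • H`, written with `ad (RingHom.id F)`) and preserved by `T = 1 + NT F d`.
* `exists_congr`      : two such forms are congruent under the commutant if their `G D` are congruent
* `exists_form`       : all families of `G D` of the right symmetry occur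
* `exists_congr_symm` : symmetric matrices with determinants in the same square class are congruent
* `exists_congr_alt`  : invertible alternating matrices of the same size are congruent
-/

set_option autoImplicit false

open Matrix
open scoped Classical MatrixGroups

namespace Cfsg.Agent.Forms.UnipCls

open UnipCent

variable {F : Type*} [Field F] {κ : Type} [Fintype κ] [DecidableEq κ] (d : κ → ℕ) (hd : ∀ k, 1 ≤ d k)

/-- `H` is an `ε`-symmetric form preserved by the model. -/
structure IsForm (ε : F) (H : GL (Ix d) F) : Prop where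
  symm : ad (RingHom.id F) (H : Matrix (Ix d) (Ix d) F) = ε • (H : Matrix (Ix d) (Ix d) F)
  pres : ad (RingHom.id F) (1 + Jordan.NT F d) * (H : Matrix (Ix d) (Ix d) F) * (1 + Jordan.NT F d) =
    (H : Matrix (Ix d) (Ix d) F)

theorem isUnit_of_π [Finite F] (x : A F d) (hx : IsUnit (π d hd x)) : IsUnit x := by
  obtain ⟨u, hu⟩ := hx
  obtain ⟨y, hy⟩ := π_surjective (F := F) d hd ((u⁻¹ : _ˣ) : _)
  have h : IsUnit (x * y) := by
    rw [show x * y = 1 + (x * y - 1) by abel]
    refine IsNilpotent.isUnit_one_add (isNilpotent_of_π_eq_zero d hd _ ?_)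
    rw [map_sub, map_mul, ← hu, hy, Units.mul_inv, map_one, sub_self]
  haveI : Finite (A F d) := inferInstance
  exact IsUnit.of_mul_eq_one (y * ((h.unit⁻¹ : (A F d)ˣ) : A F d)) (by rw [← mul_assoc]; exact h.mul_val_inv)

theorem isUnit_val {x : A F d} (hx : IsUnit x) : IsUnit x.1 := hx.map (A F d).val

variable {ε : F} (hε : ε * ε = 1)

omit [DecidableEq κ] in
theorem hε' (hε : ε * ε = 1) : ε * (RingHom.id F) ε = 1 := hε

theorem comm_T (x : A F d) :
    x.1 * (1 + Jordan.NT F d) = (1 + Jordan.NT F d) * x.1 := by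
  rw [mul_add, add_mul, mul_one, one_mul, (mem_A d).mp x.2]

/-- Transform a form by an element of the commutant. -/
theorem exists_transform {H : GL (Ix d) F} (hH : IsForm d ε H) (x : A F d) (hx : IsUnit x) :
    ∃ H' : GL (Ix d) F, IsForm d ε H' ∧
      (H' : Matrix (Ix d) (Ix d) F) = ad (RingHom.id F) x.1 * (H : Matrix (Ix d) (Ix d) F) * x.1 ∧
      ∀ D, G d hd H' D = ad (RingHom.id F) (π d hd x D) * G d hd H D * π d hd x D := by
  have hu : IsUnit (ad (RingHom.id F) x.1 * (H : Matrix (Ix d) (Ix d) F) * x.1) :=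
    ((isUnit_ad _ (isUnit_val d hx)).mul H.isUnit).mul (isUnit_val d hx)
  refine ⟨hu.unit, ⟨?_, ?_⟩, rfl, fun D => ?_⟩
  · rw [IsUnit.unit_spec, ad_mul, ad_mul, ad_ad _ (fun a => rfl), hH.symm, Matrix.smul_mul, Matrix.mul_smul,
      mul_assoc]
  · rw [IsUnit.unit_spec]
    calc ad (RingHom.id F) (1 + Jordan.NT F d) * (ad (RingHom.id F) x.1 * (H : Matrix (Ix d) (Ix d) F) * x.1) * (1 + Jordan.NT F d)
        = ad (RingHom.id F) (x.1 * (1 + Jordan.NT F d)) * (H : Matrix (Ix d) (Ix d) F) * (x.1 * (1 + Jordan.NT F d)) := by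
          rw [ad_mul]; noncomm_ring
      _ = ad (RingHom.id F) x.1 * (ad (RingHom.id F) (1 + Jordan.NT F d) * (H : Matrix (Ix d) (Ix d) F) * (1 + Jordan.NT F d)) * x.1 := by
          rw [comm_T, ad_mul]; noncomm_ring
      _ = _ := by rw [hH.pres]
  · rw [← topBlock_sandwich d hd (RingHom.id F) H hH.pres D x x]
    rfl

include hε

/-- Equal block forms: congruent. -/
theorem exists_congr_of_eq [Finite F] (h2 : (2 : F) ≠ 0) {H H' : GL (Ix d) F} (hH : IsForm d ε H)
    (hH' : IsForm d ε H') (hG : ∀ D, G d hd H' D = G d hd H D) :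
    ∃ y : A F d, IsUnit y ∧
      ad (RingHom.id F) y.1 * (H : Matrix (Ix d) (Ix d) F) * y.1 = (H' : Matrix (Ix d) (Ix d) F) := by
  set θ := RingHom.id F with hθ
  set T : Matrix (Ix d) (Ix d) F := 1 + Jordan.NT F d with hTdef
  set h := (H : Matrix (Ix d) (Ix d) F) with hh
  set hi := ((H⁻¹ : GL (Ix d) F) : Matrix (Ix d) (Ix d) F) with hhi
  set h' := (H' : Matrix (Ix d) (Ix d) F) with hh'
  have e1 : hi * ad θ T * (h * T) = 1 := by
    rw [mul_assoc, ← mul_assoc (ad θ T), show ad θ T * h * T = h from hH.pres]; exact Units.inv_mul H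
  have e2 : T * (hi * ad θ T * h) = 1 := by
    refine mul_eq_one_comm.mp ?_
    rw [mul_assoc]; exact e1
  have hX : hi * h' ∈ A F d := by
    rw [mem_A]
    have h3 : hi * h' * T = T * (hi * h') := by
      have h1 : ad θ T * h' * T = h' := hH'.pres
      calc hi * h' * T = T * (hi * ad θ T * h) * (hi * h' * T) := by rw [e2, one_mul]
        _ = T * (hi * ad θ T * (h * hi) * h' * T) := by noncomm_ring
        _ = T * (hi * (ad θ T * h' * T)) := by
          rw [show h * hi = 1 from Units.mul_inv H]; noncomm_ring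
        _ = _ := by rw [h1]
    rw [hTdef, mul_add, add_mul, mul_one, one_mul, add_right_inj] at h3
    exact h3
  let X : A F d := ⟨hi * h', hX⟩
  have hA := isAnti_σ d θ (fun a => rfl) ε H hH.symm hH.pres (hε' hε)
  have hπ : π d hd X = 1 := by
    funext D
    refine (isUnit_G d hd θ H hH.pres D).mul_left_cancel ?_
    have h1 := topBlock_sandwich d hd θ H hH.pres D X 1
    rw [show π d hd (1 : A F d) D = 1 from congrFun (π d hd).map_one D, ad_one, one_mul] at h1
    rw [Pi.one_apply, mul_one, ← h1, ← hG D]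
    show topBlock d hd D (ad θ (1 : Matrix (Ix d) (Ix d) F) * h * (hi * h') * _) = topBlock d hd D (h' * _)
    rw [ad_one, one_mul, ← mul_assoc h, show h * hi = 1 from Units.mul_inv H, one_mul]
  have hs : π d hd (X - 1) = 0 := by rw [map_sub, hπ, map_one, sub_self]
  have hfix : σ d θ H hH.pres X = X := by
    apply Subtype.ext
    rw [σ_val]
    show hi * ad θ (hi * h') * h = hi * h'
    have hia : ad θ hi = ε • hi := by
      have h1 : ad θ h * ad θ hi = 1 := by rw [← ad_mul, show hi * h = 1 from Units.inv_mul H, ad_one]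
      rw [show ad θ h = ε • h from hH.symm] at h1
      have h2 : (ε • h) * (ε • hi) = 1 := by
        rw [smul_mul_smul_comm, hε, show h * hi = 1 from Units.mul_inv H, one_smul]
      exact (left_inv_eq_right_inv (mul_eq_one_comm.mp h2) h1).symm
    rw [ad_mul, hia, show ad θ h' = ε • h' from hH'.symm, smul_mul_smul_comm, hε, one_smul, mul_assoc, mul_assoc,
      show hi * h = 1 from Units.inv_mul H, mul_one]
  have hσs : σ d θ H hH.pres (X - 1) = X - 1 := by rw [AntiInv.map_sub hA, hfix, AntiInv.map_one hA]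
  obtain ⟨k, hk⟩ := isNilpotent_of_π_eq_zero d hd _ hs
  obtain ⟨c, -, hY⟩ := AntiInv.exists_norm_one_add hA (α := algebraMap F (A F d) (2⁻¹ : F))
    (fun z => Algebra.commutes _ z) (by
      rw [Algebra.algebraMap_eq_smul_one, σ_smul, AntiInv.map_one hA, ← add_smul]
      rw [show (2⁻¹ : F) + θ 2⁻¹ = 1 by simp [hθ]; field_simp; norm_num, one_smul]) k (X - 1) hk hσs
  set Y := 1 + (X - 1) * c
  refine ⟨Y, isUnit_of_π d hd _ ?_, ?_⟩
  · rw [map_add, map_one, map_mul, hs, zero_mul, add_zero]; exact isUnit_one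
  · rw [add_sub_cancel] at hY
    have h1 : hi * ad θ Y.1 * h * Y.1 = hi * h' := congrArg Subtype.val hY
    have h2 := congrArg (h * ·) h1
    simpa only [← mul_assoc, show h * hi = 1 from Units.mul_inv H, one_mul] using h2

/-- Congruent block forms: congruent. -/
theorem exists_congr [Finite F] (h2 : (2 : F) ≠ 0) {H H' : GL (Ix d) F} (hH : IsForm d ε H)
    (hH' : IsForm d ε H')
    (hG : ∀ D, ∃ B : Matrix (Fb d D) (Fb d D) F, IsUnit B ∧ ad (RingHom.id F) B * G d hd H D * B = G d hd H' D) :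
    ∃ y : A F d, IsUnit y ∧
      ad (RingHom.id F) y.1 * (H : Matrix (Ix d) (Ix d) F) * y.1 = (H' : Matrix (Ix d) (Ix d) F) := by
  choose B hBu hB using hG
  obtain ⟨x, hx⟩ := π_surjective (F := F) d hd B
  have hxu : IsUnit x := isUnit_of_π d hd x (by rw [hx]; exact Pi.isUnit_iff.mpr hBu)
  obtain ⟨H₁, hH₁, hH₁v, hG₁⟩ := exists_transform d hd hH x hxu
  obtain ⟨y, hy, hyH⟩ := exists_congr_of_eq d hd hε h2 hH₁ hH' (fun D => by rw [hG₁ D, hx, hB D])
  refine ⟨x * y, hxu.mul hy, ?_⟩
  rw [← hyH, hH₁v, Subalgebra.coe_mul, ad_mul]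
  simp only [mul_assoc]

/-- Prescribed block forms. -/
theorem exists_form [Finite F] (h2 : (2 : F) ≠ 0) {H : GL (Ix d) F} (hH : IsForm d ε H)
    (G' : (D : ↥(Finset.univ.image d)) → Matrix (Fb d D) (Fb d D) F) (hu : ∀ D, IsUnit (G' D))
    (hs : ∀ D, ad (RingHom.id F) (G' D) = (ε * (-1) ^ ((D : ℕ) - 1)) • G' D) :
    ∃ H' : GL (Ix d) F, IsForm d ε H' ∧ ∀ D, G d hd H' D = G' D := by
  set θ := RingHom.id F with hθ
  set h := (H : Matrix (Ix d) (Ix d) F) with hh
  set T : Matrix (Ix d) (Ix d) F := 1 + Jordan.NT F d with hTdef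
  have hA := isAnti_σ d θ (fun a => rfl) ε H hH.symm hH.pres (hε' hε)
  have hGu := fun D => isUnit_G d hd θ H hH.pres D
  obtain ⟨y, hy⟩ := π_surjective (F := F) d hd fun D => ((hGu D).unit⁻¹ : _ˣ).val * G' D
  have hyD : ∀ D, G d hd H D * π d hd y D = G' D := fun D => by
    rw [hy, ← mul_assoc, (hGu D).mul_val_inv, one_mul]
  have hσy : ∀ D, G d hd H D * π d hd (σ d θ H hH.pres y) D = G' D := fun D => by
    rw [G_mul_π_σ]
    have h1 := congrArg (ad θ) (hyD D)
    rw [ad_mul, ad_G d hd θ ε H hH.symm hH.pres, hs, Matrix.mul_smul] at h1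
    refine smul_right_injective _ ?_ h1
    exact mul_ne_zero (left_ne_zero_of_mul_eq_one hε) (pow_ne_zero _ (by norm_num))
  set x := (2⁻¹ : F) • (y + σ d θ H hH.pres y) with hxdef
  have hxD : ∀ D, G d hd H D * π d hd x D = G' D := fun D => by
    rw [hxdef, π_smul, Pi.smul_apply, map_add, Pi.add_apply, Matrix.mul_smul, mul_add, hyD, hσy, ← two_smul F (G' D),
      smul_smul, inv_mul_cancel₀ h2, one_smul]
  have hxu : IsUnit x := isUnit_of_π d hd x (Pi.isUnit_iff.mpr fun D => by
    have h1 : IsUnit (G d hd H D * π d hd x D) := by rw [hxD]; exact hu D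
    rw [Matrix.isUnit_iff_isUnit_det] at h1 ⊢
    rw [Matrix.det_mul] at h1
    exact isUnit_of_mul_isUnit_right h1)
  have hxf : σ d θ H hH.pres x = x := by
    rw [hxdef, σ_smul, hA.add, hA.invol, add_comm]
    simp [hθ]
  have hxu' := isUnit_val d hxu
  let H' : GL (Ix d) F := H * hxu'.unit
  have hv : (H' : Matrix (Ix d) (Ix d) F) = h * x.1 := rfl
  refine ⟨H', ⟨?_, ?_⟩, fun D => ?_⟩
  · rw [hv, ad_mul, show ad θ h = ε • h from hH.symm, Matrix.mul_smul]
    congr 1
    have h1 := congrArg (fun z : A F d => h * z.1) hxf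
    simp only [σ_val] at h1
    rw [← mul_assoc, ← mul_assoc, Units.mul_inv, one_mul] at h1
    exact h1
  · rw [hv]
    calc ad θ T * (h * x.1) * T = ad θ T * h * (x.1 * T) := by noncomm_ring
      _ = ad θ T * h * T * x.1 := by rw [show x.1 * T = T * x.1 from comm_T d x]; noncomm_ring
      _ = _ := by rw [show ad θ T * h * T = h from hH.pres]
  · have h1 := topBlock_sandwich d hd θ H hH.pres D x 1
    rw [show π d hd (1 : A F d) D = 1 from congrFun (π d hd).map_one D, ad_one, one_mul, hxD] at h1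
    rw [← h1]
    show topBlock d hd D (h * x.1 * _) = topBlock d hd D (ad θ (1 : Matrix (Ix d) (Ix d) F) * h * x.1 * _)
    rw [ad_one, one_mul]

omit hε

/-! ### Congruence of matrices -/

/-- A basis change giving the Gram matrix. -/
theorem congr_of_equiv {n n' : Type} [Fintype n] [Fintype n'] [DecidableEq n] [DecidableEq n']
    (M : Matrix n n F) (M' : Matrix n' n' F) (e : (n' → F) ≃ₗ[F] (n → F))
    (h : ∀ x y, Matrix.toLinearMap₂' F M (e x) (e y) = Matrix.toLinearMap₂' F M' x y) :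
    (LinearMap.toMatrix' (e : (n' → F) →ₗ[F] (n → F)))ᵀ * M * LinearMap.toMatrix' (e : (n' → F) →ₗ[F] (n → F)) = M' := by
  apply (Matrix.toLinearMap₂' F (n := n') (m := n') (S₁ := F) (S₂ := F) (N₂ := F)).injective
  refine LinearMap.ext fun x => LinearMap.ext fun y => ?_
  rw [← h, Matrix.toLinearMap₂'_apply', Matrix.toLinearMap₂'_apply']
  have he : ∀ z, e z = LinearMap.toMatrix' (e : (n' → F) →ₗ[F] (n → F)) *ᵥ z := fun z => by
    rw [LinearMap.toMatrix'_mulVec]; rfl
  rw [he, he, ← Matrix.mulVec_mulVec, ← Matrix.mulVec_mulVec, Matrix.dotProduct_mulVec x, Matrix.vecMul_transpose]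

/-- Two congruences onto one matrix. -/
theorem congr_trans {n n' : Type} [Fintype n] [Fintype n'] [DecidableEq n] [DecidableEq n']
    (M M' : Matrix n n F) (S : Matrix n' n' F) (e e' : (n' → F) ≃ₗ[F] (n → F))
    (h : ∀ x y, Matrix.toLinearMap₂' F M (e x) (e y) = Matrix.toLinearMap₂' F S x y)
    (h' : ∀ x y, Matrix.toLinearMap₂' F M' (e' x) (e' y) = Matrix.toLinearMap₂' F S x y) :
    ∃ B : Matrix n n F, IsUnit B ∧ Bᵀ * M * B = M' := by
  refine ⟨LinearMap.toMatrix' ((e'.symm.trans e : (n → F) ≃ₗ[F] (n → F)) : (n → F) →ₗ[F] (n → F)), ?_, ?_⟩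
  · exact IsUnit.of_mul_eq_one (LinearMap.toMatrix' ((e'.symm.trans e).symm : (n → F) →ₗ[F] (n → F)))
      (by rw [← LinearMap.toMatrix'_comp, ← LinearMap.toMatrix'_id]; congr 1; ext x; simp)
  · refine congr_of_equiv M M' _ fun x y => ?_
    rw [LinearEquiv.trans_apply, LinearEquiv.trans_apply, h, ← h', LinearEquiv.apply_symm_apply,
      LinearEquiv.apply_symm_apply]

/-- Symmetric matrices with determinants in the same square class are congruent. -/
theorem exists_congr_symm [Finite F] (h2 : (2 : F) ≠ 0) {n : Type} [Fintype n] [DecidableEq n] [Nonempty n]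
    (M M' : Matrix n n F) (hM : Mᵀ = M) (hM' : M'ᵀ = M') (hu : IsUnit M) (hu' : IsUnit M')
    (hdet : IsSquare M.det ↔ IsSquare M'.det) :
    ∃ B : Matrix n n F, IsUnit B ∧ Bᵀ * M * B = M' := by
  haveI := Fintype.ofFinite F
  obtain ⟨α, hα⟩ := FiniteField.exists_nonsquare (F := F) (fun h => h2 (by
    haveI : CharP F 2 := ringChar.of_eq h
    exact CharTwo.two_eq_zero))
  obtain ⟨k, hk⟩ : ∃ k, Fintype.card n = k + 1 := ⟨Fintype.card n - 1, by have := Fintype.card_pos (α := n); omega⟩
  have key : ∀ (N : Matrix n n F), Nᵀ = N → IsUnit N → ∃ (γ : F) (e : (Fin (k + 1) → F) ≃ₗ[F] (n → F)),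
      (γ = 1 ∨ γ = α) ∧ (∀ x y, Matrix.toLinearMap₂' F N (e x) (e y) =
        Matrix.toLinearMap₂' F (Matrix.diagonal fun i => if i = Fin.last k then γ else 1) x y) ∧
      (IsSquare N.det ↔ γ = 1) := by
    intro N hN hNu
    obtain ⟨γ, e, hγ, he⟩ := exists_diag_equiv h2 (Matrix.toLinearMap₂' F N) ⟨fun x y => by
        rw [Matrix.toLinearMap₂'_apply', Matrix.toLinearMap₂'_apply', Matrix.dotProduct_mulVec,
          ← Matrix.mulVec_transpose, hN, dotProduct_comm]⟩
      (Unip.toLinearMap₂'_nondegenerate ((Matrix.isUnit_iff_isUnit_det _).mp hNu)) (n := k)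
      (by rw [Module.finrank_pi, hk]) α hα
    have he' : ∀ x y, Matrix.toLinearMap₂' F N (e x) (e y) =
        Matrix.toLinearMap₂' F (Matrix.diagonal fun i => if i = Fin.last k then γ else 1) x y := fun x y => by
      rw [he, Matrix.toLinearMap₂'_apply']
      simp only [dotProduct, Matrix.mulVec_diagonal]
      exact Finset.sum_congr rfl fun i _ => by ring
    refine ⟨γ, e, hγ, he', ?_⟩
    let σ := Fintype.equivFinOfCardEq hk
    let e2 : (Fin (k + 1) → F) ≃ₗ[F] (n → F) := LinearEquiv.funCongrLeft F F σ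
    have hc := congr_of_equiv N (Matrix.diagonal fun i => if i = Fin.last k then γ else 1) e he'
    -- make the matrix of the basis change square
    have hs := congrArg (fun X : Matrix (Fin (k + 1)) (Fin (k + 1)) F => X.det) hc
    set P := LinearMap.toMatrix' (e : (Fin (k + 1) → F) →ₗ[F] (n → F)) with hP
    have hN' : N = (N.submatrix σ.symm σ.symm).submatrix σ σ := by ext; simp
    have hP' : Pᵀ * N * P = (P.submatrix σ.symm id)ᵀ * (N.submatrix σ.symm σ.symm) * P.submatrix σ.symm id := by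
      rw [Matrix.transpose_submatrix, Matrix.submatrix_mul_equiv, Matrix.submatrix_mul_equiv, Matrix.submatrix_id_id]
    simp only [hP', Matrix.det_mul, Matrix.det_transpose, Matrix.det_submatrix_equiv_self, Matrix.det_diagonal,
      Finset.prod_ite_eq', Finset.mem_univ, if_true] at hs
    set r := (P.submatrix σ.symm id).det with hr
    have hγ0 : γ ≠ 0 := by
      rcases hγ with rfl | rfl
      · exact one_ne_zero
      · exact fun h => hα (h ▸ IsSquare.zero)
    have hr0 : r ≠ 0 := fun h => hγ0 (by rw [← hs, h]; simp)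
    constructor
    · rintro ⟨s, hs'⟩
      rcases hγ with h | h
      · exact h
      · exact absurd ⟨r * s, by rw [← h, ← hs, hs']; ring⟩ hα
    · intro h
      refine ⟨r⁻¹, ?_⟩
      rw [h] at hs
      field_simp
      linear_combination hs
  obtain ⟨γ, e, hγ, he, hiff⟩ := key M hM hu
  obtain ⟨γ', e', hγ', he', hiff'⟩ := key M' hM' hu'
  have hgg : γ = γ' := by
    rcases hγ with h | h <;> rcases hγ' with h' | h' <;> rw [h, h']
    · rw [← h']; exact ((hiff'.mp (hdet.mp (hiff.mpr h))).symm)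
    · rw [← h]; exact hiff.mp (hdet.mpr (hiff'.mpr h'))
  subst hgg
  exact congr_trans M M' _ e e' he he'

/-- Invertible alternating matrices of the same size are congruent. -/
theorem exists_congr_alt (h2 : (2 : F) ≠ 0) {n : Type} [Fintype n] [DecidableEq n] (M M' : Matrix n n F)
    (hM : Mᵀ = -M) (hM' : M'ᵀ = -M') (hu : IsUnit M) (hu' : IsUnit M') :
    ∃ B : Matrix n n F, IsUnit B ∧ Bᵀ * M * B = M' := by
  have key : ∀ N : Matrix n n F, Nᵀ = -N → IsUnit N → ∃ (l : ℕ) (e : ((Fin l ⊕ Fin l) ⊕ Fin 0 → F) ≃ₗ[F] (n → F)),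
      2 * l = Fintype.card n ∧ ∀ x y, Matrix.toLinearMap₂' F N (e x) (e y) = altStd l 0 x y := by
    intro N hN hNu
    have hdiag : ∀ i, N i i = 0 := fun i => by
      have h1 : N i i = -N i i := congrFun (congrFun hN i) i
      exact (mul_eq_zero.mp (show (2 : F) * N i i = 0 by linear_combination h1)).resolve_left h2
    obtain ⟨l, k, e, he⟩ := exists_symplectic_equiv _ (Unip.toLinearMap₂'_isAlt hN hdiag)
    obtain rfl : k = 0 := by
      by_contra hk
      have h1 : e (Pi.single (.inr ⟨0, Nat.pos_of_ne_zero hk⟩) 1) = 0 :=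
        (Unip.toLinearMap₂'_nondegenerate ((Matrix.isUnit_iff_isUnit_det _).mp hNu)).1 _ fun y => by
          obtain ⟨z, rfl⟩ := e.surjective y
          rw [he]
          simp [altStd]
      simpa using congrFun (e.map_eq_zero_iff.1 h1) (.inr ⟨0, Nat.pos_of_ne_zero hk⟩)
    refine ⟨l, e, ?_, he⟩
    have := e.finrank_eq
    simp at this
    omega
  obtain ⟨l, e, hl, he⟩ := key M hM hu
  obtain ⟨l', e', hl', he'⟩ := key M' hM' hu'
  obtain rfl : l = l' := by omega
  let B : LinearMap.BilinForm F ((Fin l ⊕ Fin l) ⊕ Fin 0 → F) :=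
    (Matrix.toLinearMap₂' F M).compl₁₂ (e : _ →ₗ[F] n → F) (e : _ →ₗ[F] n → F)
  refine congr_trans M M' ((Matrix.toLinearMap₂' F).symm B) e e' (fun x y => ?_) (fun x y => ?_)
  · rw [LinearEquiv.apply_symm_apply]; rfl
  · rw [LinearEquiv.apply_symm_apply, he']
    exact (he x y).symm

end Cfsg.Agent.Forms.UnipCls
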