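import Cfsg.Agent.Lib.Forms.Symplectic
import Cfsg.Agent.Lib.Jordan.Classes
import Cfsg.Agent.Lib.GLOrder.Symplectic
/-
Jordan types of unipotent isometries.
* `even_rank_pair` : the parity condition, from the ranks of the powers of `f - 1`
* `Realizes ε D` : the type `D` occurs for an `ε`-symmetric form; `realizes_of_parity`
* `realizes_pair`, `realizes_single_odd` : the building blocks
* `similar_of_ranks`, `rank_eq_of_similar` : types and similarity
-/

set_option autoImplicit false
set_option linter.unusedSectionVars false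

namespace Cfsg.Agent.Forms.Unip

open Module Matrix

variable {F : Type*} [Field F]

/-! ### The parity condition -/

section Parity

variable {V : Type*} [AddCommGroup V] [Module F V]

/-- `f - 1`. -/
abbrev nilPart (f : V ≃ₗ[F] V) : Module.End F V := (f : V →ₗ[F] V) - 1

theorem commute_symm (f : V ≃ₗ[F] V) : Commute (f.symm : Module.End F V) (nilPart f) := by
  refine LinearMap.ext fun x => ?_
  simp [nilPart, Module.End.mul_apply, map_sub]

variable (B : LinearMap.BilinForm F V) {f : V ≃ₗ[F] V}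

theorem adjoint_pow (hf : ∀ x y, B (f x) (f y) = B x y) (r : ℕ) : ∀ x y : V,
    B ((nilPart f ^ r) x) y = (-1) ^ r * B x (((f.symm : Module.End F V) ^ r * nilPart f ^ r) y) := by
  induction r with
  | zero => intro x y; simp
  | succ r ih =>
    intro x y
    set G : Module.End F V := (f.symm : Module.End F V) with hG
    rw [pow_succ, Module.End.mul_apply, ih]
    set w := (G ^ r * nilPart f ^ r) y with hw
    have h1 : B (nilPart f x) w = -B x ((G * nilPart f) w) := by
      have h2 : B (f x) w = B x (f.symm w) := by rw [← hf x, f.apply_symm_apply]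
      have h3 : (G * nilPart f) w = w - f.symm w := by
        simp [hG, nilPart, Module.End.mul_apply, map_sub]
      rw [h3, show nilPart f x = f x - x from rfl, map_sub, LinearMap.sub_apply, h2, map_sub]
      ring
    rw [h1, hw, ← Module.End.mul_apply, show G * nilPart f * (G ^ r * nilPart f ^ r)
      = G ^ (r + 1) * nilPart f ^ (r + 1) by
        rw [mul_assoc, ← mul_assoc (nilPart f), ((commute_symm f).pow_left r).symm.eq,
          mul_assoc (G ^ r), ← mul_assoc, ← pow_succ', ← pow_succ'], pow_succ (-1 : F), pow_succ (nilPart f),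
      pow_succ G]
    ring

theorem symm_pow_fix {z : V} (hz : nilPart f z = 0) (r : ℕ) :
    (((f.symm : Module.End F V)) ^ r) z = z := by
  induction r with
  | zero => rfl
  | succ r ih =>
    rw [pow_succ, Module.End.mul_apply]
    have h : f z = z := sub_eq_zero.1 hz
    rw [show (f.symm : Module.End F V) z = z from (by rw [LinearEquiv.coe_coe, f.symm_apply_eq, h]), ih]

theorem alt_of_isAlt (hf : ∀ x y, B (f x) (f y) = B x y) (halt : B.IsAlt) {i : ℕ} (hi : Even i)
    (x : V) (hx : (nilPart f ^ (i + 1)) x = 0) : B x ((nilPart f ^ i) x) = 0 := by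
  obtain ⟨r, rfl⟩ := hi
  have h := adjoint_pow B hf r x ((nilPart f ^ r) x)
  rw [halt, Module.End.mul_apply, ← Module.End.mul_apply (nilPart f ^ r), ← pow_add, symm_pow_fix (by
    rw [← Module.End.mul_apply, ← pow_succ', hx])] at h
  exact (mul_eq_zero.1 h.symm).resolve_left (pow_ne_zero _ (neg_ne_zero.2 one_ne_zero))

theorem alt_of_symm (hf : ∀ x y, B (f x) (f y) = B x y) (h2 : (2 : F) ≠ 0)
    (hs : ∀ x y, B x y = B y x) {i : ℕ} (hi : Odd i) (x : V)
    (hx : (nilPart f ^ (i + 1)) x = 0) : B x ((nilPart f ^ i) x) = 0 := by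
  have h := adjoint_pow B hf i x x
  rw [Module.End.mul_apply, symm_pow_fix (by rw [← Module.End.mul_apply, ← pow_succ', hx]),
    hs _ x, Odd.neg_one_pow hi, neg_one_mul] at h
  have h' : (2 : F) * B x ((nilPart f ^ i) x) = 0 := by linear_combination h
  exact (mul_eq_zero.1 h').resolve_left h2

/-- The number of blocks of size `i + 1` is even. -/
theorem even_rank_pair [FiniteDimensional F V] (hB : B.Nondegenerate) (hrefl : B.IsRefl)
    (hf : ∀ x y, B (f x) (f y) = B x y) (i : ℕ)
    (halt : ∀ x, (nilPart f ^ (i + 1)) x = 0 → B x ((nilPart f ^ i) x) = 0) :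
    Even (finrank F (LinearMap.range (nilPart f ^ i))
      + finrank F (LinearMap.range (nilPart f ^ (i + 2)))) := by
  set N := nilPart f with hN
  set K := LinearMap.ker (N ^ (i + 1)) with hK
  -- the orthogonal of `K` is the range of `N ^ (i + 1)`
  have hperp : B.orthogonal (LinearMap.range (N ^ (i + 1))) = K := by
    ext x
    rw [LinearMap.BilinForm.mem_orthogonal_iff, hK, LinearMap.mem_ker]
    have hinj : Function.Injective ((f.symm : Module.End F V) ^ (i + 1)) := by
      rw [Module.End.coe_pow]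
      exact Function.Injective.iterate f.symm.injective _
    have key : ∀ v, B ((N ^ (i + 1)) v) x = (-1) ^ (i + 1) *
        B v (((f.symm : Module.End F V) ^ (i + 1)) ((N ^ (i + 1)) x)) := fun v => adjoint_pow B hf (i + 1) v x
    constructor
    · intro h
      refine hinj (Eq.trans ?_ (map_zero _).symm)
      refine hB.2 _ fun v => ?_
      have h1 : B ((N ^ (i + 1)) v) x = 0 := h _ (LinearMap.mem_range_self _ v)
      rw [key] at h1
      exact (mul_eq_zero.1 h1).resolve_left (pow_ne_zero _ (neg_ne_zero.2 one_ne_zero))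
    · intro h
      rintro _ ⟨v, rfl⟩
      show B _ x = 0
      rw [key, h, map_zero, map_zero, mul_zero]
  have hKperp : B.orthogonal K = LinearMap.range (N ^ (i + 1)) := by
    rw [← hperp, LinearMap.BilinForm.orthogonal_orthogonal hB hrefl]
  -- the alternating form on `K`
  let β : LinearMap.BilinForm F K := (LinearMap.BilinForm.restrict (B.compl₂ (N ^ i)) K).flip
  have hβ : ∀ x y : K, β x y = B (y : V) ((N ^ i) (x : V)) := fun x y => rfl
  obtain ⟨l, hl⟩ := even_finrank_sub_ker β fun x => halt x x.2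
  set A1 := LinearMap.ker N ⊓ LinearMap.range (N ^ (i + 1)) with hA1
  have hmem : ∀ x : LinearMap.ker β, (N ^ i) ((x : K) : V) ∈ A1 := by
    rintro ⟨⟨x, hx⟩, hxβ⟩
    refine ⟨?_, ?_⟩
    · show N ((N ^ i) x) = 0
      rw [← Module.End.mul_apply, ← pow_succ']
      exact hx
    · rw [← hKperp, SetLike.mem_coe, LinearMap.BilinForm.mem_orthogonal_iff]
      intro y hy
      exact LinearMap.congr_fun (LinearMap.mem_ker.1 hxβ) ⟨y, hy⟩
  let ψ : LinearMap.ker β →ₗ[F] A1 :=
    (((N ^ i).comp K.subtype).comp (LinearMap.ker β).subtype).codRestrict A1 hmem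
  have hψ : LinearMap.range ψ = ⊤ := by
    rw [LinearMap.range_eq_top]
    rintro ⟨z, hz1, v, hv⟩
    have hvK : N v ∈ K := by
      rw [hK, LinearMap.mem_ker, ← Module.End.mul_apply, ← pow_succ, pow_succ', Module.End.mul_apply, hv]
      exact hz1
    have hx : (⟨N v, hvK⟩ : K) ∈ LinearMap.ker β := by
      rw [LinearMap.mem_ker]
      refine LinearMap.ext fun y => ?_
      rw [hβ, LinearMap.zero_apply, ← Module.End.mul_apply, ← pow_succ]
      have h1 : (N ^ (i + 1)) v ∈ B.orthogonal K := hKperp ▸ LinearMap.mem_range_self _ v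
      exact h1 _ y.2
    refine ⟨⟨⟨N v, hvK⟩, hx⟩, Subtype.ext ?_⟩
    show (N ^ i) (N v) = z
    rw [← Module.End.mul_apply, ← pow_succ]
    exact hv
  have hkψ : finrank F (LinearMap.ker ψ) = finrank F (LinearMap.ker (N ^ i)) := by
    have hle : ∀ x : LinearMap.ker (N ^ i), (x : V) ∈ K := fun x => by
      rw [hK, LinearMap.mem_ker, pow_succ', Module.End.mul_apply, LinearMap.mem_ker.1 x.2, map_zero]
    have hin : ∀ x : LinearMap.ker (N ^ i), (⟨x, hle x⟩ : K) ∈ LinearMap.ker β := fun x => by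
      rw [LinearMap.mem_ker]
      refine LinearMap.ext fun y => ?_
      rw [hβ, LinearMap.zero_apply]
      show B (y : V) ((N ^ i) (x : V)) = 0
      rw [LinearMap.mem_ker.1 x.2, map_zero]
    refine LinearEquiv.finrank_eq
      { toFun := fun x => ⟨((x.1 : K) : V), by
          rw [LinearMap.mem_ker]; exact congrArg Subtype.val (LinearMap.mem_ker.1 x.2)⟩
        invFun := fun x => ⟨⟨⟨x, hle x⟩, hin x⟩, Subtype.ext (LinearMap.mem_ker.1 x.2)⟩
        map_add' := fun _ _ => rfl
        map_smul' := fun _ _ => rfl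
        left_inv := fun _ => rfl
        right_inv := fun _ => rfl }
  have e1 := LinearMap.finrank_range_add_finrank_ker ψ
  rw [hψ, finrank_top, hkψ] at e1
  have e2 := LinearMap.finrank_range_add_finrank_ker (N.domRestrict (LinearMap.range (N ^ (i + 1))))
  rw [LinearMap.range_domRestrict, ← LinearMap.range_comp,
    show N.comp (N ^ (i + 1)) = N ^ (i + 2) from (pow_succ' N (i + 1)).symm,
    LinearMap.ker_domRestrict] at e2
  have e3 : finrank F ↥(Submodule.comap (LinearMap.range (N ^ (i + 1))).subtype (LinearMap.ker N))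
      = finrank F A1 := by
    rw [← Submodule.finrank_map_subtype_eq, Submodule.map_comap_subtype, hA1, inf_comm]
  rw [e3] at e2
  have e4 := LinearMap.finrank_range_add_finrank_ker (N ^ (i + 1))
  have e5 := LinearMap.finrank_range_add_finrank_ker (N ^ i)
  have e6 := Submodule.finrank_le (LinearMap.ker β)
  rw [← hK] at e4
  rw [Nat.even_iff]
  omega

end Parity

/-! ### Realisations -/

/-- The type `D` occurs among the unipotent isometries of `ε`-symmetric forms. -/
def Realizes (F : Type*) [Field F] (ε : F) (D : Multiset ℕ) : Prop :=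
  ∃ (ι : Type) (_ : Fintype ι) (_ : DecidableEq ι) (S A : Matrix ι ι F),
    IsUnit S.det ∧ Sᵀ = ε • S ∧ (ε = -1 → ∀ i, S i i = 0) ∧ Aᵀ * S * A = S ∧
      Fintype.card ι = D.sum ∧ ∀ r, ((A - 1) ^ r).rank = (D.map fun a => a - r).sum

theorem rank_fromBlocks {ι κ : Type*} [Fintype ι] [Fintype κ] [DecidableEq ι] [DecidableEq κ]
    (P : Matrix ι ι F) (R : Matrix κ κ F) :
    (Matrix.fromBlocks P 0 0 R).rank = P.rank + R.rank := by
  let e := LinearEquiv.sumArrowLequivProdArrow ι κ F F
  have h : (Matrix.fromBlocks P 0 0 R).mulVecLin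
      = e.symm.toLinearMap ∘ₗ (P.mulVecLin.prodMap R.mulVecLin) ∘ₗ e.toLinearMap := by
    apply LinearMap.ext
    intro v
    funext i
    rcases i with i | i <;>
      simp [Matrix.fromBlocks_mulVec, e, LinearEquiv.sumArrowLequivProdArrow,
        Equiv.sumArrowEquivProdArrow, Function.comp_def]
  rw [Matrix.rank, h, LinearMap.range_comp, LinearEquiv.finrank_map_eq, LinearMap.range_comp,
    LinearEquiv.range, Submodule.map_top, LinearMap.range_prodMap]
  let e2 : ((LinearMap.range P.mulVecLin).prod (LinearMap.range R.mulVecLin) :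
      Submodule F ((ι → F) × (κ → F))) ≃ₗ[F]
      (LinearMap.range P.mulVecLin × LinearMap.range R.mulVecLin) :=
    { toFun := fun x => (⟨x.1.1, x.2.1⟩, ⟨x.1.2, x.2.2⟩)
      invFun := fun y => ⟨(y.1.1, y.2.1), y.1.2, y.2.2⟩
      map_add' := fun _ _ => rfl
      map_smul' := fun _ _ => rfl
      left_inv := fun _ => rfl
      right_inv := fun _ => rfl }
  rw [e2.finrank_eq, Module.finrank_prod]
  rfl

theorem fromBlocks_sub_one {ι κ : Type*} [DecidableEq ι] [DecidableEq κ] (P : Matrix ι ι F)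
    (R : Matrix κ κ F) :
    Matrix.fromBlocks P 0 0 R - 1 = Matrix.fromBlocks (P - 1) 0 0 (R - 1) := by
  rw [← Matrix.fromBlocks_one, sub_eq_add_neg, Matrix.fromBlocks_neg, Matrix.fromBlocks_add]
  simp [sub_eq_add_neg]

theorem fromBlocks_diag_pow {ι κ : Type*} [Fintype ι] [Fintype κ] [DecidableEq ι] [DecidableEq κ]
    (P : Matrix ι ι F) (R : Matrix κ κ F) (r : ℕ) :
    Matrix.fromBlocks P 0 0 R ^ r = Matrix.fromBlocks (P ^ r) 0 0 (R ^ r) := by
  induction r with
  | zero => simp
  | succ r ih => rw [pow_succ, ih, Matrix.fromBlocks_multiply]; simp [pow_succ]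

theorem realizes_add {ε : F} {D E : Multiset ℕ} (hD : Realizes F ε D) (hE : Realizes F ε E) :
    Realizes F ε (D + E) := by
  obtain ⟨ι, _, _, S, A, hS, hS1, hS2, hA, hc, hr⟩ := hD
  obtain ⟨κ, _, _, T, C, hT, hT1, hT2, hC, hc', hr'⟩ := hE
  refine ⟨ι ⊕ κ, inferInstance, inferInstance, Matrix.fromBlocks S 0 0 T, Matrix.fromBlocks A 0 0 C,
    ?_, ?_, fun h => ?_, ?_, ?_, fun r => ?_⟩
  · rw [Matrix.det_fromBlocks_zero₂₁]; exact hS.mul hT
  · rw [Matrix.fromBlocks_transpose, hS1, hT1, Matrix.fromBlocks_smul]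
    simp
  · rintro (i | i)
    · exact hS2 h i
    · exact hT2 h i
  · rw [Matrix.fromBlocks_transpose, Matrix.fromBlocks_multiply, Matrix.fromBlocks_multiply]
    simp [hA, hC]
  · rw [Fintype.card_sum, hc, hc', Multiset.sum_add]
  · rw [fromBlocks_sub_one, fromBlocks_diag_pow, rank_fromBlocks, hr, hr', Multiset.map_add,
      Multiset.sum_add]

theorem realizes_zero (ε : F) : Realizes F ε 0 := by
  refine ⟨Fin 0, inferInstance, inferInstance, 1, 1, by simp, Subsingleton.elim _ _, fun _ i => i.elim0,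
    by simp, by simp, fun r => ?_⟩
  rw [Subsingleton.elim ((1 - 1 : Matrix (Fin 0) (Fin 0) F) ^ r) 0, Matrix.rank_zero]
  simp

/-- The nilpotent block. -/
def shiftMat (F : Type*) [Field F] (d : ℕ) : Matrix (Fin d) (Fin d) F :=
  Matrix.of fun i j => if (i : ℕ) = j + 1 then 1 else 0

theorem rank_shiftMat_pow (d r : ℕ) : (shiftMat F d ^ r).rank = d - r := by
  let σ : (_ : Fin 1) × Fin d ≃ Fin d := Equiv.uniqueSigma fun _ => Fin d
  have h : shiftMat F d = Matrix.reindexAlgEquiv F F σ (Jordan.NT F fun _ : Fin 1 => d) := by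
    ext i j
    simp [σ, shiftMat, Jordan.NT_apply, Matrix.reindexAlgEquiv_apply, Equiv.uniqueSigma]
  rw [h, ← map_pow, Matrix.reindexAlgEquiv_apply, Matrix.rank_reindex, Jordan.rank_NT_pow]
  simp

theorem shiftMat_pow_self (d : ℕ) : shiftMat F d ^ d = 0 := by
  let σ : (_ : Fin 1) × Fin d ≃ Fin d := Equiv.uniqueSigma fun _ => Fin d
  have h : shiftMat F d = Matrix.reindexAlgEquiv F F σ (Jordan.NT F fun _ : Fin 1 => d) := by
    ext i j
    simp [σ, shiftMat, Jordan.NT_apply, Matrix.reindexAlgEquiv_apply, Equiv.uniqueSigma]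
  rw [h, ← map_pow, (Jordan.NT_pow_eq_zero_iff _ _).2 fun _ => le_rfl, map_zero]

/-- A pair of blocks of equal size. -/
theorem realizes_pair {ε : F} (hε : ε * ε = 1) (d : ℕ) : Realizes F ε {d, d} := by
  have hu := IsNilpotent.isUnit_one_add (r := shiftMat F d) ⟨d, shiftMat_pow_self d⟩
  obtain ⟨J, hJ⟩ := hu
  set J' : Matrix (Fin d) (Fin d) F := ((J⁻¹ : (Matrix (Fin d) (Fin d) F)ˣ) : Matrix (Fin d) (Fin d) F)ᵀ
  refine ⟨Fin d ⊕ Fin d, inferInstance, inferInstance, Matrix.fromBlocks 0 1 (ε • 1) 0,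
    Matrix.fromBlocks (J : Matrix (Fin d) (Fin d) F) 0 0 J', ?_, ?_, fun _ => ?_, ?_, by simp, fun r => ?_⟩
  · refine IsUnit.of_mul_eq_one (Matrix.fromBlocks 0 (ε • (1 : Matrix (Fin d) (Fin d) F)) 1 0).det ?_
    rw [← Matrix.det_mul, Matrix.fromBlocks_multiply]
    simp [smul_smul, hε]
  · rw [Matrix.fromBlocks_transpose, Matrix.fromBlocks_smul]
    simp [smul_smul, hε]
  · rintro (i | i) <;> simp
  · rw [Matrix.fromBlocks_transpose, Matrix.fromBlocks_multiply, Matrix.fromBlocks_multiply]
    simp [J', ← Matrix.transpose_mul]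
  · have h1 : (J : Matrix (Fin d) (Fin d) F) - 1 = shiftMat F d := by rw [hJ, add_sub_cancel_left]
    have h2 : J' - 1 = (-((J⁻¹ : (Matrix (Fin d) (Fin d) F)ˣ) : Matrix (Fin d) (Fin d) F) * shiftMat F d)ᵀ := by
      rw [← h1, neg_mul, mul_sub, Units.inv_mul, mul_one, neg_sub, Matrix.transpose_sub,
        Matrix.transpose_one]
    have hc : Commute (-((J⁻¹ : (Matrix (Fin d) (Fin d) F)ˣ) : Matrix (Fin d) (Fin d) F)) (shiftMat F d) := by
      refine Commute.neg_left (Commute.units_inv_left ?_)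
      rw [hJ]
      exact (Commute.one_left _).add_left (Commute.refl _)
    rw [fromBlocks_sub_one, fromBlocks_diag_pow, rank_fromBlocks, h1, h2, ← Matrix.transpose_pow,
      Matrix.rank_transpose, hc.mul_pow, Matrix.rank_mul_eq_right_of_isUnit_det _ _
        ((Matrix.isUnit_iff_isUnit_det _).1 ((J⁻¹).isUnit.neg.pow r)), rank_shiftMat_pow]
    simp

/-- A single block of odd size, in odd characteristic. -/
theorem realizes_single_odd (h2 : (2 : F) ≠ 0) (k : ℕ) : Realizes F (1 : F) {2 * k + 1} := by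
  set d := 2 * k + 1 with hd
  set L := shiftMat F d with hL
  let S : Matrix (Fin d) (Fin d) F :=
    Matrix.of fun i j => if (i : ℕ) + j = 2 * k then (-1) ^ (i : ℕ) else 0
  have hSk : Lᵀ * S = -(S * L) := by
    ext i j
    rw [Matrix.mul_apply, Matrix.neg_apply, Matrix.mul_apply]
    simp only [hL, shiftMat, S, Matrix.transpose_apply, Matrix.of_apply]
    by_cases h : (i : ℕ) + j + 1 = 2 * k
    · rw [Finset.sum_eq_single (⟨(i : ℕ) + 1, by omega⟩ : Fin d),
        Finset.sum_eq_single (⟨(j : ℕ) + 1, by omega⟩ : Fin d)]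
      · rw [if_pos rfl, if_pos (by simp; omega), if_pos (by simp; omega), if_pos rfl]
        simp [pow_succ]
      · intro x _ hx
        rw [if_neg (fun h' => hx (Fin.ext h')), mul_comm]
        simp [show ¬ (x : ℕ) = j + 1 from fun h' => hx (Fin.ext h')]
      · simp
      · intro x _ hx
        rw [if_neg (fun h' => hx (Fin.ext h')), zero_mul]
      · simp
    · rw [Finset.sum_eq_zero, Finset.sum_eq_zero, neg_zero] <;> intro x _
      · by_cases hx : (x : ℕ) = j + 1
        · rw [if_neg (by omega), zero_mul]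
        · rw [if_neg hx, mul_zero]
      · by_cases hx : (x : ℕ) = i + 1
        · rw [mul_comm, if_neg (by omega), zero_mul]
        · rw [if_neg hx, zero_mul]
  obtain ⟨U, hU⟩ := IsNilpotent.isUnit_one_sub (r := L) ⟨d, shiftMat_pow_self d⟩
  have hkey : (1 + L)ᵀ * S * (1 + L) = (1 - L)ᵀ * S * (1 - L) := by
    simp only [Matrix.transpose_add, Matrix.transpose_sub, Matrix.transpose_one, Matrix.add_mul,
      Matrix.sub_mul, Matrix.one_mul, hSk, Matrix.mul_add, Matrix.mul_sub, Matrix.mul_one,
      Matrix.neg_mul]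
    abel
  set Ui : Matrix (Fin d) (Fin d) F := ((U⁻¹ : (Matrix (Fin d) (Fin d) F)ˣ) : Matrix (Fin d) (Fin d) F) with hUi
  refine ⟨Fin d, inferInstance, inferInstance, S, (1 + L) * Ui, ?_, ?_, fun h => absurd h fun h' =>
    h2 (by linear_combination h'), ?_, by simp, fun r => ?_⟩
  · refine IsUnit.of_mul_eq_one S.det ?_
    rw [← Matrix.det_mul, show S * S = 1 from ?_, Matrix.det_one]
    ext i j
    rw [Matrix.mul_apply, Finset.sum_eq_single (⟨2 * k - (i : ℕ), by omega⟩ : Fin d)]
    · by_cases hij : i = j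
      · subst hij
        have := i.2
        simp only [S, Matrix.of_apply, Matrix.one_apply_eq]
        rw [if_pos (by omega), if_pos (by omega), ← pow_add, Even.neg_one_pow ⟨k, by omega⟩]
      · have := i.2
        have hne : ¬ (i : ℕ) = j := fun h => hij (Fin.ext h)
        simp only [S, Matrix.of_apply, Matrix.one_apply_ne hij]
        rw [if_neg (show ¬ 2 * k - (i : ℕ) + j = 2 * k by omega), mul_zero]
    · intro x _ hx
      simp only [S, Matrix.of_apply]
      rw [if_neg (fun h => hx (Fin.ext (by simp; omega))), zero_mul]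
    · simp
  · ext i j
    simp only [S, Matrix.transpose_apply, Matrix.smul_apply, Matrix.of_apply, smul_eq_mul, one_mul]
    by_cases h : (i : ℕ) + j = 2 * k
    · rw [if_pos (by omega), if_pos h]
      rcases Nat.even_or_odd (i : ℕ) with hi | hi
      · rw [Even.neg_one_pow hi, Even.neg_one_pow (by rw [Nat.even_iff] at hi ⊢; omega)]
      · rw [Odd.neg_one_pow hi, Odd.neg_one_pow (by rw [Nat.odd_iff] at hi ⊢; omega)]
    · rw [if_neg (by omega), if_neg h]
  · calc ((1 + L) * Ui)ᵀ * S * ((1 + L) * Ui) = Uiᵀ * ((1 + L)ᵀ * S * (1 + L)) * Ui := by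
          rw [Matrix.transpose_mul]; simp only [Matrix.mul_assoc]
      _ = Uiᵀ * ((U : Matrix (Fin d) (Fin d) F)ᵀ * S * (U : Matrix (Fin d) (Fin d) F)) * Ui := by
          rw [hkey, hU]
      _ = ((U : Matrix (Fin d) (Fin d) F) * Ui)ᵀ * S * ((U : Matrix (Fin d) (Fin d) F) * Ui) := by
          rw [Matrix.transpose_mul]; simp only [Matrix.mul_assoc]
      _ = S := by rw [hUi, Units.mul_inv]; simp
  · have h1 : (1 + L) * Ui - 1 = ((2 : F) • Ui) * L := by
      have hc : Ui * L = L * Ui := by
        refine (Commute.units_inv_left ?_ : Commute Ui L).eq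
        rw [hU]
        exact (Commute.one_left _).sub_left (Commute.refl _)
      have h3 : (U : Matrix (Fin d) (Fin d) F) * Ui = 1 := Units.mul_inv U
      rw [hU] at h3
      calc (1 + L) * Ui - 1 = (1 + L) * Ui - (1 - L) * Ui := by rw [h3]
        _ = (2 : F) • (L * Ui) := by rw [two_smul, add_mul, sub_mul]; abel
        _ = ((2 : F) • Ui) * L := by rw [Matrix.smul_mul, hc]
    have hc2 : Commute ((2 : F) • Ui) L := by
      refine Commute.smul_left (Commute.units_inv_left ?_) _
      rw [hU]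
      exact (Commute.one_left _).sub_left (Commute.refl _)
    rw [h1, hc2.mul_pow, Matrix.rank_mul_eq_right_of_isUnit_det _ _ ?_, hL, rank_shiftMat_pow]
    · simp
    · refine (Matrix.isUnit_iff_isUnit_det _).1 (IsUnit.pow r ?_)
      exact IsUnit.smul (Units.mk0 (2 : F) h2) (U⁻¹).isUnit

/-- All admissible types are realised. -/
theorem realizes_of_parity {ε : F} (hε : ε * ε = 1) (good : ℕ → Prop)
    (hsingle : ∀ a, good a → Realizes F ε {a}) (D : Multiset ℕ)
    (hD : ∀ a ∈ D, ¬ good a → Even (D.count a)) : Realizes F ε D := by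
  obtain ⟨n, hn⟩ : ∃ n, D.card = n := ⟨_, rfl⟩
  induction n using Nat.strong_induction_on generalizing D with
  | _ n ih =>
    rcases D.empty_or_exists_mem with rfl | ⟨a, ha⟩
    · exact realizes_zero ε
    obtain ⟨E, rfl⟩ := Multiset.exists_cons_of_mem ha
    by_cases hg : good a
    · rw [← Multiset.singleton_add]
      refine realizes_add (hsingle a hg) (ih E.card ?_ E (fun b hb hbg => ?_) rfl)
      · rw [← hn, Multiset.card_cons]; omega
      · have := hD b (Multiset.mem_cons_of_mem hb) hbg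
        rwa [Multiset.count_cons_of_ne fun h => hbg (by rw [h]; exact hg)] at this
    · have h1 := hD a (Multiset.mem_cons_self a E) hg
      rw [Multiset.count_cons_self] at h1
      have haE : a ∈ E := Multiset.count_pos.1 (by rw [Nat.even_iff] at h1; omega)
      obtain ⟨E', rfl⟩ := Multiset.exists_cons_of_mem haE
      rw [show a ::ₘ a ::ₘ E' = {a, a} + E' by simp]
      refine realizes_add (realizes_pair hε a) (ih E'.card ?_ E' (fun b hb hbg => ?_) rfl)
      · rw [← hn, Multiset.card_cons, Multiset.card_cons]; omega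
      · have := hD b (Multiset.mem_cons_of_mem (Multiset.mem_cons_of_mem hb)) hbg
        by_cases hba : b = a
        · subst hba
          rw [Multiset.count_cons_self, Multiset.count_cons_self] at this
          rw [Nat.even_iff] at this ⊢
          omega
        · rwa [Multiset.count_cons_of_ne hba, Multiset.count_cons_of_ne hba] at this

/-! ### Types and similarity -/

theorem jordanTypeMatrix_eq {t : ℕ} (d : Fin t → ℕ) :
    Cfsg.jordanTypeMatrix d F = 1 + Jordan.NT F d := by
  ext ⟨l, i⟩ ⟨k, j⟩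
  rw [Cfsg.jordanTypeMatrix, Matrix.add_apply, Jordan.NT_apply, Matrix.one_apply, Matrix.blockDiagonal'_apply']
  by_cases h : l = k
  · subst h
    simp only [dif_pos, Jordan.mk_eq_mk, true_and, cast_eq, Cfsg.jordanBlock, Matrix.of_apply]
    split_ifs with h1 h2 h2 <;> first | omega | simp
  · simp [h, Jordan.mk_eq_mk]

theorem reindex_type_sub_one {ι : Type*} [Fintype ι] [DecidableEq ι] {t : ℕ} (d : Fin t → ℕ)
    (e : ((k : Fin t) × Fin (d k)) ≃ ι) :
    Matrix.reindex e e (Cfsg.jordanTypeMatrix d F) = 1 + Matrix.reindexAlgEquiv F F e (Jordan.NT F d) := by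
  rw [jordanTypeMatrix_eq, ← Matrix.reindexAlgEquiv_apply F F, map_add, map_one]

/-- Similar to the type `d` gives its ranks. -/
theorem rank_eq_of_similar {ι : Type*} [Fintype ι] [DecidableEq ι] {t : ℕ} (d : Fin t → ℕ)
    (e : ((k : Fin t) × Fin (d k)) ≃ ι) {A : Matrix ι ι F}
    (h : IsConj (Matrix.reindex e e (Cfsg.jordanTypeMatrix d F)) A) (r : ℕ) :
    ((A - 1) ^ r).rank = ∑ k, (d k - r) := by
  obtain ⟨c, hc⟩ := h
  rw [reindex_type_sub_one, SemiconjBy] at hc
  set M := Matrix.reindexAlgEquiv F F e (Jordan.NT F d) with hM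
  have h1 : SemiconjBy (c : Matrix ι ι F) M (A - 1) := by
    rw [SemiconjBy, sub_mul, one_mul, ← hc, mul_add, mul_one, add_sub_cancel_left]
  have h2 := (h1.pow_right r).eq
  have hdet : IsUnit (c : Matrix ι ι F).det := (Matrix.isUnit_iff_isUnit_det _).1 c.isUnit
  rw [← Matrix.rank_mul_eq_left_of_isUnit_det (c : Matrix ι ι F) ((A - 1) ^ r) hdet, ← h2,
    Matrix.rank_mul_eq_right_of_isUnit_det _ _ hdet, hM, ← map_pow, Matrix.reindexAlgEquiv_apply,
    Matrix.rank_reindex, Jordan.rank_NT_pow]

/-- The ranks determine the similarity class. -/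
theorem similar_of_ranks {ι : Type*} [Fintype ι] [DecidableEq ι] {t : ℕ} (d : Fin t → ℕ)
    (hd : ∀ k, 1 ≤ d k) (A : Matrix ι ι F) (hr : ∀ r, ((A - 1) ^ r).rank = ∑ k, (d k - r)) :
    ∃ e : ((k : Fin t) × Fin (d k)) ≃ ι, IsConj (Matrix.reindex e e (Cfsg.jordanTypeMatrix d F)) A := by
  classical
  let σ := Fintype.equivFin ι
  set n := Fintype.card ι
  set N : Matrix (Fin n) (Fin n) F := Matrix.reindexAlgEquiv F F σ (A - 1) with hN
  have hNr : ∀ r, (N ^ r).rank = ∑ k, (d k - r) := fun r => by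
    rw [hN, ← map_pow, Matrix.reindexAlgEquiv_apply, Matrix.rank_reindex, hr]
  have hnil : IsNilpotent N := by
    refine ⟨Finset.univ.sup d, ?_⟩
    have h0 : (N ^ Finset.univ.sup d).rank = 0 := by
      rw [hNr]
      exact Finset.sum_eq_zero fun k _ => Nat.sub_eq_zero_of_le (Finset.le_sup (Finset.mem_univ k))
    rw [Matrix.rank, Submodule.finrank_eq_zero, LinearMap.range_eq_bot] at h0
    exact Matrix.ext_iff_mulVec.2 fun v => by
      have := LinearMap.congr_fun h0 v
      simpa using this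
  obtain ⟨t', d', e', P, hd', hP⟩ := Jordan.exists_type N hnil
  have hr' : ∀ r, (Jordan.NT F d ^ r).rank = (Jordan.NT F d' ^ r).rank := fun r => by
    have h1 : SemiconjBy (P : Matrix (Fin n) (Fin n) F) (Matrix.reindex e' e' (Jordan.NT F d')) N := hP.symm
    have hdet : IsUnit (P : Matrix (Fin n) (Fin n) F).det := (Matrix.isUnit_iff_isUnit_det _).1 P.isUnit
    rw [Jordan.rank_NT_pow, ← hNr, ← Matrix.rank_mul_eq_left_of_isUnit_det _ (N ^ r) hdet,
      ← (h1.pow_right r).eq, Matrix.rank_mul_eq_right_of_isUnit_det _ _ hdet,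
      ← Matrix.reindexAlgEquiv_apply F F, ← map_pow, Matrix.reindexAlgEquiv_apply, Matrix.rank_reindex]
  obtain ⟨π, hπ⟩ := Jordan.exists_equiv_of_map_eq d d' (Jordan.parts_eq_of_rank d d' hd hd' hr')
  obtain ⟨E, hE⟩ := Jordan.reindex_NT_congr (F := F) d d' π hπ
  refine ⟨E.trans (e'.trans σ.symm),
    ((Units.map (Matrix.reindexAlgEquiv F F σ.symm : Matrix (Fin n) (Fin n) F ≃ₐ[F] Matrix ι ι F)
      P) : (Matrix ι ι F)ˣ), ?_⟩
  rw [reindex_type_sub_one, SemiconjBy, Units.coe_map]
  have hX : Matrix.reindexAlgEquiv F F (E.trans (e'.trans σ.symm)) (Jordan.NT F d) =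
      Matrix.reindexAlgEquiv F F σ.symm (Matrix.reindex e' e' (Jordan.NT F d')) := by
    ext a b
    simp only [Matrix.reindexAlgEquiv_apply, Matrix.reindex_apply, Matrix.submatrix_apply,
      Equiv.symm_trans_apply, Equiv.symm_symm]
    rw [← hE, E.apply_symm_apply, E.apply_symm_apply]
  have hA : A = 1 + Matrix.reindexAlgEquiv F F σ.symm N := by
    rw [hN]
    ext a b
    simp [Matrix.reindexAlgEquiv_apply]
  rw [hX, hA]
  show Matrix.reindexAlgEquiv F F σ.symm (P : Matrix (Fin n) (Fin n) F) * (1 + _) =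
    (1 + _) * Matrix.reindexAlgEquiv F F σ.symm (P : Matrix (Fin n) (Fin n) F)
  rw [mul_add, add_mul, mul_one, one_mul, ← map_mul, ← map_mul, hP]

theorem even_count_of_rank {t : ℕ} (d : Fin t → ℕ) (i : ℕ)
    (h : Even ((∑ k, (d k - i)) + ∑ k, (d k - (i + 2)))) :
    Even (Finset.univ.filter fun k : Fin t => d k = i + 1).card := by
  have key : (∑ k, (d k - i)) + ∑ k, (d k - (i + 2))
      = (Finset.univ.filter fun k : Fin t => d k = i + 1).card + 2 * ∑ k, (d k - (i + 1)) := by
    rw [Finset.card_filter, Finset.mul_sum, ← Finset.sum_add_distrib, ← Finset.sum_add_distrib]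
    refine Finset.sum_congr rfl fun k _ => ?_
    split_ifs <;> omega
  rw [key, Nat.even_add] at h
  exact h.2 (even_two_mul _)

theorem nilPart_range_pow {ι : Type*} [Fintype ι] [DecidableEq ι] (A : Matrix ι ι F)
    (f : (ι → F) ≃ₗ[F] (ι → F)) (hf : ∀ x, f x = A.mulVec x) (r : ℕ) :
    finrank F (LinearMap.range (nilPart f ^ r)) = ((A - 1) ^ r).rank := by
  have h : nilPart f = Matrix.toLin' (A - 1) := LinearMap.ext fun x => by
    simp [nilPart, hf, Matrix.sub_mulVec]
  rw [h, ← Matrix.toLin'_pow]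
  rfl

end Cfsg.Agent.Forms.Unip
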